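import Cfsg.Agent.Chev.Tw.AutD4

/-! Two generators for the triality groups. -/

set_option autoImplicit false
set_option linter.unusedSectionVars false

open Cfsg.Lie

namespace Cfsg.Lib.Chev

namespace Tw

variable {D D' : ChevalleyDatum} {C C' : Cert} {W : TwDat} {T : List (List ℤ)} {F : Type*} [Field F]
variable (X : Tw D D' C C' W T F)

/-- A subgroup with all fundamental root subgroups and their opposites is everything. -/
theorem eq_top_of_roots {M : Subgroup ↥X.G1} (h1 : ∀ a : Fin W.nO, X.Ua a ≤ M)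
    (h2 : ∀ a : Fin W.nO, ∀ u ∈ X.Ua a, X.ns [a] * u * (X.ns [a])⁻¹ ∈ M) : M = ⊤ := by
  have hle : X.G1 ≤ M.map X.G1.subtype := by
    refine (Subgroup.closure_le _).2 ?_
    rintro g ⟨a, ha, c, hc, t, ht, rfl⟩
    rcases hc with rfl | rfl
    · exact ⟨_, h1 ⟨a, ha⟩ (X.ya_mem ⟨a, ha⟩ t), X.ya_val (a := ⟨a, ha⟩) ht⟩
    · obtain ⟨v, hv, -, hvt⟩ := X.exists_compat ha (t := t)
        ((X.allowed_iff ha (Or.inl rfl)).2 ((X.allowed_iff ha (Or.inr rfl)).1 ht))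
      obtain ⟨-, h3⟩ := X.orb_y_eq ha hv
      rw [hvt] at h3
      obtain ⟨h4, -⟩ := X.orb_y_eq ha (X.compat_neg hv)
      refine ⟨_, h2 ⟨a, ha⟩ _ (X.ya_mem ⟨a, ha⟩ (-v (X.hd ha))), ?_⟩
      show (X.ns [⟨a, ha⟩] * X.ya ⟨a, ha⟩ (-v (X.hd ha)) * (X.ns [⟨a, ha⟩])⁻¹).1 = X.y (X.orN a) t
      rw [Subgroup.coe_mul, Subgroup.coe_mul, Subgroup.coe_inv, ns_single, X.ya_val (a := ⟨a, ha⟩) h4.2, h4.1,
        X.nJ_conj_gP ha, h3.1]
      simp only [neg_neg]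
  rw [eq_top_iff]
  intro g _
  obtain ⟨g', hg', e⟩ := hle g.2
  exact (Subtype.ext e : g' = g) ▸ hg'

/-- The opposite root subgroup as a conjugate by the opposite representative. -/
theorem AutCtx.ns_Ua_le (A : AutCtx X) {p k : ℕ} [Fact p.Prime] (hk : 1 ≤ k) (hq : X.q = p ^ k)
    {M : Subgroup ↥X.G1} (hn : A.n0 ∈ M) {a : Fin W.nO} (ha : X.Ua a ≤ M) {u : ↥X.G1} (hu : u ∈ X.Ua a) :
    X.ns [a] * u * (X.ns [a])⁻¹ ∈ M := by
  haveI := X.finite
  have hle : (X.Ua a).map (MulAut.conj A.n0).toMonoidHom ≤ (X.Ua a).map (MulAut.conj (X.ns [a])).toMonoidHom := by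
    rintro _ ⟨w, hw, rfl⟩
    rw [← A.card_P_inf a hk hq]
    simp only [MulEquiv.coe_toMonoidHom, MulAut.conj_apply]
    refine Subgroup.mem_inf.2 ⟨?_, A.mem_Vs.2 (by simpa [mul_assoc] using X.Ug_le_Us _ hw)⟩
    have h1 := hw
    rw [← A.Ua_eq a hk hq] at h1
    have h2 := A.mem_Pneg.1 (Subgroup.mem_inf.1 h1).2
    have hT := A.Bs_le_P a (X.Ts_le_Bs A.n0_sq)
    have h3 := mul_mem (mul_mem hT h2) (inv_mem hT)
    convert h3 using 1
    group
  have he := Subgroup.eq_of_le_of_card_ge hle (by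
    rw [Subgroup.card_map_of_injective (MulAut.conj _).injective,
      Subgroup.card_map_of_injective (MulAut.conj _).injective])
  have : X.ns [a] * u * (X.ns [a])⁻¹ ∈ (X.Ua a).map (MulAut.conj A.n0).toMonoidHom := he.ge ⟨u, hu, rfl⟩
  obtain ⟨w, hw, e⟩ := this
  simp only [MulEquiv.coe_toMonoidHom, MulAut.conj_apply] at e
  rw [← e]
  exact mul_mem (mul_mem hn (ha hw)) (inv_mem hn)

/-- Characters transform with the roots under a word. -/
theorem chi_conj (K : List (Fin W.nO)) {s : ℕ} (hs : s < D.nroots) {t : ↥X.G1} {c c' : Fin D.rank → Fˣ}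
    (e : t.1 = Ok.tG D F c) (e' : (X.ns K * t * (X.ns K)⁻¹).1 = Ok.tG D F c') :
    ∏ i, c' i ^ D.cartan i (C.wL (W.flat (K.map Fin.val)) s) = ∏ i, c i ^ D.cartan i s := by
  set L := X.flatW K with hL
  have hw := X.flatW_val K
  have hr : C.wL (L.map Fin.val) s < D.nroots := X.S.wL_lt L hs
  have h1 := X.S.nL_conj (F := F) L hs
  obtain ⟨-, cc, hcc, ea⟩ := X.S.act_nL (F := F) L ⟨s, hs⟩
  have h2 : Ok.tG D F c' * X.S.ok.xG (C.wL (L.map Fin.val) s) ((C.sgnL (L.map Fin.val) s : F) * 1) *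
      (Ok.tG D F c')⁻¹ = X.S.ok.xG (C.wL (L.map Fin.val) s)
        ((C.sgnL (L.map Fin.val) s : F) * (((∏ i, c i ^ D.cartan i s : Fˣ) : F) * 1)) := by
    rw [← h1, ← h1, ← X.S.tG_conj_xG hs c 1, ← e', ← e]
    show (X.S.nL F L * t.1 * (X.S.nL F L)⁻¹) * _ * (X.S.nL F L * t.1 * (X.S.nL F L)⁻¹)⁻¹ = _
    group
  rw [X.S.tG_conj_xG hr, mul_one, mul_one] at h2
  have h3 := X.S.xG_left_inj hr h2
  have hne : (C.sgnL (L.map Fin.val) s : F) ≠ 0 := by
    intro h0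
    have e1 := (ea 1).1
    rw [h1, h0, zero_mul, X.S.xG_zero, mul_one] at e1
    exact hcc (X.S.xG_eq_one (Fin.isLt _) e1.symm)
  refine Units.ext ?_
  rw [← hw]
  exact mul_right_cancel₀ hne (h3.trans (mul_comm _ _))

end Tw

namespace D4

theorem n0_roots : D4.cert.wL (D4.tw.flat [0, 1, 0, 1, 0, 1]) 5 = 18 ∧
    D4.cert.wL (D4.tw.flat [0, 1, 0, 1, 0, 1]) 9 = 14 ∧
    5 < chevD4.nroots ∧ 9 < chevD4.nroots := by decide +kernel

theorem neg_cartan : ∀ i : Fin chevD4.rank, chevD4.cartan i 5 = -chevD4.cartan i 18 ∧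
    chevD4.cartan i 9 = -chevD4.cartan i 14 := by decide +kernel

theorem ns0_root : ∃ r, r < chevD4.nroots ∧ D4.cert.wL (D4.tw.flat [0]) r = 14 ∧ ∀ i : Fin chevD4.rank,
    chevD4.cartan i r = chevD4.cartan i 14 + chevD4.cartan i 18 + chevD4.cartan i 13 + chevD4.cartan i 12 := by
  refine ⟨D4.cert.wL (D4.tw.flat [0]) 14, ?_, ?_, ?_⟩ <;> decide +kernel

theorem pi_vals : D4.tw.piAt 0 = 2 ∧ D4.tw.piAt 2 = 3 ∧ D4.cert.sr 0 = 18 ∧ D4.cert.sr 2 = 13 ∧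
    D4.cert.sr 3 = 12 := by decide +kernel

variable {K : Type*} [Field K] [Fintype K] (X : Tw chevD4 chevG2 D4.cert G2.cert D4.tw D4.htTab K)

theorem chr_vals (c : Fin chevD4.rank → Kˣ) :
    X.chr o0 c = ∏ j, c j ^ chevD4.cartan j 18 ∧ X.chr o1 c = ∏ j, c j ^ chevD4.cartan j 14 := by
  constructor
  · show ∏ j, c j ^ chevD4.cartan j (D4.cert.sr ((D4.tw.orbAt 0).headD 0)) = _
    rw [cartan_vals.1]
  · show ∏ j, c j ^ chevD4.cartan j (D4.cert.sr ((D4.tw.orbAt 1).headD 0)) = _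
    rw [cartan_vals.2.1]

theorem n0_inverts {t : ↥X.G1} (ht : t ∈ X.Ts) : (ctx X).n0 * t * (ctx X).n0⁻¹ = t⁻¹ := by
  have ht' : (ctx X).n0 * t * (ctx X).n0⁻¹ ∈ X.Ts := (X.ns_conj_Ts wd ht).1
  obtain ⟨c, hc, e⟩ := X.exists_tG ht
  obtain ⟨c', hc', e'⟩ := X.exists_tG ht'
  have e2 : (t⁻¹).1 = Ok.tG chevD4 K c⁻¹ := by rw [Subgroup.coe_inv, e, map_inv]
  obtain ⟨r1, r2, h5, h9⟩ := n0_roots
  have k0 := X.chi_conj wd h5 e e'
  have k1 := X.chi_conj wd h9 e e'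
  rw [show wd.map Fin.val = [0, 1, 0, 1, 0, 1] from rfl, r1] at k0
  rw [show wd.map Fin.val = [0, 1, 0, 1, 0, 1] from rfl, r2] at k1
  simp only [(neg_cartan _).1, zpow_neg, Finset.prod_inv_distrib] at k0
  simp only [(neg_cartan _).2, zpow_neg, Finset.prod_inv_distrib] at k1
  refine chi_inj X ht' (inv_mem ht) ?_ ?_
  · rw [X.chi_eq hc' e', X.chi_eq (inv_mem hc) e2, (chr_vals X c').1, k0, ← (chr_vals X c).1]
    simp [Tw.chr, inv_zpow, Finset.prod_inv_distrib]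
  · rw [X.chi_eq hc' e', X.chi_eq (inv_mem hc) e2, (chr_vals X c').2, k1, ← (chr_vals X c).2]
    simp [Tw.chr, inv_zpow, Finset.prod_inv_distrib]

theorem chi1_ns0 {t : ↥X.G1} (ht : t ∈ X.Ts) : X.chi o1 (X.ns [o0] * t * (X.ns [o0])⁻¹) =
    X.chi o1 t * X.chi o0 t ^ (X.q * X.q + X.q + 1) := by
  obtain ⟨c, hc, e⟩ := X.exists_tG ht
  obtain ⟨c', hc', e'⟩ := X.exists_tG (X.ns_conj_Ts [o0] ht).1
  obtain ⟨r, hr, hw, hadd⟩ := ns0_root
  obtain ⟨p0, p2, s0, s2, s3⟩ := pi_vals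
  have k0 := X.chi_conj [o0] hr e e'
  rw [show ([o0] : List (Fin D4.tw.nO)).map Fin.val = [0] from rfl, hw] at k0
  simp only [hadd, zpow_add, Finset.prod_mul_distrib] at k0
  rw [X.chi_eq hc' e', X.chi_eq hc e, X.chi_eq hc e, (chr_vals X c').2, k0, ← (chr_vals X c).1, ← (chr_vals X c).2]
  have hk : ∀ (i : Fin chevD4.rank) (r s : ℕ), D4.cert.sr i.val = r → D4.cert.sr (D4.tw.piAt i.val) = s →
      (((∏ j, c j ^ chevD4.cartan j s : Kˣ) : K)) = ((∏ j, c j ^ chevD4.cartan j r : Kˣ) : K) ^ X.q := by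
    intro i r s e1 e2
    subst e1 e2
    rw [← X.hfq]
    exact (X.chr_compat hc i).symm
  have h13 := hk (0 : Fin 4) 18 13 s0 (by show D4.cert.sr (D4.tw.piAt 0) = 13; rw [p0, s2])
  have h12 := hk (2 : Fin 4) 13 12 s2 (by show D4.cert.sr (D4.tw.piAt 2) = 12; rw [p2, s3])
  rw [← (chr_vals X c).1] at h13
  rw [h13, ← pow_mul] at h12
  rw [Units.val_mul, Units.val_mul, Units.val_mul]
  rw [h13, h12, pow_succ, pow_add]
  ring

theorem norm_surj {z : Kˣ} (hz : (z : K) ^ X.q = z) : ∃ x : Kˣ, x ^ (X.q * X.q + X.q + 1) = z := by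
  obtain ⟨g, hg⟩ := IsCyclic.exists_generator (α := Kˣ)
  obtain ⟨i, rfl⟩ := Subgroup.mem_zpowers_iff.1 (hg z)
  have hq := X.hq
  obtain ⟨k, hk⟩ : ∃ k, X.q = k + 1 := ⟨X.q - 1, by omega⟩
  have h1 : (g ^ i) ^ k = 1 := by
    have h2 : (g ^ i) ^ (k + 1) = g ^ i := Units.ext (by rw [Units.val_pow_eq_pow_val, ← hk]; exact hz)
    rwa [pow_succ, mul_eq_right] at h2
  rw [← zpow_natCast, ← zpow_mul] at h1
  have h3 := orderOf_dvd_iff_zpow_eq_one.2 h1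
  have hN : orderOf g = k * (X.q * X.q + X.q + 1) := by
    rw [orderOf_eq_card_of_forall_mem_zpowers hg, Nat.card_units, X.hcard]
    show X.q ^ 3 - 1 = _
    have : X.q ^ 3 = k * (X.q * X.q + X.q + 1) + 1 := by rw [hk]; ring
    omega
  rw [hN, Nat.cast_mul, mul_comm i, mul_dvd_mul_iff_left (by omega)] at h3
  obtain ⟨j, rfl⟩ := h3
  exact ⟨g ^ j, by rw [← zpow_natCast, ← zpow_mul, mul_comm]⟩

theorem two_gen {p n : ℕ} [Fact p.Prime] (hn : 1 ≤ n) (hq : X.q = p ^ n) :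
    ∃ a b : ↥X.G1, Subgroup.closure ({a, b} : Set ↥X.G1) = ⊤ := by
  classical
  haveI := X.finite
  have hq1 := X.hq
  obtain ⟨g, hg⟩ := IsCyclic.exists_generator (α := Kˣ)
  obtain ⟨k, hkT, hk0, hk1⟩ := exists_chi X g 1 (by simp)
  rw [Units.val_one] at hk1
  have all0 := allowed0 X
  have a1 := X.allowed_one o1
  set A := ctx X with hA
  set a := X.ya o1 1 * k with ha_def
  set b := X.ya o0 1 * A.n0 with hb_def
  set M := Subgroup.closure ({a, b} : Set ↥X.G1) with hMdef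
  refine ⟨a, b, ?_⟩
  rw [← hMdef]
  have ha : a ∈ M := Subgroup.subset_closure (Or.inl rfl)
  have hb : b ∈ M := Subgroup.subset_closure (Or.inr rfl)
  have hcomm : Commute (X.ya o1 1) k := by
    have h := (X.conj_ya hkT a1).2
    rw [hk1, one_mul, mul_inv_eq_iff_eq_mul] at h
    exact h.symm
  have hnat : ∀ m : ℕ, (m : K) ∈ X.Allowed (X.orP o1) ∧ X.ya o1 1 ^ m = X.ya o1 (m : K) := by
    intro m
    induction m with
    | zero => exact ⟨by rw [Nat.cast_zero]; exact X.allowed_zero _, by rw [pow_zero, Nat.cast_zero, X.ya_zero]⟩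
    | succ m ih => exact ⟨by rw [Nat.cast_succ]; exact X.allowed_add ih.1 a1,
        by rw [pow_succ, ih.2, X.ya_add ih.1 a1, Nat.cast_succ]⟩
  have hkpow : ∀ m : ℕ, X.chi o0 (k ^ m) = (g : K) ^ m ∧ X.chi o1 (k ^ m) = 1 := by
    intro m
    induction m with
    | zero => simp [X.chi_one]
    | succ m ih =>
      rw [pow_succ, X.chi_mul (pow_mem hkT m) hkT, X.chi_mul (pow_mem hkT m) hkT, ih.1, ih.2, hk0, hk1, one_mul,
        pow_succ]
      exact ⟨rfl, rfl⟩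
  have hkN : k ^ Nat.card Kˣ = 1 := by
    refine chi_inj X (pow_mem hkT _) (one_mem _) ?_ ?_
    · rw [(hkpow _).1, X.chi_one, ← Units.val_pow_eq_pow_val, pow_card_eq_one', Units.val_one]
    · rw [(hkpow _).2, X.chi_one]
  have hu : X.ya o1 1 ∈ M := by
    have h := pow_mem ha (Nat.card Kˣ)
    rw [ha_def, hcomm.mul_pow, hkN, mul_one, (hnat _).2] at h
    have hc : (Nat.card Kˣ : K) = -1 := by
      rw [Nat.card_units, Nat.card_eq_fintype_card, Nat.cast_sub Fintype.card_pos, FiniteField.cast_card_eq_zero,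
        Nat.cast_one, zero_sub]
    rw [hc] at h
    have hneg : (-1 : K) ∈ X.Allowed (X.orP o1) := hc ▸ (hnat _).1
    have : X.ya o1 1 = (X.ya o1 (-1))⁻¹ :=
      eq_inv_of_mul_eq_one_left (by rw [X.ya_add a1 hneg, add_neg_cancel, X.ya_zero])
    rw [this]
    exact inv_mem h
  have hkM : k ∈ M := by
    have := mul_mem (inv_mem hu) ha
    rwa [ha_def, inv_mul_cancel_left] at this
  have hker : ∀ t ∈ X.Ts, X.chi o1 t = 1 → t ∈ M := by
    intro t ht h1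
    obtain ⟨m, hm⟩ := Submonoid.mem_powers_iff _ _ |>.1
      (mem_powers_iff_mem_zpowers.2 (hg (Units.mk0 _ (X.chi_ne_zero (a := o0) ht))))
    have : t = k ^ m := chi_inj X ht (pow_mem hkT _)
      (by rw [(hkpow m).1, ← Units.val_pow_eq_pow_val, hm, Units.val_mk0]) (by rw [(hkpow m).2, h1])
    rw [this]
    exact pow_mem hkM m
  have hU0' : ∀ t, ∀ s ∈ X.Ts, X.chi o1 s = 1 → X.ya o0 t ∈ M → X.ya o0 (X.chi o0 s * t) ∈ M := by
    intro t s hs h1 h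
    rw [← (X.conj_ya hs (all0 t)).2]
    exact mul_mem (mul_mem (hker s hs h1) h) (inv_mem (hker s hs h1))
  have hd : X.ya o0 ((g : K) - 1) ∈ M := by
    have h := mul_mem (mul_mem hb (inv_mem hkM)) (inv_mem hb)
    rw [hb_def, show X.ya o0 1 * A.n0 * k⁻¹ * (X.ya o0 1 * A.n0)⁻¹ =
      X.ya o0 1 * (A.n0 * k * A.n0⁻¹)⁻¹ * (X.ya o0 1)⁻¹ by group, n0_inverts X hkT, inv_inv] at h
    have h2 := mul_mem hkM (inv_mem h)
    rw [show k * (X.ya o0 1 * k * (X.ya o0 1)⁻¹)⁻¹ = k * X.ya o0 1 * k⁻¹ * (X.ya o0 1)⁻¹ by group,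
      (X.conj_ya hkT (all0 1)).2, hk0, mul_one] at h2
    rwa [eq_mul_inv_iff_mul_eq.2 (show X.ya o0 ((g : K) - 1) * X.ya o0 1 = X.ya o0 (g : K) by
      rw [X.ya_add (all0 _) (all0 _), sub_add_cancel])]
  have hne : (g : K) - 1 ≠ 0 := by
    intro h
    have hg1 : g = 1 := Units.ext (sub_eq_zero.1 h)
    have hN := orderOf_eq_card_of_forall_mem_zpowers hg
    rw [hg1, orderOf_one, Nat.card_units, X.hcard] at hN
    have : 2 ^ 3 ≤ X.q ^ D4.tw.m := by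
      rw [show D4.tw.m = 3 from rfl]; exact Nat.pow_le_pow_left hq1 3
    omega
  have hU0 : ∀ t, X.ya o0 t ∈ M := by
    intro t
    rcases eq_or_ne t 0 with rfl | ht
    · rw [X.ya_zero]; exact one_mem M
    · obtain ⟨s, hs, hs0, hs1⟩ := exists_chi X (Units.mk0 _ ht / Units.mk0 _ hne) 1 (by simp)
      have := hU0' _ s hs (by rw [hs1, Units.val_one]) hd
      rwa [hs0, Units.val_div_eq_div_val, Units.val_mk0, Units.val_mk0, div_mul_cancel₀ _ hne] at this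
  have hn0 : A.n0 ∈ M := by
    have := mul_mem (inv_mem (hU0 1)) hb
    rwa [hb_def, inv_mul_cancel_left] at this
  have hUa0 : X.Ua o0 ≤ M := fun u hu => by
    obtain ⟨t, -, rfl⟩ := X.ya_cases hu
    exact hU0 t
  have hneg0 : ∀ u ∈ X.Ua o0, X.ns [o0] * u * (X.ns [o0])⁻¹ ∈ M := fun u hu =>
    Tw.AutCtx.ns_Ua_le X A hn hq hn0 hUa0 hu
  -- a representative of the first reflection
  obtain ⟨z, hzM, t0, ht0, hzeq⟩ : ∃ z ∈ M, ∃ t0 ∈ X.Ts, z = t0 * X.ns [o0] := by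
    have hv : X.Compat (fun _ : Fin chevD4.rank => (-1 : K)) := fun i => by rw [map_neg, map_one]
    have hv1 : X.Compat (fun _ : Fin chevD4.rank => (1 : K)) := fun i => map_one _
    obtain ⟨c, hc, he⟩ := X.gN_decomp o0.isLt hv fun i _ => neg_ne_zero.2 one_ne_zero
    obtain ⟨t1, ht1, hz⟩ := X.zP_eq o0.isLt hc
    have hvi : X.Compat (fun i : Fin chevD4.rank => ((-1 : K))⁻¹) := fun i => by rw [map_inv₀, map_neg, map_one]
    have hP : ∀ v, X.Compat v → ∃ h : X.gP o0.val v ∈ X.G1, (⟨_, h⟩ : ↥X.G1) ∈ M := fun v hv => by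
      refine ⟨X.gP_mem_G1 o0.isLt hv, ?_⟩
      obtain ⟨h1, -⟩ := X.orb_y_eq o0.isLt hv
      convert hU0 (v (X.hd o0.isLt)) using 1
      exact Subtype.ext ((X.ya_val (all0 _)).trans h1.1).symm
    obtain ⟨hPi, hPiM⟩ := hP _ hvi
    obtain ⟨hP1, hP1M⟩ := hP _ hv1
    refine ⟨(⟨_, hPi⟩ : ↥X.G1)⁻¹ * (X.ns [o0] * ⟨_, hP1⟩ * (X.ns [o0])⁻¹) * (⟨_, hPi⟩ : ↥X.G1)⁻¹,
      mul_mem (mul_mem (inv_mem hPiM) (hneg0 _ ?_)) (inv_mem hPiM), ⟨t1, X.T1_le_G1 ht1⟩, ht1, Subtype.ext ?_⟩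
    · obtain ⟨h1, -⟩ := X.orb_y_eq o0.isLt hv1
      convert X.ya_mem o0 1 using 1
      exact Subtype.ext ((X.ya_val (all0 _)).trans h1.1).symm
    · simp only [Subgroup.coe_mul, Subgroup.coe_inv, Tw.ns_single]
      rw [X.nJ_conj_gP o0.isLt, he, hz]
      group
  have hT : ∀ t ∈ X.Ts, t ∈ M := by
    intro t ht
    obtain ⟨x, hx⟩ := norm_surj X (z := Units.mk0 _ (X.chi_ne_zero (a := o1) ht))
      ((allowed1 X).1 (X.chi_mem ht))
    obtain ⟨s, hs, hs0, hs1⟩ := exists_chi X x 1 (by simp)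
    have hsM := hker s hs (by rw [hs1, Units.val_one])
    have hs' := (X.ns_conj_Ts [o0] hs).1
    have hz : z * s * z⁻¹ = X.ns [o0] * s * (X.ns [o0])⁻¹ := by
      rw [hzeq, show t0 * X.ns [o0] * s * (t0 * X.ns [o0])⁻¹ = t0 * (X.ns [o0] * s * (X.ns [o0])⁻¹) * t0⁻¹ by group,
        X.Ts_comm ht0 hs', mul_inv_cancel_right]
    have hval : X.chi o1 (X.ns [o0] * s * (X.ns [o0])⁻¹) = X.chi o1 t := by
      rw [chi1_ns0 X hs, hs1, hs0, Units.val_one, one_mul, ← Units.val_pow_eq_pow_val, hx, Units.val_mk0]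
    have h1 : t * (z * s * z⁻¹)⁻¹ ∈ M := by
      rw [hz]
      refine hker _ (mul_mem ht (inv_mem hs')) (mul_right_cancel₀ (X.chi_ne_zero (a := o1) hs') ?_)
      rw [← X.chi_mul (mul_mem ht (inv_mem hs')) hs', inv_mul_cancel_right, one_mul, hval]
    have := mul_mem h1 (mul_mem (mul_mem hzM hsM) (inv_mem hzM))
    rwa [inv_mul_cancel_right] at this
  have hUa1 : X.Ua o1 ≤ M := fun u hu' => by
    obtain ⟨t, ht, rfl⟩ := X.ya_cases hu'
    rcases eq_or_ne t 0 with rfl | ht0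
    · rw [X.ya_zero]; exact one_mem M
    · obtain ⟨s, hs, -, hs1⟩ := exists_chi X 1 (Units.mk0 t ht0) ((allowed1 X).1 ht)
      have e := (X.conj_ya hs a1).2
      rw [hs1, Units.val_mk0, mul_one] at e
      rw [← e]
      exact mul_mem (mul_mem (hT s hs) hu) (inv_mem (hT s hs))
  refine X.eq_top_of_roots (fun c => ?_) fun c u hu => ?_
  · rcases orb_cases c with rfl | rfl
    exacts [hUa0, hUa1]
  · rcases orb_cases c with rfl | rfl
    exacts [hneg0 u hu, Tw.AutCtx.ns_Ua_le X A hn hq hn0 hUa1 hu]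

end D4

end Cfsg.Lib.Chev
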