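import Cfsg.Agent.Chev.Tw.Data

/-! The data of ²E₆ and ³D₄. -/

set_option autoImplicit false

open Cfsg.Lie

namespace Cfsg.Lib.Chev

/-- The data of the twisted type of E6. -/
noncomputable def E6.tw : TwDat where
  G := E6.graph
  m := 2
  pi := [5, 1, 4, 3, 2, 0]
  orb := [[0, 5], [2, 4], [3], [1]]
  lv := [[[56, 36], [42, 37], [39], [46]], [[38, 57], [40, 43], [47]], [[41, 58], [44], [48, 50]], [[45, 59], [49, 61], [51]], [[52, 62], [53], [60]], [[54, 64], [63]], [[55, 67], [65]], [[66, 68]], [[69]], [[70]], [[71]]]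
  par := [[0, 0, 0, 0], [0, 2, 2], [0, 1, 3], [1, 0, 1], [1, 2, 0], [2, 0], [1, 0], [0], [1], [2], [3]]
  proj := [0, 1, 2, 3, 7, 3, 4, 8, 5, 9, 11, 6, 10, 12, 13, 14, 7, 8, 15, 9, 16, 18, 11, 18, 21, 23, 10, 17, 19, 20, 12, 19, 22, 13, 20, 14, 33, 27, 34, 25, 28, 35, 27, 28, 30, 37, 24, 26, 29, 36, 29, 31, 38, 32, 39, 40, 33, 34, 35, 37, 41, 36, 38, 42, 39, 43, 44, 40, 44, 45, 46, 47]
  rels := [(0, 0, 1, 33), (0, 1, 3, 0), (0, 2, 2, 41), (0, 3, 2, 35), (1, 0, 3, 0), (1, 1, 1, 20), (1, 2, 4, 20), (1, 3, 2, 22), (2, 0, 2, 41), (2, 1, 4, 20), (2, 2, 1, 8), (2, 3, 3, 0), (3, 0, 2, 35), (3, 1, 2, 22), (3, 2, 3, 0), (3, 3, 1, 2)]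

theorem E6.tw_ok : E6.tw.okAll chevE6 E6.cert F4.cert E6.htTab = true := by decide +kernel

/-- The data of the twisted type of D4. -/
noncomputable def D4.tw : TwDat where
  G := D4.graphA
  m := 3
  pi := [2, 1, 3, 0]
  orb := [[0, 2, 3], [1]]
  lv := [[[18, 13, 12], [14]], [[15, 19, 16]], [[17, 20, 21]], [[22]], [[23]]]
  par := [[0, 0], [1], [0], [0], [1]]
  proj := [0, 1, 2, 2, 3, 4, 2, 3, 3, 5, 4, 4, 7, 7, 6, 8, 8, 9, 7, 8, 9, 9, 10, 11]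
  rels := [(0, 0, 1, 13), (0, 1, 6, 0), (1, 0, 6, 0), (1, 1, 1, 2)]

theorem D4.tw_ok : D4.tw.okAll chevD4 D4.cert G2.cert D4.htTab = true := by decide +kernel

end Cfsg.Lib.Chev
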