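import Cfsg.Agent.Chev.Tw.BN
import Cfsg.Agent.Chev.Borel
import Cfsg.Agent.Chev.Orders
import Cfsg.Agent.Chev.Simple

/-! The twisted group is perfect and simple. -/

set_option autoImplicit false

open Cfsg.Lie
open scoped commutatorElement

namespace Cfsg.Lib.Chev

namespace TwDat

/-- Witnesses for the singleton orbits: orbit, three fixed roots, word of orbits. -/
noncomputable def okWit (W : TwDat) (D : ChevalleyDatum) (C : Cert) (Wit : List (ℕ × ℕ × ℕ × ℕ × List ℕ)) : Bool :=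
  kall (fun a => Nat.beq (W.orbAt a).length W.m || kex (fun q =>
    Nat.beq q.1 a &&
    (let r := q.2.1
     let s := q.2.2.1
     let v := q.2.2.2.1
     kall (fun x => Nat.blt x D.nroots && Nat.ble (Nat.div D.nroots 2) x &&
       Nat.beq (W.G.rho D.rank x) x && decide (W.G.eps D.rank x = 1)) [r, s, v] &&
     !Nat.beq s r && !Nat.beq s (D.neg r) &&
     Nat.beq (D.commTerms r s).length 1 &&
     kall (fun p => Nat.beq p.1 v && Nat.beq p.2.1.natAbs 1 && Nat.beq p.2.2.1 1 && Nat.beq p.2.2.2 1)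
       (D.commTerms r s) &&
     kall (fun b => Nat.blt b W.nO) q.2.2.2.2 &&
     Nat.beq (C.wL (W.flat q.2.2.2.2) v) (C.sr ((W.orbAt a).headD 0)))) Wit) (krange 0 W.nO)

/-- A word of orbits sends all positive roots to negative ones. -/
noncomputable def okOpp1 (W : TwDat) (n : ℕ) (C : Cert) (K : List ℕ) : Bool :=
  kall (fun b => Nat.blt b W.nO) K &&
    kall (fun s => Nat.blt (C.wL (W.flat K) s) (Nat.div n 2) == Nat.ble (Nat.div n 2) s) (krange 0 n)

end TwDat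

variable {D D' : ChevalleyDatum} {C C' : Cert} {W : TwDat} {T : List (List ℤ)} {F : Type*} [Field F]

namespace Tw

variable (X : Tw D D' C C' W T F)
include X

theorem exists_compat {a : ℕ} (ha : a < W.nO) {t : F} (ht : t ∈ X.Allowed (X.orP a)) :
    ∃ v, X.Compat v ∧ (∀ i, i ∉ X.orbF a → v i = 0) ∧ v (X.hd ha) = t := by
  classical
  have hm : (1 : ℤ) ≤ ((0 : ℕ) : ℤ) + 1 := by norm_num
  have hlev := X.orP_mem_lev ha
  have hy := X.y_mem_lev hlev ht
  let v : Fin D.rank → F := fun i => if i ∈ X.orbF a then X.cf (X.y (X.orP a) t) (C.sr i.val) else 0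
  refine ⟨v, fun i => ?_, fun i hi => if_neg hi, ?_⟩
  · by_cases hi : i ∈ X.orbF a
    · simp only [v, if_pos hi, if_pos ((X.pi_mem_iff ha i).2 hi)]
      obtain ⟨hl, hh⟩ := (X.lev_spec hlev).1 (C.sr i.val) (by
        rw [orP, kmap_eq]; exact List.mem_map.2 ⟨i.val, (X.mem_orbF ha).1 hi, rfl⟩)
      have h := (X.coef_sig hm hy.1).2 ⟨C.sr i.val, hl⟩ ⟨C.sr (X.piF i).val, X.S.ok.sr_lt (X.piF i).isLt⟩
        (X.pi_spec i.isLt).2.1.symm hh.le
      rw [show X.sig (X.y (X.orP a) t) = X.y (X.orP a) t from hy.2,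
        (X.pi_spec i.isLt).2.2.1, one_mul, ← X.cf_val, ← X.cf_val] at h
      exact h.symm
    · simp only [v, if_neg hi, if_neg fun h => hi ((X.pi_mem_iff ha i).1 h), map_zero]
  · simp only [v, if_pos (X.hd_mem ha)]
    have := (X.cf_y hlev hlev t).1 rfl
    have e : (X.orP a).headD 0 = C.sr (X.hd ha).val := by
      obtain ⟨x, L, ex⟩ := List.exists_cons_of_ne_nil (X.orbAt_ne_nil ha)
      show (kmap C.sr (W.orbAt a)).headD 0 = C.sr ((W.orbAt a).headD 0)
      rw [ex, kmap_eq]; rfl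
    rwa [e] at this

theorem gP_mul {a : ℕ} (ha : a < W.nO) (u w : Fin D.rank → F) :
    X.gP a u * X.gP a w = X.gP a (fun i => u i + w i) := by
  rw [X.gP_eq, X.gP_eq, X.gP_eq, ← prod_map_mul_of_commute _ _ _ (X.orbF_nodup ha)]
  · exact congrArg List.prod (List.map_congr_left fun i _ => X.S.ok.xG_mul _ _ _)
  · intro i hi j hj hij
    rw [X.S.ok.sr_eq i.isLt, X.S.ok.sr_eq j.isLt]
    exact ((X.commute_nG ha hi hj hij (u i)).2.2 (w j)).1

theorem gP_zero (a : ℕ) : X.gP a (fun _ => (0 : F)) = 1 := by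
  rw [X.gP_eq]
  exact List.prod_eq_one fun z hz => by
    obtain ⟨i, -, rfl⟩ := List.mem_map.1 hz
    exact X.S.xG_zero _

theorem tG_conj_gP (a : ℕ) (c : Fin D.rank → Fˣ) (v : Fin D.rank → F) :
    Ok.tG D F c * X.gP a v * (Ok.tG D F c)⁻¹ =
      X.gP a (fun i => ((∏ j, c j ^ D.cartan j (C.sr i.val) : Fˣ) : F) * v i) := by
  rw [X.gP_eq, X.gP_eq]
  have e : ∀ L : List (Fin D.rank), Ok.tG D F c * (L.map fun i => X.S.ok.xG (C.sr i.val) (v i)).prod *
      (Ok.tG D F c)⁻¹ = (L.map fun i => X.S.ok.xG (C.sr i.val)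
        (((∏ j, c j ^ D.cartan j (C.sr i.val) : Fˣ) : F) * v i)).prod := by
    intro L
    induction L with
    | nil => simp
    | cons i L ih =>
      rw [List.map_cons, List.map_cons, List.prod_cons, List.prod_cons, ← ih,
        ← X.S.tG_conj_xG (X.S.ok.sr_lt i.isLt) c (v i)]
      group
  exact e _

theorem G1_normalizes_comm {g x : GL D.Idx F} (hg : g ∈ X.G1) (hx : x ∈ ⁅X.G1, X.G1⁆) :
    g * x * g⁻¹ ∈ ⁅X.G1, X.G1⁆ := by
  have hxG : x ∈ X.G1 := Subgroup.commutator_le_self _ hx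
  rw [show g * x * g⁻¹ = ⁅g, x⁆ * x by rw [commutatorElement_def]; group]
  exact mul_mem (Subgroup.commutator_mem_commutator hg hxG) hx

theorem gP_mem_comm_of_card {a : ℕ} (ha : a < W.nO) (hlen : (W.orbAt a).length = W.m)
    {v : Fin D.rank → F} (hv : X.Compat v) (hsupp : ∀ i, i ∉ X.orbF a → v i = 0) :
    X.gP a v ∈ ⁅X.G1, X.G1⁆ := by
  classical
  haveI := X.finite
  haveI : Fintype F := Fintype.ofFinite F
  obtain ⟨x, hx0, hx2⟩ : ∃ x : F, x ≠ 0 ∧ x ^ 2 ≠ 1 := by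
    by_contra h
    push Not at h
    have hsub : (Finset.univ : Finset F) ⊆ {0, 1, -1} := fun x _ => by
      by_cases hx : x = 0
      · simp [hx]
      · have := sq_eq_one_iff.1 (h x hx)
        simp [this]
    have hc := (Finset.card_le_card hsub).trans Finset.card_le_three
    rw [Finset.card_univ, ← Nat.card_eq_fintype_card, X.hcard] at hc
    have h4 : 4 ≤ X.q ^ W.m :=
      le_trans (by norm_num) ((Nat.pow_le_pow_left X.hq 2).trans (Nat.pow_le_pow_right (by have := X.hq; omega) X.hm))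
    omega
  have hall : x ∈ X.Allowed (X.orP a) := by
    show X.nxt _ x = x
    have hlev := X.orP_mem_lev ha
    have hl : (X.orP a).length = W.m := by rw [orP, kmap_eq, List.length_map, hlen]
    rcases (X.lev_spec hlev).2.2.2.1 with ⟨h1, -⟩ | ⟨-, h2⟩
    · have := X.hm; omega
    · rw [X.nxt_eq, h2, one_mul, hl, X.f_iter]
  obtain ⟨w, hw, hwsupp, hwhd⟩ := X.exists_compat ha hall
  let c : Fin D.rank → Fˣ := fun i => if h : w i = 0 then 1 else Units.mk0 (w i) h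
  have hc : c ∈ X.CT := fun i => by
    by_cases h : w i = 0
    · have h' : w (X.piF i) = 0 := by rw [← hw i, h, map_zero]
      simp [c, h, h']
    · have h' : w (X.piF i) ≠ 0 := by rw [← hw i]; exact (map_ne_zero X.f).2 h
      simp only [c, dif_neg h, dif_neg h', Units.val_mk0]
      exact hw i
  have hwne : ∀ i ∈ X.orbF a, w i ≠ 0 ∧ w i ^ 2 ≠ 1 := by
    let Q : ℕ → Prop := fun n => ∀ h : n < D.rank, w ⟨n, h⟩ ≠ 0 ∧ w ⟨n, h⟩ ^ 2 ≠ 1
    have key := kcyc_iff_head (Q := Q) _ _ (X.orb_spec ha).2.2.1 fun n hn => by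
      have hl := (X.orb_spec ha).1 n hn
      have e : w ⟨W.piAt n, (X.pi_spec hl).1⟩ = X.f (w ⟨n, hl⟩) := (hw ⟨n, hl⟩).symm
      constructor
      · intro h _
        obtain ⟨h1, h2⟩ := h (X.pi_spec hl).1
        rw [e, map_ne_zero] at h1
        exact ⟨h1, fun h3 => h2 (by rw [e, ← map_pow, h3, map_one])⟩
      · intro h _
        obtain ⟨h1, h2⟩ := h hl
        rw [e, ← map_pow]
        exact ⟨(map_ne_zero X.f).2 h1, fun h3 => h2 (X.f.injective (h3.trans (map_one X.f).symm))⟩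
    intro i hi
    have hQ : Q ((W.orbAt a).headD 0) := fun h => by
      show w (X.hd ha) ≠ 0 ∧ w (X.hd ha) ^ 2 ≠ 1
      rw [hwhd]; exact ⟨hx0, hx2⟩
    exact (key i.val ((X.mem_orbF ha).1 hi)).2 hQ i.isLt
  have hchi : ∀ i ∈ X.orbF a, ((∏ j, c j ^ D.cartan j (C.sr i.val) : Fˣ) : F) = w i ^ 2 := by
    intro i hi
    have hsr := X.S.ok.sr_lt i.isLt
    rw [Fintype.prod_eq_single i]
    · rw [← X.S.ok.cart_eq i.isLt hsr, (X.S.ok.refl_simple i.isLt).2.2.2]
      simp [c, (hwne i hi).1]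
    · intro j hj
      by_cases hjo : j ∈ X.orbF a
      · have h0 := ((X.orb_spec ha).2.2.2.1 j ((X.mem_orbF ha).1 hjo) i ((X.mem_orbF ha).1 hi)
          fun e => hj (Fin.ext e)).1
        rw [← X.S.ok.cart_eq j.isLt hsr, h0, zpow_zero]
      · simp [c, hwsupp j hjo]
  let u : Fin D.rank → F := fun i => v i / (w i ^ 2 - 1)
  have hu : X.Compat u := fun i => by
    simp only [u, map_div₀, map_sub, map_pow, map_one, hv i, hw i]
  have key : ⁅Ok.tG D F c, X.gP a u⁆ = X.gP a v := by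
    rw [commutatorElement_def, X.tG_conj_gP]
    have e : (X.gP a u)⁻¹ = X.gP a (fun i => -u i) := by
      refine inv_eq_of_mul_eq_one_right ?_
      rw [X.gP_mul ha]
      simp only [add_neg_cancel]
      exact X.gP_zero a
    rw [e, X.gP_mul ha, X.gP_eq, X.gP_eq]
    refine congrArg List.prod (List.map_congr_left fun i hi => ?_)
    congr 1
    rw [hchi i hi]
    have : w i ^ 2 - 1 ≠ 0 := sub_ne_zero.2 (hwne i hi).2
    simp only [u]
    field_simp
    ring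
  rw [← key]
  exact Subgroup.commutator_mem_commutator (X.T1_le_G1 ⟨c, hc, rfl⟩) (X.gP_mem_G1 ha hu)

theorem xG_fixed_mem_G1 {r : ℕ} (hr : r < D.nroots) (hp : D.nroots / 2 ≤ r) (h1 : X.rho r = r)
    (h2 : X.eps r = 1) {t : F} (ht : X.f t = t) : X.S.ok.xG r t ∈ X.G1 := by
  refine X.U_fix_le X.cls_mem_G1 (Subgroup.mem_inf.2 ⟨X.S.xG_mem_U hp hr _, ?_⟩)
  show X.sig (X.S.ok.xG r t) = _
  rw [X.sig_xG hr, h1, h2, one_mul, ht]
  rfl

theorem gP_mem_comm_of_wit {Wit : List (ℕ × ℕ × ℕ × ℕ × List ℕ)} (hW : W.okWit D C Wit = true)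
    {a : ℕ} (ha : a < W.nO) (hlen : (W.orbAt a).length ≠ W.m)
    {v : Fin D.rank → F} (hv : X.Compat v) : X.gP a v ∈ ⁅X.G1, X.G1⁆ := by
  have h := kall_krange hW a ha
  simp only [Bool.or_eq_true] at h
  rcases h with h | h
  · exact absurd (Nat.eq_of_beq_eq_true h) hlen
  rw [kex_iff] at h
  obtain ⟨⟨qa, r, s, z, K⟩, -, hq⟩ := h
  simp only [Bool.and_eq_true, Bool.not_eq_true', kall_iff, decide_eq_true_iff, Nat.blt, Nat.ble_eq,
    List.mem_cons, List.not_mem_nil, or_false, forall_eq_or_imp, forall_eq] at hq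
  obtain ⟨-, ⟨⟨⟨⟨⟨⟨⟨hr, hs, hz⟩, hne⟩, hneg⟩, hlen1⟩, hterm⟩, hK⟩, hwz⟩⟩ := hq
  obtain ⟨⟨⟨r1, r2⟩, r3⟩, r4⟩ := hr
  obtain ⟨⟨⟨s1, s2⟩, s3⟩, s4⟩ := hs
  obtain ⟨⟨⟨z1, z2⟩, z3⟩, z4⟩ := hz
  obtain ⟨p, hp⟩ := List.length_eq_one_iff.1 (Nat.eq_of_beq_eq_true hlen1)
  have hpp := hterm p (by rw [hp]; exact List.mem_cons_self)
  obtain ⟨⟨⟨p1, p2⟩, p3⟩, p4⟩ := hpp
  obtain ⟨i0, hi0⟩ : ∃ i0, W.orbAt a = [i0] := by
    refine List.length_eq_one_iff.1 ?_
    exact (X.orb_spec ha).2.1.resolve_right hlen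
  obtain ⟨K', rfl⟩ : ∃ K' : List (Fin W.nO), K'.map Fin.val = K :=
    ⟨K.pmap (fun b hb => (⟨b, hb⟩ : Fin W.nO)) hK, by simp [List.map_pmap]⟩
  have hhd : (X.hd ha).val = i0 := by show (W.orbAt a).headD 0 = i0; rw [hi0]; rfl
  have horb : X.orbF a = [X.hd ha] := by
    apply List.map_injective_iff.2 Fin.val_injective
    rw [X.orbF_val ha, hi0, List.map_singleton, hhd]
  set i := X.hd ha
  have hfv : X.f (v i) = v i := by
    rw [hv i]
    congr 1
    have h1 := (X.pi_mem_iff ha i).2 (X.hd_mem ha)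
    rw [horb, List.mem_singleton] at h1
    exact h1
  have hgP : X.gP a v = X.S.ok.xG (C.sr i.val) (v i) := by rw [X.gP_eq, horb]; simp
  set σ : F := (C.sgnL (W.flat (K'.map Fin.val)) z : F) with hσ
  have hpm : ∀ n : ℤ, n.natAbs = 1 → X.f (n : F) = (n : F) ∧ (n : F) * (n : F) = 1 := fun n hn => by
    refine ⟨map_intCast _ _, ?_⟩
    rw [← Int.cast_mul]
    rcases Int.natAbs_eq_iff.1 hn with e | e <;> simp [e]
  have hσ1 : X.f σ = σ ∧ σ * σ = 1 := by
    refine hpm _ ?_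
    clear_value σ
    generalize W.flat (K'.map Fin.val) = L
    induction L with
    | nil => rfl
    | cons b L ih =>
      rw [Cert.sgnL_cons, Int.natAbs_mul, ih, mul_one]
      rcases Ok.eta_cases C b (C.wL L z) with e | e <;> rw [e] <;> rfl
  obtain ⟨hc1, hc2⟩ := hpm p.2.1 (Nat.eq_of_beq_eq_true p2)
  let t1 : F := -((p.2.1 : F) * (σ * v i))
  have ht1 : X.f t1 = t1 := by simp only [t1, map_neg, map_mul, hc1, hσ1.1, hfv]
  have hx1 : X.S.ok.xG r t1 ∈ X.G1 := X.xG_fixed_mem_G1 r1 r2 (Nat.eq_of_beq_eq_true r3)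
    (by show ((W.G.eps D.rank r : ℤ) : F) = 1; rw [r4, Int.cast_one]) ht1
  have hx2 : X.S.ok.xG s (1 : F) ∈ X.G1 := X.xG_fixed_mem_G1 s1 s2 (Nat.eq_of_beq_eq_true s3)
    (by show ((W.G.eps D.rank s : ℤ) : F) = 1; rw [s4, Int.cast_one]) (map_one _)
  have e := X.S.ok.commRel X.S.chain X.S.base r1 s1 (Nat.ne_of_beq_eq_false hne) (Nat.ne_of_beq_eq_false hneg)
    t1 (1 : F)
  have hword : X.S.ok.wG (D.commWord F r s t1 1) = X.S.ok.xG z (σ * v i) := by
    simp only [ChevalleyDatum.commWord, hp, Ok.wG, List.map_cons, List.map_nil, List.prod_cons, List.prod_nil,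
      mul_one]
    rw [Nat.eq_of_beq_eq_true p1, Nat.eq_of_beq_eq_true p3, Nat.eq_of_beq_eq_true p4, pow_one, one_pow, mul_one]
    congr 1
    simp only [t1, neg_neg, ← mul_assoc, hc2, one_mul]
  have hmem : X.S.ok.xG z (σ * v i) ∈ ⁅X.G1, X.G1⁆ := by
    rw [← hword, show X.S.ok.wG (D.commWord F r s t1 1) = ⁅(X.S.ok.xG s (1 : F))⁻¹, (X.S.ok.xG r t1)⁻¹⁆ by
      rw [show X.S.ok.wG (D.commWord F r s t1 1) =
        (X.S.ok.xG r t1 * X.S.ok.xG s 1)⁻¹ * (X.S.ok.xG s 1 * X.S.ok.xG r t1) by rw [e]; group,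
        commutatorElement_def]
      group]
    exact Subgroup.commutator_mem_commutator (inv_mem hx2) (inv_mem hx1)
  have hc := X.G1_normalizes_comm (X.N1_le_G1 (X.nW_mem_N1 K')) hmem
  rw [nW, X.S.nL_conj _ z1, X.flatW_val, Nat.eq_of_beq_eq_true hwz, ← hσ, ← mul_assoc, hσ1.2, one_mul] at hc
  rw [hgP]
  exact hc

theorem perfect {Wit : List (ℕ × ℕ × ℕ × ℕ × List ℕ)} (hW : W.okWit D C Wit = true) :
    commutator ↥X.G1 = ⊤ := by
  have key : ∀ a, a < W.nO → ∀ v, X.Compat v → (∀ i, i ∉ X.orbF a → v i = 0) →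
      X.gP a v ∈ ⁅X.G1, X.G1⁆ := fun a ha v hv hs => by
    by_cases hlen : (W.orbAt a).length = W.m
    · exact X.gP_mem_comm_of_card ha hlen hv hs
    · exact X.gP_mem_comm_of_wit hW ha hlen hv
  have hle : X.G1 ≤ ⁅X.G1, X.G1⁆ := by
    have hgen : ∀ a, a < W.nO → ∀ t ∈ X.Allowed (X.orP a), X.y (X.orP a) t ∈ ⁅X.G1, X.G1⁆ := fun a ha t ht => by
      obtain ⟨v, hv, hs, hh⟩ := X.exists_compat ha ht
      rw [← hh, (X.orb_y_eq ha hv).1.1]
      exact key a ha v hv hs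
    refine (Subgroup.closure_le _).2 ?_
    rintro g ⟨a, ha, c, hc, t, ht, rfl⟩
    rcases hc with rfl | rfl
    · exact hgen a ha t ht
    · have hp : t ∈ X.Allowed (X.orP a) := by
        have h1 : X.nxt (X.orN a) t = t := ht
        show X.nxt (X.orP a) t = t
        rw [X.nxt_eq] at h1 ⊢
        have e : ((X.orP a).map X.eps).prod = ((X.orN a).map X.eps).prod := by
          rw [orP, orN, kmap_eq, kmap_eq, List.map_map, List.map_map]
          refine congrArg List.prod (List.map_congr_left fun i hi => ?_)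
          have hl := (X.orb_spec ha).1 i hi
          simp only [Function.comp_apply, (X.pi_spec hl).2.2.1, (X.pi_spec hl).2.2.2.1]
        rw [e, show (X.orP a).length = (X.orN a).length by simp [orP, orN, kmap_eq]]
        exact h1
      obtain ⟨v, hv, hs, hh⟩ := X.exists_compat ha hp
      rw [← hh, (X.orb_y_eq ha hv).2.1]
      have h2 := X.G1_normalizes_comm (X.nJ_mem_G1 ha)
        (key a ha (fun i => -v i) (X.compat_neg hv) (fun i hi => by simp [hs i hi]))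
      rw [X.nJ_conj_gP ha] at h2
      simpa using h2
  rw [eq_top_iff]
  rintro ⟨g, hg⟩ -
  have h1 : g ∈ (commutator ↥X.G1).map X.G1.subtype := by
    rw [commutator_def, Subgroup.map_commutator, ← MonoidHom.range_eq_map, Subgroup.range_subtype]
    exact hle hg
  obtain ⟨y, hy, e⟩ := h1
  rwa [show (⟨g, hg⟩ : ↥X.G1) = y from Subtype.ext e.symm]

theorem normalCore_B1 {M : CoxeterMatrix (Fin W.nO)} (hM : X.RelOK M) {K : List ℕ}
    (hK : W.okOpp1 D.nroots C K = true) : (X.B1.subgroupOf X.G1).normalCore = ⊥ := by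
  simp only [TwDat.okOpp1, Bool.and_eq_true, kall_iff, Nat.blt, Nat.ble_eq] at hK
  obtain ⟨hKlt, hopp⟩ := hK
  obtain ⟨K', rfl⟩ : ∃ K' : List (Fin W.nO), K'.map Fin.val = K :=
    ⟨K.pmap (fun b hb => (⟨b, hb⟩ : Fin W.nO)) hKlt, by simp [List.map_pmap]⟩
  set n := X.nW K'
  have hnN := X.nW_mem_N1 K'
  have ha : Act X.S.ok n (X.S.wpL (X.flatW K')) := X.S.act_nL _
  have hw : ∀ s : Fin D.nroots, ((X.S.wpL (X.flatW K')) s).val < D.nroots / 2 ↔ D.nroots / 2 ≤ s.val := by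
    intro s
    have h1 := hopp s.val (by rw [krange_eq, List.mem_range'_1]; have := s.isLt; omega)
    rw [beq_iff_eq] at h1
    rw [X.S.wpL_val, X.flatW_val]
    constructor
    · intro hh
      exact Nat.le_of_ble_eq_true (h1 ▸ Nat.ble_eq_true_of_le hh : Nat.ble (D.nroots / 2) s.val = true)
    · intro hh
      exact Nat.le_of_ble_eq_true
        (h1.symm ▸ Nat.ble_eq_true_of_le hh : Nat.ble (C.wL (W.flat (K'.map Fin.val)) s.val + 1) (D.nroots / 2) = true)
  set Kc := (X.B1.subgroupOf X.G1).normalCore with hKc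
  have hKB : ∀ g : ↥X.G1, g ∈ Kc → (g : GL D.Idx F) ∈ X.B1 :=
    fun g hg => Subgroup.normalCore_le (X.B1.subgroupOf X.G1) hg
  have hnV : ∀ g : ↥X.G1, g ∈ Kc → (g : GL D.Idx F) ∈ X.T1 := by
    intro g hg
    have hn' : n ∈ X.G1 := X.N1_le_G1 hnN
    have h1 := X.B1_le_borel (hKB _ ((inferInstance : Kc.Normal).conj_mem g hg (⟨n, hn'⟩⁻¹)))
    simp only [Subgroup.coe_mul, Subgroup.coe_inv, inv_inv] at h1
    obtain ⟨u, hu, d, hd, e⟩ := X.S.borel_decomp h1
    have hg' : (g : GL D.Idx F) = (n * u * n⁻¹) * (n * d * n⁻¹) := by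
      rw [← conj_mul.symm, ← e]; group
    rw [← X.diag_inf_G1 hM, Subgroup.mem_inf]
    refine ⟨?_, g.2⟩
    rw [← X.S.B_inf_VH X.hN]
    refine Subgroup.mem_inf.2 ⟨X.B1_le_borel (hKB g hg), ?_⟩
    rw [hg']
    refine mul_mem (Subgroup.mem_sup_left ?_) (Subgroup.mem_sup_right (X.S.norm_diag (X.N1_le_mono hnN) hd))
    rw [← X.S.opp_map ha hw]
    exact ⟨u, hu, rfl⟩
  refine eq_bot_iff.2 fun g hg => ?_
  rw [Subgroup.mem_bot]
  obtain ⟨c, -, hc⟩ := hnV g hg
  have h1 : X.Compat (fun _ => (1 : F)) := fun i => map_one _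
  have hchi : ∀ j : Fin D.rank, (∏ i, c i ^ D.cartan i (C.sr j.val) : Fˣ) = 1 := by
    intro j
    obtain ⟨a, ha', hja⟩ := X.orb_flat.2 j j.isLt
    have hxU := X.gP_mem_U (a := a) (fun _ => (1 : F))
    have hxG := X.gP_mem_G1 ha' h1
    set x := X.gP a (fun _ => (1 : F)) with hxdef
    have h2 := X.T1_le_diag (hnV _ ((inferInstance : Kc.Normal).conj_mem g hg ⟨_, hxG⟩))
    simp only [Subgroup.coe_mul, Subgroup.coe_inv] at h2
    have h3 := mul_mem h2 (inv_mem (X.T1_le_diag (hnV g hg)))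
    have e : x * (g : GL D.Idx F) * x⁻¹ * (g : GL D.Idx F)⁻¹ =
        x * (X.gP a fun i => ((∏ k, c k ^ D.cartan k (C.sr i.val) : Fˣ) : F) * 1)⁻¹ := by
      rw [← X.tG_conj_gP, hc, ← hxdef]; group
    rw [e] at h3
    have h4 : x * (X.gP a fun i => ((∏ k, c k ^ D.cartan k (C.sr i.val) : Fˣ) : F) * 1)⁻¹ = 1 := by
      refine (Subgroup.mem_bot.1 (X.S.U_inf_H.le (Subgroup.mem_inf.2 ⟨?_, h3⟩)))
      exact mul_mem hxU (inv_mem (X.gP_mem_U _))
    rw [mul_inv_eq_one] at h4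
    have hcoef : ∀ v : Fin D.rank → F, X.cf (X.gP a v) (C.sr j.val) = v j := fun v => by
      have hlev := X.orP_mem_lev ha'
      have hj : j ∈ X.orbF a := (X.mem_orbF ha').2 hja
      have hmem : ∀ i ∈ X.orbF a, C.sr i.val ∈ X.orP a := fun i hi => by
        rw [orP, kmap_eq]; exact List.mem_map.2 ⟨i.val, (X.mem_orbF ha').1 hi, rfl⟩
      obtain ⟨hl, hh⟩ := (X.lev_spec hlev).1 _ (hmem j hj)
      rw [X.cf_of_lt _ hl]
      have hnd : ((((X.orbF a).map fun i => (C.sr i.val, v i))).map Prod.fst).Nodup := by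
        rw [List.map_map]
        refine (X.orbF_nodup ha').map fun i k h => ?_
        by_contra hne
        exact X.S.simple_ne X.hN i k hne h
      refine X.coef_wG_mem (by norm_num : (1 : ℤ) ≤ ((0 : ℕ) : ℤ) + 1) hnd (fun p hp => ?_)
        ⟨C.sr j.val, hl⟩ hh.le (p := (C.sr j.val, v j)) (List.mem_map.2 ⟨j, hj, rfl⟩) rfl
      obtain ⟨i, hi, rfl⟩ := List.mem_map.1 hp
      exact ⟨((X.lev_spec hlev).1 _ (hmem i hi)).1, ((X.lev_spec hlev).1 _ (hmem i hi)).2.ge⟩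
    have h5 := congrArg (fun z => X.cf z (C.sr j.val)) h4
    simp only [hxdef, hcoef, mul_one] at h5
    exact Units.ext h5.symm
  have hall := X.S.chi_eq_one_of_simple c hchi
  apply Subtype.ext
  apply Units.ext
  rw [← hc, Ok.tG_val, OneMemClass.coe_one, Units.val_one, ← Matrix.diagonal_one]
  congr 1
  funext x
  rcases x with a | s
  · rfl
  · simpa using congrArg Units.val (hall s.val s.isLt)

theorem irreducible1 {M : CoxeterMatrix (Fin W.nO)} (hM : X.RelOK M) (hI : okIrr C' D'.rank = true)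
    (P : Cfsg.BNPair ↥X.G1) (hB : P.B = X.B1.subgroupOf X.G1)
    (hS : P.S = {n : ↥X.G1 | ∃ a < W.nO, (n : GL D.Idx F) = X.nJ a}) : P.Irreducible := by
  classical
  have hr := X.rank_target
  intro J hJ hne hrest
  let gS : Fin D'.rank → ↥X.G1 := fun i => X.tS (a := i.val) (by rw [hr]; exact i.isLt)
  let K : Finset (Fin D'.rank) := Finset.univ.filter fun i => gS i ∈ J
  have hel : ∀ n ∈ P.S, ∃ i : Fin D'.rank, n = gS i := by
    intro n hn
    rw [hS] at hn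
    obtain ⟨a, ha, e⟩ := hn
    exact ⟨⟨a, by rw [← hr]; exact ha⟩, Subtype.ext e⟩
  have hK : K ≠ Finset.univ := by
    obtain ⟨n, hn, hnJ⟩ := hrest
    obtain ⟨i, rfl⟩ := hel n hn
    intro h
    exact hnJ (Finset.mem_filter.1 (h ▸ Finset.mem_univ i : i ∈ K)).2
  have hK0 : 0 < ∑ i ∈ K, 2 ^ i.val := by
    obtain ⟨n, hn⟩ := hne
    obtain ⟨i, rfl⟩ := hel n (hJ hn)
    exact Finset.sum_pos (fun _ _ => by positivity) ⟨i, by simp [K, hn]⟩
  have hlt := sum_two_pow_lt K hK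
  have h0 := (kall_iff _ _).1 hI (∑ i ∈ K, 2 ^ i.val)
    (by rw [krange_eq, List.mem_range'_1]; simp only [Nat.sub_eq, Nat.pow_eq]; omega)
  simp only [Bool.not_eq_true', ← Bool.not_eq_true, kall_iff, not_forall] at h0
  obtain ⟨a, ha, b, hb, hab⟩ := h0
  rw [krange_eq, List.mem_range'_1, Nat.zero_add] at ha hb
  simp only [Bool.not_eq_true', Bool.not_eq_false, Bool.and_eq_true, Classical.not_not] at hab
  obtain ⟨⟨h1, h2⟩, h3⟩ := hab
  set i : Fin D'.rank := ⟨a, ha.2⟩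
  set j : Fin D'.rank := ⟨b, hb.2⟩
  rw [show a = i.val from rfl, testBit_sum_two_pow, decide_eq_true_iff] at h1
  rw [show b = j.val from rfl, testBit_sum_two_pow, decide_eq_false_iff_not] at h2
  have hjS : gS j ∈ P.S := by rw [hS]; exact ⟨j.val, by rw [hr]; exact j.isLt, rfl⟩
  have hjJ : gS j ∉ J := fun h => h2 (Finset.mem_filter.2 ⟨Finset.mem_univ _, h⟩)
  refine ⟨gS i, (Finset.mem_filter.1 h1).2, gS j, ⟨hjS, hjJ⟩, fun hBm => ?_⟩
  rw [hB, Subgroup.mem_subgroupOf] at hBm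
  simp only [Subgroup.coe_mul, Subgroup.coe_inv, gS, tS] at hBm
  let a' : Fin W.nO := Fin.cast hr.symm i
  let b' : Fin W.nO := Fin.cast hr.symm j
  have hd : X.nJ a'.val * X.nJ b'.val * (X.nJ a'.val)⁻¹ * (X.nJ b'.val)⁻¹ ∈ X.T1 :=
    X.B1_inf_mono hM (mul_mem (mul_mem (mul_mem (X.nJ_mem_N1 a'.isLt) (X.nJ_mem_N1 b'.isLt))
      (inv_mem (X.nJ_mem_N1 a'.isLt))) (inv_mem (X.nJ_mem_N1 b'.isLt))) (X.B1_le_borel hBm)
  have e1 := X.S.act_nL (F := F) (X.flatW [a', b'])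
  have e2 := X.S.act_mul (X.S.act_diag (X.T1_le_diag hd)) (X.S.act_nL (F := F) (X.flatW [b', a']))
  rw [one_mul] at e2
  have hprod : X.nJ a'.val * X.nJ b'.val * (X.nJ a'.val)⁻¹ * (X.nJ b'.val)⁻¹ * X.nW [b', a'] =
      X.nW [a', b'] := by
    simp only [X.nW_eq_prod, List.map_cons, List.map_nil, List.prod_cons, List.prod_nil, mul_one]
    group
  rw [show X.nJ a'.val * X.nJ b'.val * (X.nJ a'.val)⁻¹ * (X.nJ b'.val)⁻¹ * X.S.nL F (X.flatW [b', a']) =
    X.S.nL F (X.flatW [a', b']) from hprod] at e2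
  have heq := X.S.act_unique e1 e2
  obtain ⟨r, hr', er⟩ := X.proj_spec.2.2 (X.S'.sp i).val (Fin.isLt _)
  have p1 := X.wpL_proj [a', b'] ⟨r, hr'⟩
  have p2 := X.wpL_proj [b', a'] ⟨r, hr'⟩
  rw [heq] at p1
  have := p1.symm.trans p2
  simp only [er, List.map_cons, List.map_nil, Struct.wpL, List.prod_cons, List.prod_nil, mul_one,
    Equiv.Perm.mul_apply, Struct.wp_val] at this
  simp only [Cert.adjAt, Bool.not_eq_true', show a = i.val from rfl, show b = j.val from rfl] at h3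
  exact Nat.ne_of_beq_eq_false h3 this

theorem simple1 {M : CoxeterMatrix (Fin W.nO)} (hM : X.RelOK M) (hI : okIrr C' D'.rank = true)
    {Wit : List (ℕ × ℕ × ℕ × ℕ × List ℕ)} (hW : W.okWit D C Wit = true) {K : List ℕ}
    (hK : W.okOpp1 D.nroots C K = true) (hpos : 0 < W.nO) :
    IsSimpleGroup ↥X.G1 ∧ ¬ IsMulCommutative ↥X.G1 := by
  obtain ⟨P, hB, -, hS⟩ := X.exists_bnPair hM
  have h1 : X.Compat (fun _ => (1 : F)) := fun i => map_one _
  have hne : X.gP 0 (fun _ => (1 : F)) ≠ 1 := fun h => by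
    obtain ⟨e1, -⟩ := (X.orb_y_eq hpos h1).1
    have := (X.cf_y (X.orP_mem_lev hpos) (X.orP_mem_lev hpos) (1 : F)).1 rfl
    rw [e1, h, X.cf_one_lev (X.orP_mem_lev hpos)] at this
    exact zero_ne_one this
  have hnt : Nontrivial ↥X.G1 :=
    ⟨⟨⟨_, X.gP_mem_G1 hpos h1⟩, 1, fun h => hne (congrArg Subtype.val h)⟩⟩
  have hperf := X.perfect hW
  refine ⟨Cfsg.Lib.BN.simple_of_irreducible P (X.irreducible1 hM hI P hB hS) ?_ hperf ?_, fun hc => ?_⟩
  · rw [hB]
    have := X.S.isSolvable_borel (F := F)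
    exact Group.isSolvable_of_isSolvable_injective
      (f := ((Subgroup.inclusion X.B1_le_borel).comp (Subgroup.subgroupOfEquivOfLe X.B1_le_G1).toMonoidHom))
      (fun x y h => (Subgroup.subgroupOfEquivOfLe X.B1_le_G1).injective
        (Subgroup.inclusion_injective X.B1_le_borel h))
  · rw [hB]
    exact X.normalCore_B1 hM hK
  · have h0 : commutator ↥X.G1 = ⊥ := by
      rw [commutator_def, Subgroup.commutator_eq_bot_iff_le_centralizer]
      intro x _
      rw [Subgroup.mem_centralizer_iff]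
      exact fun y _ => hc.is_comm.comm y x
    rw [hperf] at h0
    exact absurd h0 top_ne_bot

end Tw

end Cfsg.Lib.Chev
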