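import Cfsg.Agent.Chev.Tw.Count
import Cfsg.Prelude.Def_LieTwisted
import Cfsg.Agent.Chev.Tw.Simple
import Cfsg.Agent.Chev.Tw.DataOk
import Cfsg.Agent.Chev.Types
import Cfsg.Agent.Chev.Ht

/-! The twisted groups ²E₆(q) and ³D₄(q). -/

set_option autoImplicit false

open Cfsg.Lie

namespace Cfsg.Lib.Chev

section Field

variable {K : Type*} [Field K] [Fintype K]

theorem exists_pow_hom {q m : ℕ} (hq : IsPrimePow q) (hm : m ≠ 0) (hK : Fintype.card K = q ^ m) :
    ∃ f : K →+* K, ∀ t, f t = t ^ q := by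
  obtain ⟨p, k, hp, hk, rfl⟩ := hq
  have hp' : p.Prime := hp.nat_prime
  obtain ⟨p', hch⟩ := CharP.exists K
  haveI := hch
  obtain ⟨n, hp'', hn⟩ := FiniteField.card K p'
  have e : p' = p := by
    have h1 : p ∣ p' ^ (n : ℕ) := by
      rw [← hn, hK, ← pow_mul]
      exact dvd_pow_self p (Nat.mul_ne_zero hk.ne' hm)
    exact ((Nat.prime_dvd_prime_iff_eq hp' hp'').1 (hp'.dvd_of_dvd_pow h1)).symm
  subst e
  haveI := Fact.mk hp''
  exact ⟨iterateFrobenius K p' k, fun t => iterateFrobenius_def p' k t⟩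

end Field

theorem one_lt_of_primePow {q : ℕ} (hq : IsPrimePow q) : 1 < q := hq.one_lt

theorem torus_ker_spec {M : Type*} [CommGroup M] {l g : ℕ} {A : Fin l → Fin l → ℤ} {e : ℕ}
    {piv : Fin g → Fin l} {K : Fin l → Fin g → ℤ} {T : Fin l → Fin l → ℤ} {T' : Fin g → Fin l → ℤ}
    (h : Struct.TorusCert l g A e piv K T T') {c : Fin l → M} (hc : ∀ j, ∏ i, c i ^ A i j = 1) :
    (∀ a, c (piv a) ^ e = 1) ∧ ∀ i, c i = ∏ a, c (piv a) ^ K i a := by
  obtain ⟨-, -, h3, h4⟩ := h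
  have hz : ∀ (z : M) (f : Fin l → ℤ) (s : Finset (Fin l)), z ^ (∑ j ∈ s, f j) = ∏ j ∈ s, z ^ f j := by
    intro z f s
    induction s using Finset.cons_induction with
    | empty => simp
    | cons a s ha ih => rw [Finset.sum_cons, Finset.prod_cons, zpow_add, ih]
  have comb : ∀ t : Fin l → ℤ, ∏ m, c m ^ (∑ j, A m j * t j) = 1 := by
    intro t
    simp only [hz, zpow_mul]
    rw [Finset.prod_comm]
    refine Finset.prod_eq_one fun j _ => ?_
    rw [Finset.prod_zpow, hc j, one_zpow]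
  refine ⟨fun a => ?_, fun i => ?_⟩
  · have := comb (T' a)
    simp only [← h4 a] at this
    rw [Finset.prod_eq_single (piv a) (fun m _ hm => by simp [hm]) (by simp), if_pos rfl, zpow_natCast] at this
    exact this
  · have := comb (T i)
    simp only [← h3 i] at this
    simp only [zpow_sub, Finset.prod_mul_distrib, Finset.prod_inv_distrib] at this
    rw [mul_inv_eq_one, Finset.prod_eq_single i (fun m _ hm => by simp [hm]) (by simp), if_pos rfl, zpow_one] at this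
    rw [this]
    have hs : ∀ (m : Fin l) (s : Finset (Fin g)), c m ^ (∑ b ∈ s, if m = piv b then K i b else 0) =
        ∏ b ∈ s, c m ^ (if m = piv b then K i b else 0) := by
      intro m s
      induction s using Finset.cons_induction with
      | empty => simp
      | cons x s hx ih => rw [Finset.sum_cons, Finset.prod_cons, zpow_add, ih]
    simp only [hs]
    rw [Finset.prod_comm]
    refine Finset.prod_congr rfl fun b _ => ?_
    rw [Finset.prod_eq_single (piv b) (fun m _ hm => by simp [hm]) (by simp), if_pos rfl]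

namespace Struct

variable {D : ChevalleyDatum} {C : Cert}

theorem tG_eq_one_iff {F : Type*} [Field F] (S : Struct D C) (c : Fin D.rank → Fˣ) :
    Ok.tG D F c = 1 ↔ ∀ j : Fin D.rank, ∏ i, c i ^ C.cart i.val (C.sr j.val) = 1 := by
  constructor
  · intro hc j
    have e1 := congrArg (fun M : GL D.Idx F => (M : Matrix D.Idx D.Idx F) (Sum.inr (S.sp j)) (Sum.inr (S.sp j))) hc
    simp only [Ok.tG_val, Units.val_one, Matrix.diagonal_apply_eq, Matrix.one_apply_eq, Sum.elim_inr] at e1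
    refine Eq.trans (Finset.prod_congr rfl fun i _ => ?_) (Units.val_eq_one.1 e1)
    rw [show (S.sp j).val = C.sr j.val from rfl, S.ok.cart_eq i.isLt (S.ok.sr_lt j.isLt)]
  · intro hc
    have hall := S.chi_eq_one_of_simple c fun j => by
      refine Eq.trans (Finset.prod_congr rfl fun i _ => ?_) (hc j)
      rw [S.ok.cart_eq i.isLt (S.ok.sr_lt j.isLt)]
    apply Units.ext
    rw [Ok.tG_val, Units.val_one, ← Matrix.diagonal_one]
    congr 1
    funext x
    rcases x with a | s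
    · rfl
    · simpa using congrArg Units.val (hall s.val s.isLt)

theorem val_wG {F : Type*} [Field F] (S : Struct D C) : ∀ w : List (ℕ × F),
    ((S.ok.wG w : GL D.Idx F) : Matrix D.Idx D.Idx F) = D.wordMat F w
  | [] => by simp [Ok.wG, ChevalleyDatum.wordMat]
  | p :: w => by
    rw [show S.ok.wG (p :: w) = S.ok.xG p.1 p.2 * S.ok.wG w by simp [Ok.wG], Units.val_mul, S.ok.val_xG,
      val_wG S w]
    simp [ChevalleyDatum.wordMat]

theorem genSubgroup_eq {F : Type*} [Field F] (S : Struct D C) (Wd : Set (List (ℕ × F))) :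
    D.genSubgroup F Wd = Subgroup.closure (S.ok.wG '' Wd) := by
  refine congrArg Subgroup.closure (Set.ext fun g => ⟨?_, ?_⟩)
  · rintro ⟨w, hw, e⟩
    exact ⟨w, hw, Units.ext ((S.val_wG w).trans e.symm)⟩
  · rintro ⟨w, hw, rfl⟩
    exact ⟨w, hw, S.val_wG w⟩

end Struct

namespace E6

theorem tw_sgn : E6.tw.okSgn chevE6.nroots chevF4.nroots = true := by decide +kernel

theorem tw_rel : ∀ a b : Fin 4,
    kex (fun p => Nat.beq p.1 a.val && Nat.beq p.2.1 b.val && Nat.beq p.2.2.1 (CoxeterMatrix.F₄ a b)) E6.tw.rels = true := by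
  decide +kernel

/-- Witnesses for perfectness. -/
noncomputable def twWit : List (ℕ × ℕ × ℕ × ℕ × List ℕ) :=
  [(2, 39, 46, 47, [3]), (3, 39, 46, 47, [2])]

theorem tw_wit : E6.tw.okWit chevE6 E6.cert twWit = true := by decide +kernel

theorem tw_opp : E6.tw.okOpp1 chevE6.nroots E6.cert
    [0, 1, 0, 2, 1, 0, 2, 1, 2, 3, 2, 1, 0, 2, 1, 2, 3, 2, 1, 0, 2, 1, 2, 3] = true := by decide +kernel

theorem tw_poly : peq (pmul (pmul (pmul [-1, 1] (pmul [-1, 1] (pmul [-1, 1] [-1, 1]))) (pmul [1, 1] [1, 1]))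
    (levsPolyW F4.cert (E6.tw.wt chevE6.nroots) F4.levs))
    (pmul (padd (pmono 2) [-1]) (pmul (padd (pmono 5) [1]) (pmul (padd (pmono 6) [-1])
      (pmul (padd (pmono 8) [-1]) (pmul (padd (pmono 9) [1]) (padd (pmono 12) [-1])))))) = true := by
  decide +kernel

theorem tw_orbs : (E6.tw.orb.map fun J => (J.map E6.cert.sr, J.map fun i => E6.cert.neg (E6.cert.sr i))) =
    [([56, 36], [15, 35]), ([42, 37], [29, 34]), ([39], [32]), ([46], [25])] := by decide +kernel

theorem tw_eps : ∀ r ∈ [56, 36, 15, 35, 42, 37, 29, 34, 39, 32, 46, 25],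
    E6.tw.G.eps chevE6.rank r = 1 := by decide +kernel

variable {K : Type*} [Field K] [Fintype K] {q : ℕ}

theorem exists_tw (hq : IsPrimePow q) (hK : Fintype.card K = q ^ 2) :
    ∃ X : Tw chevE6 chevF4 E6.cert F4.cert E6.tw E6.htTab K, X.q = q := by
  obtain ⟨f, hf⟩ := exists_pow_hom hq (by norm_num) hK
  exact ⟨⟨E6.struct, F4.struct, okNeg_E6, okNeg_F4, E6.ht, E6.tw_ok, (by decide +kernel), f, q, hq.one_lt, hf,
    by rw [Nat.card_eq_fintype_card, hK]; rfl⟩, rfl⟩

theorem relOK (X : Tw chevE6 chevF4 E6.cert F4.cert E6.tw E6.htTab K) :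
    X.RelOK (CoxeterMatrix.F₄ : CoxeterMatrix (Fin 4)) := by
  intro a b
  refine ⟨cox_F4 a b, ?_⟩
  obtain ⟨⟨x, y, m, mask⟩, hp, e⟩ := (kex_iff _ _).1 (tw_rel a b)
  simp only [Bool.and_eq_true] at e
  refine ⟨mask, ?_⟩
  have e1 := Nat.eq_of_beq_eq_true e.1.1
  have e2 := Nat.eq_of_beq_eq_true e.1.2
  have e3 := Nat.eq_of_beq_eq_true e.2
  obtain rfl : x = a.val := e1
  obtain rfl : y = b.val := e2
  obtain rfl : m = _ := e3
  exact hp

theorem G1_eq (X : Tw chevE6 chevF4 E6.cert F4.cert E6.tw E6.htTab K) :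
    X.G1 = twistedE6 K X.q := by
  have hq2 : ∀ t : K, (t ^ X.q) ^ X.q = t := fun t => by
    have := X.f_iter t
    rw [show E6.tw.m = 2 from rfl] at this
    rw [← X.hfq, ← X.hfq]
    exact this
  have heps : ∀ r ∈ [56, 36, 15, 35, 42, 37, 29, 34, 39, 32, 46, 25], X.eps r = 1 := fun r hr => by
    show ((E6.tw.G.eps chevE6.rank r : ℤ) : K) = 1
    rw [tw_eps r hr, Int.cast_one]
  have h := tw_orbs
  have horb : ∀ a, a < 4 → (X.orP a, X.orN a) =
      ([([56, 36], [15, 35]), ([42, 37], [29, 34]), ([39], [32]), ([46], [25])] : List (List ℕ × List ℕ)).getD a ([], []) := by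
    intro a ha
    rw [← h]
    interval_cases a <;> rfl
  rw [twistedE6, X.S.genSubgroup_eq]
  apply le_antisymm
  · refine (Subgroup.closure_le _).2 ?_
    rintro g ⟨a, ha, c, hc, t, ht, rfl⟩
    have ha4 : a < 4 := ha
    have e := horb a ha4
    refine Subgroup.subset_closure ⟨X.orbW c t, ?_, rfl⟩
    have ht' : X.nxt c t = t := ht
    interval_cases a <;> simp only [List.getD_cons_zero, List.getD_cons_succ, Prod.mk.injEq] at e <;>
      rcases hc with rfl | rfl
    · right; exact ⟨t, (56, 36), by simp [e6p1, e6p6], by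
        simp [e.1, Tw.orbW, heps 56 (by simp), X.hfq]⟩
    · right; exact ⟨t, (15, 35), by simp [e6m1, e6m6], by
        simp [e.2, Tw.orbW, heps 15 (by simp), X.hfq]⟩
    · right; exact ⟨t, (42, 37), by simp [e6p3, e6p5], by
        simp [e.1, Tw.orbW, heps 42 (by simp), X.hfq]⟩
    · right; exact ⟨t, (29, 34), by simp [e6m3, e6m5], by
        simp [e.2, Tw.orbW, heps 29 (by simp), X.hfq]⟩
    · left
      simp only [e.1, Tw.nxt, heps 39 (by simp), one_mul, X.hfq] at ht'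
      exact ⟨t, ht', 39, by simp [e6p4], by simp [e.1, Tw.orbW]⟩
    · left
      simp only [e.2, Tw.nxt, heps 32 (by simp), one_mul, X.hfq] at ht'
      exact ⟨t, ht', 32, by simp [e6m4], by simp [e.2, Tw.orbW]⟩
    · left
      simp only [e.1, Tw.nxt, heps 46 (by simp), one_mul, X.hfq] at ht'
      exact ⟨t, ht', 46, by simp [e6p2], by simp [e.1, Tw.orbW]⟩
    · left
      simp only [e.2, Tw.nxt, heps 25 (by simp), one_mul, X.hfq] at ht'
      exact ⟨t, ht', 25, by simp [e6m2], by simp [e.2, Tw.orbW]⟩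
  · refine (Subgroup.closure_le _).2 ?_
    have h0 := horb 0 (by norm_num)
    have h1 := horb 1 (by norm_num)
    have h2 := horb 2 (by norm_num)
    have h3 := horb 3 (by norm_num)
    simp only [List.getD_cons_zero, List.getD_cons_succ, Prod.mk.injEq] at h0 h1 h2 h3
    have key2 : ∀ r s, r ∈ [56, 36, 15, 35, 42, 37, 29, 34, 39, 32, 46, 25] →
        s ∈ [56, 36, 15, 35, 42, 37, 29, 34, 39, 32, 46, 25] → ∀ t : K,
        X.S.ok.wG [(r, t), (s, t ^ X.q)] = X.y [r, s] t ∧ t ∈ X.Allowed [r, s] := fun r s hr hs t => by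
      constructor
      · simp [Tw.y, Tw.orbW, heps r hr, X.hfq]
      · show X.nxt [r, s] t = t
        simp only [Tw.nxt, heps r hr, heps s hs, one_mul, X.hfq]
        exact hq2 t
    have key1 : ∀ r, r ∈ [56, 36, 15, 35, 42, 37, 29, 34, 39, 32, 46, 25] → ∀ t : K, t ^ X.q = t →
        X.S.ok.wG [(r, t)] = X.y [r] t ∧ t ∈ X.Allowed [r] := fun r hr t ht => by
      constructor
      · simp [Tw.y, Tw.orbW]
      · show X.nxt [r] t = t
        simp only [Tw.nxt, heps r hr, one_mul, X.hfq]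
        exact ht
    rintro g ⟨w, (⟨t, ht, r, hr, rfl⟩ | ⟨t, rs, hrs, rfl⟩), rfl⟩
    · simp only [e6p2, e6m2, e6p4, e6m4, List.mem_cons, List.not_mem_nil, or_false] at hr
      rcases hr with rfl | rfl | rfl | rfl
      · obtain ⟨e1, e2⟩ := key1 46 (by simp) t ht
        rw [SetLike.mem_coe, e1]
        exact X.y_mem_G1 (a := 3) (by decide +kernel) (Or.inl h3.1.symm) e2
      · obtain ⟨e1, e2⟩ := key1 25 (by simp) t ht
        rw [SetLike.mem_coe, e1]
        exact X.y_mem_G1 (a := 3) (by decide +kernel) (Or.inr h3.2.symm) e2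
      · obtain ⟨e1, e2⟩ := key1 39 (by simp) t ht
        rw [SetLike.mem_coe, e1]
        exact X.y_mem_G1 (a := 2) (by decide +kernel) (Or.inl h2.1.symm) e2
      · obtain ⟨e1, e2⟩ := key1 32 (by simp) t ht
        rw [SetLike.mem_coe, e1]
        exact X.y_mem_G1 (a := 2) (by decide +kernel) (Or.inr h2.2.symm) e2
    · simp only [e6p1, e6p6, e6m1, e6m6, e6p3, e6p5, e6m3, e6m5, List.mem_cons, List.not_mem_nil, or_false] at hrs
      rcases hrs with rfl | rfl | rfl | rfl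
      · obtain ⟨e1, e2⟩ := key2 56 36 (by simp) (by simp) t
        rw [SetLike.mem_coe, e1]
        exact X.y_mem_G1 (a := 0) (by decide +kernel) (Or.inl h0.1.symm) e2
      · obtain ⟨e1, e2⟩ := key2 15 35 (by simp) (by simp) t
        rw [SetLike.mem_coe, e1]
        exact X.y_mem_G1 (a := 0) (by decide +kernel) (Or.inr h0.2.symm) e2
      · obtain ⟨e1, e2⟩ := key2 42 37 (by simp) (by simp) t
        rw [SetLike.mem_coe, e1]
        exact X.y_mem_G1 (a := 1) (by decide +kernel) (Or.inl h1.1.symm) e2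
      · obtain ⟨e1, e2⟩ := key2 29 34 (by simp) (by simp) t
        rw [SetLike.mem_coe, e1]
        exact X.y_mem_G1 (a := 1) (by decide +kernel) (Or.inr h1.2.symm) e2

theorem card_ker (X : Tw chevE6 chevF4 E6.cert F4.cert E6.tw E6.htTab K) :
    Nat.card {c : Fin chevE6.rank → Kˣ // c ∈ X.CT ∧ Ok.tG chevE6 K c = 1} = Nat.gcd 3 (X.q + 1) := by
  classical
  set g := Nat.gcd 3 (X.q + 1) with hg
  have hcard : Nat.card (powMonoidHom g : Kˣ →* Kˣ).ker = g := by
    rw [IsCyclic.card_powMonoidHom_ker, Nat.card_units, X.hcard]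
    refine Nat.gcd_eq_right ?_
    have h1 : g ∣ X.q + 1 := Nat.gcd_dvd_right _ _
    have hq := X.hq
    show g ∣ X.q ^ 2 - 1
    have e : X.q ^ 2 - 1 = (X.q + 1) * (X.q - 1) := by
      rw [← one_pow 2, Nat.sq_sub_sq, one_pow]
    rw [e]
    exact h1.mul_right _
  rw [← hcard]
  let Kv : Fin 6 → ℕ := ![1, 0, 2, 0, 1, 2]
  have hz : ∀ z : Kˣ, z ^ g = 1 → z ^ 3 = 1 ∧ z ^ (X.q + 1) = 1 := fun z hz => by
    constructor
    · obtain ⟨d, hd⟩ : g ∣ 3 := Nat.gcd_dvd_left _ _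
      rw [hd, pow_mul, hz, one_pow]
    · obtain ⟨d, hd⟩ : g ∣ X.q + 1 := Nat.gcd_dvd_right _ _
      rw [hd, pow_mul, hz, one_pow]
  let f : {c : Fin 6 → Kˣ // c ∈ X.CT ∧ Ok.tG chevE6 K c = 1} → (powMonoidHom g : Kˣ →* Kˣ).ker := fun c =>
    ⟨c.1 0, by
      obtain ⟨h1, h2⟩ := torus_ker_spec E6.torus ((X.S.tG_eq_one_iff c.1).1 c.2.2)
      have a3 : c.1 0 ^ 3 = 1 := h1 0
      have a5 : c.1 5 = c.1 0 ^ 2 := by
        rw [h2 5]; simp
      have af : c.1 0 ^ X.q = c.1 5 := by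
        have := c.2.1 (0 : Fin 6)
        rw [X.hfq] at this
        exact Units.ext (by rw [Units.val_pow_eq_pow_val]; exact this)
      have a1 : c.1 0 ^ (X.q + 1) = 1 := by rw [pow_succ, af, a5, ← pow_succ, a3]
      show c.1 0 ^ g = 1
      exact pow_gcd_eq_one.2 ⟨a3, a1⟩⟩
  refine Nat.card_eq_of_bijective f ⟨?_, ?_⟩
  · intro c c' h
    have h0 : c.1 (0 : Fin 6) = c'.1 (0 : Fin 6) := congrArg Subtype.val h
    obtain ⟨-, h1⟩ := torus_ker_spec E6.torus ((X.S.tG_eq_one_iff c.1).1 c.2.2)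
    obtain ⟨-, h2⟩ := torus_ker_spec E6.torus ((X.S.tG_eq_one_iff c'.1).1 c'.2.2)
    have key : ∀ i : Fin 6, c.1 i = c'.1 i := fun i => by
      refine (h1 i).trans (Eq.trans ?_ (h2 i).symm)
      refine Finset.prod_congr rfl fun a _ => ?_
      rw [show (![0] : Fin 1 → Fin 6) a = 0 by fin_cases a; rfl]
      exact congrArg (fun z : Kˣ => z ^ _) h0
    exact Subtype.ext (funext key)
  · rintro ⟨z, hzg⟩
    obtain ⟨z3, zq⟩ := hz z hzg
    have hzq : z ^ X.q = z ^ 2 := by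
      have : z ^ X.q * z = z ^ 2 * z := by rw [← pow_succ, zq, ← pow_succ, z3]
      exact mul_right_cancel this
    have hmod : ∀ i j : Fin 6, j.val = E6.tw.piAt i.val → (2 * Kv i) % 3 = Kv j % 3 := by decide +kernel
    have key : ∀ i j : Fin 6, j.val = E6.tw.piAt i.val →
        X.f ((z ^ Kv i : Kˣ) : K) = ((z ^ Kv j : Kˣ) : K) := fun i j hij => by
      rw [X.hfq, ← Units.val_pow_eq_pow_val, ← pow_mul, mul_comm, pow_mul, hzq, ← pow_mul,
        ← Nat.mod_add_div (2 * Kv i) 3, pow_add, pow_mul, z3, one_pow, mul_one, hmod i j hij]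
      conv_rhs => rw [← Nat.mod_add_div (Kv j) 3, pow_add, pow_mul, z3, one_pow, mul_one]
    refine ⟨⟨fun i : Fin 6 => z ^ Kv i, fun i => key i (X.piF i) rfl, ?_⟩, Subtype.ext (by simp [f, Kv])⟩
    · refine (X.S.tG_eq_one_iff _).2 fun j => ?_
      obtain ⟨-, h2, -, -⟩ := E6.torus
      obtain ⟨d, hd⟩ := h2 j 0
      have : ∀ i, ((z ^ Kv i : Kˣ)) ^ E6.cert.cart i.val (E6.cert.sr j.val) =
          z ^ (E6.cert.cart i.val (E6.cert.sr j.val) * (![![1], ![0], ![2], ![0], ![1], ![2]] i (0 : Fin 1) : ℤ)) := fun i => by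
        rw [← zpow_natCast, ← zpow_mul, mul_comm]
        congr 2
        revert i
        decide +kernel
      show ∏ i : Fin 6, _ = 1
      simp only [this]
      have hs : ∀ (f : Fin 6 → ℤ) (s : Finset (Fin 6)), z ^ (∑ i ∈ s, f i) = ∏ i ∈ s, z ^ f i := by
        intro f s
        induction s using Finset.cons_induction with
        | empty => simp
        | cons a s ha ih => rw [Finset.sum_cons, Finset.prod_cons, zpow_add, ih]
      rw [← hs, hd, zpow_mul, zpow_natCast, z3, one_zpow]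

theorem twOrder (hq : IsPrimePow q) (hK : Fintype.card K = q ^ 2) :
    Nat.gcd 3 (q + 1) * Nat.card ↥(twistedE6 K q) =
      q ^ 36 * (q ^ 2 - 1) * (q ^ 5 + 1) * (q ^ 6 - 1) * (q ^ 8 - 1) * (q ^ 9 + 1) * (q ^ 12 - 1) := by
  obtain ⟨X, rfl⟩ := exists_tw hq hK
  have hM := relOK X
  rw [← G1_eq X, X.card_G1 hM, X.card_B1 hM, X.sum_W1 hM tw_sgn]
  have hT := X.card_T1 (card_ker X)
  rw [show (E6.tw.lv.map fun L => (L.map List.length).sum).sum = 36 by decide +kernel]
  have hprod : ∏ a : Fin E6.tw.nO, (X.q ^ (E6.tw.orbAt a).length - 1) =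
      (X.q ^ 2 - 1) * (X.q ^ 2 - 1) * (X.q - 1) * (X.q - 1) := by
    show ∏ a : Fin 4, (X.q ^ (E6.tw.orbAt a).length - 1) = _
    rw [Fin.prod_univ_four]
    simp [TwDat.orbAt, E6.tw]
  rw [hprod] at hT
  have hP := F4.struct.PsumW_eval (E6.tw.wt chevE6.nroots)
    (fun i hi r hr => X.wt_w i (by rw [X.rank_target]; exact hi) hr) F4.poincare X.q
  have h4 := congrArg (fun L => peval L (X.q : ℤ))
    (listBeq_eq (eq := fun a b : ℤ => decide (a = b)) (fun a b hab => of_decide_eq_true hab) tw_poly)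
  simp only [peval_pmul, peval_padd, peval_pmono] at h4
  rw [← hP] at h4
  simp only [peval] at h4
  have h1 : 1 ≤ X.q := by have := X.hq; omega
  have hp : ∀ d, 1 ≤ X.q ^ d := fun d => Nat.one_le_pow _ _ h1
  set P := X.S'.PsumW (E6.tw.wt chevE6.nroots) chevF4.rank X.q
  calc Nat.gcd 3 (X.q + 1) * (X.q ^ 36 * Nat.card ↥X.T1 * P)
      = X.q ^ 36 * (Nat.gcd 3 (X.q + 1) * Nat.card ↥X.T1) * P := by ring
    _ = _ := by
      rw [hT]
      apply Nat.cast_injective (R := ℤ)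
      push_cast [Nat.cast_sub (hp 2), Nat.cast_sub (hp 6), Nat.cast_sub (hp 8), Nat.cast_sub (hp 12),
        Nat.cast_sub h1]
      linear_combination ((X.q : ℤ) ^ 36) * h4

theorem twBN (hq : IsPrimePow q) (hK : Fintype.card K = q ^ 2) :
    ∃ P : Cfsg.BNPair ↥(twistedE6 K q),
      P.B = (chevE6.borelSubgroup K ⊓ twistedE6 K q).subgroupOf (twistedE6 K q) ∧
      P.N = (chevE6.monomialSubgroup K ⊓ twistedE6 K q).subgroupOf (twistedE6 K q) := by
  obtain ⟨X, rfl⟩ := exists_tw hq hK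
  rw [← G1_eq X, X.borel_inf_G1 (relOK X), X.mono_inf_G1 (relOK X)]
  obtain ⟨P, h1, h2, -⟩ := X.exists_bnPair (relOK X)
  exact ⟨P, h1, h2⟩

theorem twU (hq : IsPrimePow q) (hK : Fintype.card K = q ^ 2) :
    Nat.card ↥(chevE6.posUnipotent K ⊓ twistedE6 K q) = q ^ 36 := by
  obtain ⟨X, rfl⟩ := exists_tw hq hK
  rw [← G1_eq X, X.U_inf_G1, X.card_U_fix]
  congr 1

theorem twH (hq : IsPrimePow q) (hK : Fintype.card K = q ^ 2) :
    Nat.gcd 3 (q + 1) * Nat.card ↥(chevE6.diagonalSubgroup K ⊓ twistedE6 K q) = (q - 1) ^ 4 * (q + 1) ^ 2 := by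
  obtain ⟨X, rfl⟩ := exists_tw hq hK
  rw [← G1_eq X, X.diag_inf_G1 (relOK X), X.card_T1 (card_ker X)]
  show ∏ a : Fin 4, (X.q ^ (E6.tw.orbAt a).length - 1) = _
  rw [Fin.prod_univ_four]
  simp only [TwDat.orbAt, E6.tw, List.getD_cons_zero, List.getD_cons_succ, List.length_cons, List.length_nil,
    Fin.val_zero, Fin.val_one, Fin.val_two, show ((3 : Fin 4) : ℕ) = 3 from rfl, zero_add, pow_one]
  rw [show (1 + 1) = 2 from rfl, show X.q ^ 2 - 1 = (X.q + 1) * (X.q - 1) by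
    rw [← one_pow 2, Nat.sq_sub_sq, one_pow]]
  ring

theorem twWeyl (hq : IsPrimePow q) (hK : Fintype.card K = q ^ 2) :
    ∃ φ : ↥(chevE6.monomialSubgroup K ⊓ twistedE6 K q) →* (CoxeterMatrix.F₄).Group, Function.Surjective φ ∧
      φ.ker = (chevE6.diagonalSubgroup K ⊓ twistedE6 K q).subgroupOf
        (chevE6.monomialSubgroup K ⊓ twistedE6 K q) := by
  obtain ⟨X, rfl⟩ := exists_tw hq hK
  rw [← G1_eq X, X.mono_inf_G1 (relOK X), X.diag_inf_G1 (relOK X)]
  obtain ⟨φ, h1, h2, -⟩ := X.weyl (relOK X)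
  exact ⟨φ, h1, h2⟩

theorem twPerfect (hq : IsPrimePow q) (hK : Fintype.card K = q ^ 2) : commutator ↥(twistedE6 K q) = ⊤ := by
  obtain ⟨X, rfl⟩ := exists_tw hq hK
  rw [← G1_eq X]
  exact X.perfect tw_wit

theorem twCore (hq : IsPrimePow q) (hK : Fintype.card K = q ^ 2) :
    ((chevE6.borelSubgroup K ⊓ twistedE6 K q).subgroupOf (twistedE6 K q)).normalCore = ⊥ := by
  obtain ⟨X, rfl⟩ := exists_tw hq hK
  rw [← G1_eq X, X.borel_inf_G1 (relOK X)]
  exact X.normalCore_B1 (relOK X) tw_opp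

theorem twSimple (hq : IsPrimePow q) (hK : Fintype.card K = q ^ 2) :
    IsSimpleGroup ↥(twistedE6 K q) ∧ ¬ IsMulCommutative ↥(twistedE6 K q) := by
  obtain ⟨X, rfl⟩ := exists_tw hq hK
  rw [← G1_eq X]
  exact X.simple1 (relOK X) F4.irr tw_wit tw_opp (by decide +kernel)

end E6

namespace D4

theorem tw_sgn : D4.tw.okSgn chevD4.nroots chevG2.nroots = true := by decide +kernel

theorem tw_rel : ∀ a b : Fin 2,
    kex (fun p => Nat.beq p.1 a.val && Nat.beq p.2.1 b.val && Nat.beq p.2.2.1 (CoxeterMatrix.G₂ a b)) D4.tw.rels = true := by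
  decide +kernel

/-- Witnesses for perfectness. -/
noncomputable def twWit : List (ℕ × ℕ × ℕ × ℕ × List ℕ) := [(1, 14, 22, 23, [0, 1])]

theorem tw_wit : D4.tw.okWit chevD4 D4.cert twWit = true := by decide +kernel

theorem tw_opp : D4.tw.okOpp1 chevD4.nroots D4.cert [0, 1, 0, 1, 0, 1] = true := by decide +kernel

theorem tw_poly : peq (pmul (pmul (pmul [-1, 1] [-1, 1]) [1, 1, 1])
    (levsPolyW G2.cert (D4.tw.wt chevD4.nroots) G2.levs))
    (pmul (padd (pmono 2) [-1]) (pmul (padd (pmono 6) [-1]) (padd (pmono 8) (padd (pmono 4) [1])))) = true := by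
  decide +kernel

theorem tw_orbs : (D4.tw.orb.map fun J => (J.map D4.cert.sr, J.map fun i => D4.cert.neg (D4.cert.sr i))) =
    [([18, 13, 12], [5, 10, 11]), ([14], [9])] := by decide +kernel

theorem tw_eps : ∀ r ∈ [18, 13, 12, 5, 10, 11, 14, 9], D4.tw.G.eps chevD4.rank r = 1 := by decide +kernel

variable {K : Type*} [Field K] [Fintype K] {q : ℕ}

theorem exists_tw (hq : IsPrimePow q) (hK : Fintype.card K = q ^ 3) :
    ∃ X : Tw chevD4 chevG2 D4.cert G2.cert D4.tw D4.htTab K, X.q = q := by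
  obtain ⟨f, hf⟩ := exists_pow_hom hq (by norm_num) hK
  exact ⟨⟨D4.struct, G2.struct, okNeg_D4, okNeg_G2, D4.ht, D4.tw_ok, (by decide +kernel), f, q, hq.one_lt, hf,
    by rw [Nat.card_eq_fintype_card, hK]; rfl⟩, rfl⟩

theorem relOK (X : Tw chevD4 chevG2 D4.cert G2.cert D4.tw D4.htTab K) :
    X.RelOK (CoxeterMatrix.G₂ : CoxeterMatrix (Fin 2)) := by
  intro a b
  refine ⟨cox_G2 a b, ?_⟩
  obtain ⟨⟨x, y, m, mask⟩, hp, e⟩ := (kex_iff _ _).1 (tw_rel a b)
  simp only [Bool.and_eq_true] at e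
  refine ⟨mask, ?_⟩
  have e1 := Nat.eq_of_beq_eq_true e.1.1
  have e2 := Nat.eq_of_beq_eq_true e.1.2
  have e3 := Nat.eq_of_beq_eq_true e.2
  obtain rfl : x = a.val := e1
  obtain rfl : y = b.val := e2
  obtain rfl : m = _ := e3
  exact hp

theorem G1_eq (X : Tw chevD4 chevG2 D4.cert G2.cert D4.tw D4.htTab K) :
    X.G1 = twistedD4 K X.q := by
  have hq3 : ∀ t : K, ((t ^ X.q) ^ X.q) ^ X.q = t := fun t => by
    have := X.f_iter t
    rw [show D4.tw.m = 3 from rfl] at this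
    rw [← X.hfq, ← X.hfq, ← X.hfq]
    exact this
  have heps : ∀ r ∈ [18, 13, 12, 5, 10, 11, 14, 9], X.eps r = 1 := fun r hr => by
    show ((D4.tw.G.eps chevD4.rank r : ℤ) : K) = 1
    rw [tw_eps r hr, Int.cast_one]
  have h := tw_orbs
  have horb : ∀ a, a < 2 → (X.orP a, X.orN a) =
      ([([18, 13, 12], [5, 10, 11]), ([14], [9])] : List (List ℕ × List ℕ)).getD a ([], []) := by
    intro a ha
    rw [← h]
    interval_cases a <;> rfl
  rw [twistedD4, X.S.genSubgroup_eq]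
  apply le_antisymm
  · refine (Subgroup.closure_le _).2 ?_
    rintro g ⟨a, ha, c, hc, t, ht, rfl⟩
    have ha4 : a < 2 := ha
    have e := horb a ha4
    refine Subgroup.subset_closure ⟨X.orbW c t, ?_, rfl⟩
    have ht' : X.nxt c t = t := ht
    interval_cases a <;> simp only [List.getD_cons_zero, List.getD_cons_succ, Prod.mk.injEq] at e <;>
      rcases hc with rfl | rfl
    · right; exact ⟨t, (18, 13, 12), by simp [d4p1, d4p3, d4p4], by
        simp [e.1, Tw.orbW, heps 18 (by simp), heps 13 (by simp), X.hfq, ← pow_mul, ← sq]⟩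
    · right; exact ⟨t, (5, 10, 11), by simp [d4m1, d4m3, d4m4], by
        simp [e.2, Tw.orbW, heps 5 (by simp), heps 10 (by simp), X.hfq, ← pow_mul, ← sq]⟩
    · left
      simp only [e.1, Tw.nxt, heps 14 (by simp), one_mul, X.hfq] at ht'
      exact ⟨t, ht', 14, by simp [d4p2], by simp [e.1, Tw.orbW]⟩
    · left
      simp only [e.2, Tw.nxt, heps 9 (by simp), one_mul, X.hfq] at ht'
      exact ⟨t, ht', 9, by simp [d4m2], by simp [e.2, Tw.orbW]⟩
  · refine (Subgroup.closure_le _).2 ?_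
    have h0 := horb 0 (by norm_num)
    have h1 := horb 1 (by norm_num)
    simp only [List.getD_cons_zero, List.getD_cons_succ, Prod.mk.injEq] at h0 h1
    have key3 : ∀ r s u, r ∈ [18, 13, 12, 5, 10, 11, 14, 9] → s ∈ [18, 13, 12, 5, 10, 11, 14, 9] →
        u ∈ [18, 13, 12, 5, 10, 11, 14, 9] → ∀ t : K,
        X.S.ok.wG [(r, t), (s, t ^ X.q), (u, t ^ (X.q ^ 2))] = X.y [r, s, u] t ∧ t ∈ X.Allowed [r, s, u] :=
      fun r s u hr hs hu t => by
      constructor
      · simp [Tw.y, Tw.orbW, heps r hr, heps s hs, X.hfq, ← pow_mul, ← sq]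
      · show X.nxt [r, s, u] t = t
        simp only [Tw.nxt, heps r hr, heps s hs, heps u hu, one_mul, X.hfq]
        exact hq3 t
    have key1 : ∀ r, r ∈ [18, 13, 12, 5, 10, 11, 14, 9] → ∀ t : K, t ^ X.q = t →
        X.S.ok.wG [(r, t)] = X.y [r] t ∧ t ∈ X.Allowed [r] := fun r hr t ht => by
      constructor
      · simp [Tw.y, Tw.orbW]
      · show X.nxt [r] t = t
        simp only [Tw.nxt, heps r hr, one_mul, X.hfq]
        exact ht
    rintro g ⟨w, (⟨t, ht, r, hr, rfl⟩ | ⟨t, rs, hrs, rfl⟩), rfl⟩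
    · simp only [d4p2, d4m2, List.mem_cons, List.not_mem_nil, or_false] at hr
      rcases hr with rfl | rfl
      · obtain ⟨e1, e2⟩ := key1 14 (by simp) t ht
        rw [SetLike.mem_coe, e1]
        exact X.y_mem_G1 (a := 1) (by decide +kernel) (Or.inl h1.1.symm) e2
      · obtain ⟨e1, e2⟩ := key1 9 (by simp) t ht
        rw [SetLike.mem_coe, e1]
        exact X.y_mem_G1 (a := 1) (by decide +kernel) (Or.inr h1.2.symm) e2
    · simp only [d4p1, d4p3, d4p4, d4m1, d4m3, d4m4, List.mem_cons, List.not_mem_nil, or_false] at hrs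
      rcases hrs with rfl | rfl
      · obtain ⟨e1, e2⟩ := key3 18 13 12 (by simp) (by simp) (by simp) t
        rw [SetLike.mem_coe, e1]
        exact X.y_mem_G1 (a := 0) (by decide +kernel) (Or.inl h0.1.symm) e2
      · obtain ⟨e1, e2⟩ := key3 5 10 11 (by simp) (by simp) (by simp) t
        rw [SetLike.mem_coe, e1]
        exact X.y_mem_G1 (a := 0) (by decide +kernel) (Or.inr h0.2.symm) e2

theorem card_ker (X : Tw chevD4 chevG2 D4.cert G2.cert D4.tw D4.htTab K) :
    Nat.card {c : Fin chevD4.rank → Kˣ // c ∈ X.CT ∧ Ok.tG chevD4 K c = 1} = 1 := by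
  refine Nat.card_eq_one_iff_exists.2 ⟨⟨1, one_mem _, map_one _⟩, ?_⟩
  rintro ⟨c, hc, hk⟩
  let c' : Fin 4 → Kˣ := c
  obtain ⟨h1, h2⟩ := torus_ker_spec D4.torus ((X.S.tG_eq_one_iff c).1 hk)
  have a0 : c' 0 ^ 2 = 1 := h1 0
  have hfix : ∀ z : Kˣ, z ^ 2 = 1 → X.f (z : K) = (z : K) := fun z hz => by
    have : (z : K) ^ 2 = 1 := by rw [← Units.val_pow_eq_pow_val, hz, Units.val_one]
    rcases sq_eq_one_iff.1 this with e | e <;> simp [e]
  have a2 : c' 0 = c' 2 := by
    have := hc (0 : Fin 4)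
    rw [hfix _ a0] at this
    exact Units.ext this
  have a23 : c' 2 = c' 3 := by
    have := hc (2 : Fin 4)
    have h22 : c' 2 ^ 2 = 1 := h1 1
    rw [hfix _ h22] at this
    exact Units.ext this
  have a3 : c' 3 = c' 0 * c' 2 := by
    show c' 3 = _
    have := h2 3
    simpa [Fin.prod_univ_two] using this
  have a1 : c' 1 = 1 := by
    have := h2 1
    simpa [Fin.prod_univ_two] using this
  have e0 : c' 0 = 1 := by
    rw [← a23, ← a2] at a3
    exact mul_left_cancel (a := c' 0) (a3.symm.trans (mul_one _).symm)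
  refine Subtype.ext (funext fun i => ?_)
  show c' i = 1
  fin_cases i
  · exact e0
  · exact a1
  · exact a2.symm.trans e0
  · exact a23.symm.trans (a2.symm.trans e0)

theorem twOrder (hq : IsPrimePow q) (hK : Fintype.card K = q ^ 3) :
    Nat.card ↥(twistedD4 K q) = q ^ 12 * (q ^ 2 - 1) * (q ^ 6 - 1) * (q ^ 8 + q ^ 4 + 1) := by
  obtain ⟨X, rfl⟩ := exists_tw hq hK
  have hM := relOK X
  rw [← G1_eq X, X.card_G1 hM, X.card_B1 hM, X.sum_W1 hM tw_sgn]
  have hT := X.card_T1 (card_ker X)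
  rw [show (D4.tw.lv.map fun L => (L.map List.length).sum).sum = 12 by decide +kernel]
  have hprod : ∏ a : Fin D4.tw.nO, (X.q ^ (D4.tw.orbAt a).length - 1) = (X.q ^ 3 - 1) * (X.q - 1) := by
    show ∏ a : Fin 2, (X.q ^ (D4.tw.orbAt a).length - 1) = _
    rw [Fin.prod_univ_two]
    simp [TwDat.orbAt, D4.tw]
  rw [hprod, one_mul] at hT
  have hP := G2.struct.PsumW_eval (D4.tw.wt chevD4.nroots)
    (fun i hi r hr => X.wt_w i (by rw [X.rank_target]; exact hi) hr) G2.poincare X.q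
  have h4 := congrArg (fun L => peval L (X.q : ℤ))
    (listBeq_eq (eq := fun a b : ℤ => decide (a = b)) (fun a b hab => of_decide_eq_true hab) tw_poly)
  simp only [peval_pmul, peval_padd, peval_pmono] at h4
  rw [← hP] at h4
  simp only [peval] at h4
  have h1 : 1 ≤ X.q := by have := X.hq; omega
  have hp : ∀ d, 1 ≤ X.q ^ d := fun d => Nat.one_le_pow _ _ h1
  set P := X.S'.PsumW (D4.tw.wt chevD4.nroots) chevG2.rank X.q
  rw [hT]
  apply Nat.cast_injective (R := ℤ)
  push_cast [Nat.cast_sub (hp 2), Nat.cast_sub (hp 3), Nat.cast_sub (hp 6), Nat.cast_sub h1]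
  linear_combination ((X.q : ℤ) ^ 12) * h4

theorem twBN (hq : IsPrimePow q) (hK : Fintype.card K = q ^ 3) :
    ∃ P : Cfsg.BNPair ↥(twistedD4 K q),
      P.B = (chevD4.borelSubgroup K ⊓ twistedD4 K q).subgroupOf (twistedD4 K q) ∧
      P.N = (chevD4.monomialSubgroup K ⊓ twistedD4 K q).subgroupOf (twistedD4 K q) := by
  obtain ⟨X, rfl⟩ := exists_tw hq hK
  rw [← G1_eq X, X.borel_inf_G1 (relOK X), X.mono_inf_G1 (relOK X)]
  obtain ⟨P, h1, h2, -⟩ := X.exists_bnPair (relOK X)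
  exact ⟨P, h1, h2⟩

theorem twU (hq : IsPrimePow q) (hK : Fintype.card K = q ^ 3) :
    Nat.card ↥(chevD4.posUnipotent K ⊓ twistedD4 K q) = q ^ 12 := by
  obtain ⟨X, rfl⟩ := exists_tw hq hK
  rw [← G1_eq X, X.U_inf_G1, X.card_U_fix]
  congr 1

theorem twH (hq : IsPrimePow q) (hK : Fintype.card K = q ^ 3) :
    Nat.card ↥(chevD4.diagonalSubgroup K ⊓ twistedD4 K q) = (q - 1) ^ 2 * (q ^ 2 + q + 1) := by
  obtain ⟨X, rfl⟩ := exists_tw hq hK
  have hT := X.card_T1 (card_ker X)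
  rw [one_mul] at hT
  rw [← G1_eq X, X.diag_inf_G1 (relOK X), hT]
  show ∏ a : Fin 2, (X.q ^ (D4.tw.orbAt a).length - 1) = _
  rw [Fin.prod_univ_two]
  simp only [TwDat.orbAt, D4.tw, List.getD_cons_zero, List.getD_cons_succ, List.length_cons, List.length_nil,
    Fin.val_zero, Fin.val_one, zero_add, pow_one]
  obtain ⟨k, hk⟩ : ∃ k, X.q = k + 1 := ⟨X.q - 1, by have := X.hq; omega⟩
  rw [hk, Nat.add_sub_cancel, show (k + 1) ^ (1 + 1 + 1) = k * (k ^ 2 + 3 * k + 3) + 1 by ring, Nat.add_sub_cancel]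
  ring

theorem twWeyl (hq : IsPrimePow q) (hK : Fintype.card K = q ^ 3) :
    ∃ φ : ↥(chevD4.monomialSubgroup K ⊓ twistedD4 K q) →* (CoxeterMatrix.G₂).Group, Function.Surjective φ ∧
      φ.ker = (chevD4.diagonalSubgroup K ⊓ twistedD4 K q).subgroupOf
        (chevD4.monomialSubgroup K ⊓ twistedD4 K q) := by
  obtain ⟨X, rfl⟩ := exists_tw hq hK
  rw [← G1_eq X, X.mono_inf_G1 (relOK X), X.diag_inf_G1 (relOK X)]
  obtain ⟨φ, h1, h2, -⟩ := X.weyl (relOK X)
  exact ⟨φ, h1, h2⟩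

theorem twPerfect (hq : IsPrimePow q) (hK : Fintype.card K = q ^ 3) : commutator ↥(twistedD4 K q) = ⊤ := by
  obtain ⟨X, rfl⟩ := exists_tw hq hK
  rw [← G1_eq X]
  exact X.perfect tw_wit

theorem twCore (hq : IsPrimePow q) (hK : Fintype.card K = q ^ 3) :
    ((chevD4.borelSubgroup K ⊓ twistedD4 K q).subgroupOf (twistedD4 K q)).normalCore = ⊥ := by
  obtain ⟨X, rfl⟩ := exists_tw hq hK
  rw [← G1_eq X, X.borel_inf_G1 (relOK X)]
  exact X.normalCore_B1 (relOK X) tw_opp

theorem twSimple (hq : IsPrimePow q) (hK : Fintype.card K = q ^ 3) :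
    IsSimpleGroup ↥(twistedD4 K q) ∧ ¬ IsMulCommutative ↥(twistedD4 K q) := by
  obtain ⟨X, rfl⟩ := exists_tw hq hK
  rw [← G1_eq X]
  exact X.simple1 (relOK X) G2.irr tw_wit tw_opp (by decide +kernel)

end D4

end Cfsg.Lib.Chev
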