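import Cfsg.Agent.Chev.Tw.AutStd
import Cfsg.Agent.Chev.FixedPoints

/-! Fundamental root elements, characters of the torus, and field automorphisms of a twisted group. -/

set_option autoImplicit false
set_option linter.unusedSectionVars false

open Cfsg.Lie

namespace Cfsg.Lib.Chev

variable {D D' : ChevalleyDatum} {C C' : Cert} {W : TwDat} {T : List (List ℤ)} {F : Type*} [Field F]

namespace Tw

variable (X : Tw D D' C C' W T F)

theorem allowed_zero (c : List ℕ) : (0 : F) ∈ X.Allowed c := by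
  show X.nxt c 0 = 0
  rw [X.nxt_eq, iterate_map_zero, mul_zero]

theorem allowed_add {c : List ℕ} {s t : F} (hs : s ∈ X.Allowed c) (ht : t ∈ X.Allowed c) :
    s + t ∈ X.Allowed c := by
  show X.nxt c (s + t) = s + t
  rw [X.nxt_add, show X.nxt c s = s from hs, show X.nxt c t = t from ht]

theorem allowed_iff {a : ℕ} (ha : a < W.nO) {c : List ℕ} (hc : c = X.orP a ∨ c = X.orN a) {t : F} :
    t ∈ X.Allowed c ↔ X.f^[(W.orbAt a).length] t = t := by
  show X.nxt c t = t ↔ _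
  have hlt := (X.orb_spec ha).1
  rw [X.nxt_eq, List.prod_eq_one, one_mul]
  · rcases hc with rfl | rfl <;> simp [orP, orN, kmap_eq]
  · intro z hz
    obtain ⟨r, hr, rfl⟩ := List.mem_map.1 hz
    rcases hc with rfl | rfl <;> simp only [orP, orN, kmap_eq, List.mem_map] at hr <;> obtain ⟨i, hi, rfl⟩ := hr
    · exact (X.pi_spec (hlt i hi)).2.2.1
    · exact (X.pi_spec (hlt i hi)).2.2.2.1

theorem allowed_one (a : Fin W.nO) : (1 : F) ∈ X.Allowed (X.orP a) :=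
  (X.allowed_iff a.isLt (Or.inl rfl)).2 (iterate_map_one _ _)

theorem allowed_inv {a : Fin W.nO} {t : F} (ht : t ∈ X.Allowed (X.orP a)) : t⁻¹ ∈ X.Allowed (X.orP a) := by
  rw [X.allowed_iff a.isLt (Or.inl rfl)] at ht ⊢
  have key : ∀ n, X.f^[n] t⁻¹ = (X.f^[n] t)⁻¹ := fun n => by
    induction n with
    | zero => rfl
    | succ n ih => rw [Function.iterate_succ_apply', Function.iterate_succ_apply', ih, map_inv₀]
  rw [key, ht]

open scoped Classical in
/-- The element of a fundamental root subgroup. -/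
noncomputable def ya (a : Fin W.nO) (t : F) : ↥X.G1 :=
  if h : t ∈ X.Allowed (X.orP a) then ⟨X.y (X.orP a) t, X.y_mem_G1 a.isLt (Or.inl rfl) h⟩ else 1

theorem ya_val {a : Fin W.nO} {t : F} (ht : t ∈ X.Allowed (X.orP a)) : (X.ya a t).1 = X.y (X.orP a) t := by
  rw [ya, dif_pos ht]

theorem ya_mem (a : Fin W.nO) (t : F) : X.ya a t ∈ X.Ua a := by
  by_cases ht : t ∈ X.Allowed (X.orP a)
  · show (X.ya a t).1 ∈ X.S.UPsi F _
    rw [X.ya_val ht]
    refine list_prod_mem fun g hg => ?_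
    obtain ⟨p, hp, rfl⟩ := List.mem_map.1 hg
    have hp1 := X.mem_orbW hp
    obtain ⟨hl, hh⟩ := (X.lev_spec (X.orP_mem_lev a.isLt)).1 _ hp1
    have hpos : D.nroots / 2 ≤ p.1 := (X.S.hgt_pos_iff X.hT hl).1 (by omega)
    exact Subgroup.subset_closure ⟨⟨p.1, hl⟩, p.2, hpos, (X.Neg_single a hpos).2 hp1, rfl⟩
  · rw [ya, dif_neg ht]; exact one_mem _

theorem ya_zero (a : Fin W.nO) : X.ya a 0 = 1 :=
  Subtype.ext (by rw [X.ya_val (X.allowed_zero _)]; exact X.y_zero)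

/-- The leading coefficient in a fundamental root subgroup. -/
noncomputable def co (a : Fin W.nO) (g : ↥X.G1) : F := X.cf g.1 ((X.orP a).headD 0)

theorem co_ya {a : Fin W.nO} {t : F} (ht : t ∈ X.Allowed (X.orP a)) : X.co a (X.ya a t) = t := by
  rw [co, X.ya_val ht]
  exact (X.cf_y (X.orP_mem_lev a.isLt) (X.orP_mem_lev a.isLt) t).1 rfl

theorem ya_inj {a : Fin W.nO} {s t : F} (hs : s ∈ X.Allowed (X.orP a)) (ht : t ∈ X.Allowed (X.orP a))
    (e : X.ya a s = X.ya a t) : s = t := by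
  rw [← X.co_ya hs, e, X.co_ya ht]

theorem Nw_single (a : Fin W.nO) : Struct.Nw D (X.S.wpL (X.flatW [a])) = (X.orP a).length := by
  classical
  obtain ⟨h1, h2, -⟩ := X.lev_spec (X.orP_mem_lev a.isLt)
  rw [Struct.Nw, ← Finset.card_image_of_injective _ Fin.val_injective, ← List.toFinset_card_of_nodup h2]
  congr 1
  ext n
  simp only [Finset.mem_image, Finset.mem_filter, Finset.mem_univ, true_and, List.mem_toFinset]
  constructor
  · rintro ⟨r, ⟨hr, hn⟩, rfl⟩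
    exact (X.Neg_single a hr).1 hn
  · intro hn
    obtain ⟨hl, hh⟩ := h1 n hn
    have hpos : D.nroots / 2 ≤ n := (X.S.hgt_pos_iff X.hT hl).1 (by omega)
    exact ⟨⟨n, hl⟩, ⟨hpos, (X.Neg_single a hpos).2 hn⟩, rfl⟩

theorem ya_cases {a : Fin W.nO} {g : ↥X.G1} (hg : g ∈ X.Ua a) :
    ∃ t ∈ X.Allowed (X.orP a), g = X.ya a t := by
  haveI := X.finite
  let f : X.Allowed (X.orP a) → ↥(X.Ua a) := fun t => ⟨X.ya a t.1, X.ya_mem a t.1⟩
  have hc : Nat.card ↥(X.Ua a) ≤ Nat.card (X.Allowed (X.orP a)) := by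
    rw [Ua, X.card_Ug, X.card_allowed (X.orP_mem_lev a.isLt), X.Nw_single]
  have hb := Function.Injective.bijective_of_nat_card_le (f := f)
    (fun s t e => Subtype.ext (X.ya_inj s.2 t.2 (congrArg Subtype.val e))) hc
  obtain ⟨t, ht⟩ := hb.2 ⟨g, hg⟩
  exact ⟨t.1, t.2, (congrArg Subtype.val ht).symm⟩

theorem ya_add {a : Fin W.nO} {s t : F} (hs : s ∈ X.Allowed (X.orP a)) (ht : t ∈ X.Allowed (X.orP a)) :
    X.ya a s * X.ya a t = X.ya a (s + t) := by
  obtain ⟨r, hr, e⟩ := X.ya_cases (mul_mem (X.ya_mem a s) (X.ya_mem a t))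
  rw [e]
  congr 1
  have hlev := X.orP_mem_lev a.isLt
  have h1 := congrArg (fun g : ↥X.G1 => g.1) e
  simp only [Subgroup.coe_mul, X.ya_val hs, X.ya_val ht, X.ya_val hr] at h1
  have h2 := X.cf_mul_lev hlev (X.y_mem_lev hlev hs).1 (X.y_mem_lev hlev ht).1
  rw [h1, (X.cf_y hlev hlev r).1 rfl, (X.cf_y hlev hlev s).1 rfl, (X.cf_y hlev hlev t).1 rfl] at h2
  exact h2

/-- The character of an orbit. -/
noncomputable def chr (a : Fin W.nO) (c : Fin D.rank → Fˣ) : Fˣ :=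
  ∏ j, c j ^ D.cartan j (C.sr (X.hd a.isLt).val)

theorem chr_compat {c : Fin D.rank → Fˣ} (hc : c ∈ X.CT) (i : Fin D.rank) :
    X.f ((∏ j, c j ^ D.cartan j (C.sr i.val) : Fˣ) : F) =
      ((∏ j, c j ^ D.cartan j (C.sr (X.piF i).val) : Fˣ) : F) := by
  simp only [Units.coe_prod, map_prod, Units.val_zpow_eq_zpow_val, map_zpow₀]
  refine Fintype.prod_bijective X.piF X.piF_bijective _ _ fun j => ?_
  have hp := (X.pi_spec j.isLt).2.2.2.2.2 (C.sr i.val) (X.S.ok.sr_lt i.isLt)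
  rw [(X.pi_spec i.isLt).2.1, X.S.ok.cart_eq j.isLt (X.S.ok.sr_lt i.isLt),
    X.S.ok.cart_eq (X.pi_spec j.isLt).1 (X.S.ok.sr_lt (X.pi_spec i.isLt).1)] at hp
  rw [hc j]
  exact congrArg (fun z : ℤ => ((c (X.piF j) : F)) ^ z) hp.symm

theorem exists_tG {t : ↥X.G1} (ht : t ∈ X.Ts) : ∃ c ∈ X.CT, t.1 = Ok.tG D F c := by
  obtain ⟨c, hc, e⟩ := (show t.1 ∈ X.T1 from ht)
  exact ⟨c, hc, e.symm⟩

theorem tG_ya {t : ↥X.G1} {c : Fin D.rank → Fˣ} (hc : c ∈ X.CT) (e : t.1 = Ok.tG D F c) {a : Fin W.nO} {s : F}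
    (hs : s ∈ X.Allowed (X.orP a)) :
    (X.chr a c : F) * s ∈ X.Allowed (X.orP a) ∧ t * X.ya a s * t⁻¹ = X.ya a ((X.chr a c : F) * s) := by
  obtain ⟨v, hv, -, hvs⟩ := X.exists_compat a.isLt hs
  have hv' : X.Compat fun i => ((∏ j, c j ^ D.cartan j (C.sr i.val) : Fˣ) : F) * v i := fun i => by
    rw [map_mul, X.chr_compat hc, hv]
  obtain ⟨h1, -⟩ := X.orb_y_eq a.isLt hv
  obtain ⟨h2, -⟩ := X.orb_y_eq a.isLt hv'
  rw [hvs] at h1
  simp only [hvs] at h2
  refine ⟨h2.2, Subtype.ext ?_⟩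
  rw [Subgroup.coe_mul, Subgroup.coe_mul, Subgroup.coe_inv, e, X.ya_val hs, h1.1, X.tG_conj_gP, ← h2.1]
  exact (X.ya_val h2.2).symm

/-- The value of a character on the torus, read off the action. -/
noncomputable def chi (a : Fin W.nO) (t : ↥X.G1) : F := X.co a (t * X.ya a 1 * t⁻¹)

variable {a : Fin W.nO}

theorem chi_eq {t : ↥X.G1} {c : Fin D.rank → Fˣ} (hc : c ∈ X.CT)
    (e : t.1 = Ok.tG D F c) : X.chi a t = X.chr a c := by
  obtain ⟨h2, h3⟩ := X.tG_ya hc e (X.allowed_one a)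
  rw [chi, h3, X.co_ya h2, mul_one]

theorem chi_ne_zero {t : ↥X.G1} (ht : t ∈ X.Ts) : X.chi a t ≠ 0 := by
  obtain ⟨c, hc, e⟩ := X.exists_tG ht
  rw [X.chi_eq hc e]
  exact Units.ne_zero _

theorem conj_ya {t : ↥X.G1} (ht : t ∈ X.Ts) {s : F}
    (hs : s ∈ X.Allowed (X.orP a)) :
    X.chi a t * s ∈ X.Allowed (X.orP a) ∧ t * X.ya a s * t⁻¹ = X.ya a (X.chi a t * s) := by
  obtain ⟨c, hc, e⟩ := X.exists_tG ht
  rw [X.chi_eq hc e]
  exact X.tG_ya hc e hs

theorem chi_mem {t : ↥X.G1} (ht : t ∈ X.Ts) :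
    X.chi a t ∈ X.Allowed (X.orP a) := by
  have := (X.conj_ya ht (X.allowed_one a)).1
  rwa [mul_one] at this

theorem chi_mul {t t' : ↥X.G1} (ht : t ∈ X.Ts) (ht' : t' ∈ X.Ts) :
    X.chi a (t * t') = X.chi a t * X.chi a t' := by
  rw [chi, show t * t' * X.ya a 1 * (t * t')⁻¹ = t * (t' * X.ya a 1 * t'⁻¹) * t⁻¹ by group,
    (X.conj_ya ht' (X.allowed_one a)).2, mul_one, (X.conj_ya ht (X.chi_mem ht')).2,
    X.co_ya (X.conj_ya ht (X.chi_mem ht')).1]

theorem chi_one : X.chi a 1 = 1 := by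
  rw [chi, one_mul, inv_one, mul_one, X.co_ya (X.allowed_one a)]

theorem Ts_comm {t t' : ↥X.G1} (ht : t ∈ X.Ts) (ht' : t' ∈ X.Ts) : t * t' = t' * t := by
  obtain ⟨c, -, e⟩ := X.exists_tG ht
  obtain ⟨c', -, e'⟩ := X.exists_tG ht'
  exact Subtype.ext (by rw [Subgroup.coe_mul, Subgroup.coe_mul, e, e', ← map_mul, ← map_mul, mul_comm])

/-- The torus is separated by the characters. -/
theorem chi_inj {t t' : ↥X.G1} (ht : t ∈ X.Ts)
    (ht' : t' ∈ X.Ts) (h : ∀ a, X.chi a t = X.chi a t') : t = t' := by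
  have key : ∀ z ∈ X.Ts, (∀ a, X.chi a z = 1) → z = 1 := by
    intro z hz hza
    obtain ⟨c, hc, e⟩ := X.exists_tG hz
    refine Subtype.ext (e.trans ((X.S.tG_eq_one_iff c).2 fun j => ?_))
    rw [Finset.prod_congr rfl fun i _ => congrArg (c i ^ ·) (X.S.ok.cart_eq i.isLt (X.S.ok.sr_lt j.isLt))]
    obtain ⟨a, ha, hja⟩ := X.orb_flat.2 j j.isLt
    let Q : ℕ → Prop := fun n => ∀ hn : n < D.rank, ∏ i, c i ^ D.cartan i (C.sr n) = 1
    have hcyc := (X.orb_spec ha).2.2.1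
    have hkey := kcyc_iff_head (Q := Q) (W.orbAt a) _ hcyc fun n hn => by
      have hl := (X.orb_spec ha).1 n hn
      constructor
      · intro hq hl'
        refine Units.ext ((map_eq_one_iff X.f X.f.injective).1 ?_)
        rw [X.chr_compat hc ⟨n, hl⟩]
        exact congrArg Units.val (hq (X.piF ⟨n, hl⟩).isLt)
      · intro hq hl'
        refine Units.ext ?_
        have h2 := X.chr_compat hc ⟨n, hl⟩
        rw [hq hl, Units.val_one, map_one] at h2
        exact h2.symm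
    have hh : Q ((W.orbAt a).headD 0) := fun hn => by
      refine Units.ext ?_
      have := hza ⟨a, ha⟩
      rw [X.chi_eq hc e] at this
      exact this
    have h0 : Q j.val := by
      refine (hkey _ hja).2 ?_
      obtain ⟨x, L, ex⟩ := List.exists_cons_of_ne_nil (X.orbAt_ne_nil ha)
      rw [ex] at hh ⊢
      exact hh
    exact h0 j.isLt
  have h2 : t * t'⁻¹ = 1 := key _ (mul_mem ht (inv_mem ht')) fun a => by
    rw [X.chi_mul ht (inv_mem ht'), h a, ← X.chi_mul ht' (inv_mem ht'), mul_inv_cancel,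
      X.chi_one]
  exact mul_inv_eq_one.1 h2

theorem ns_conj_chr {a b : Fin W.nO} {t : ↥X.G1} {c : Fin D.rank → Fˣ} (e : t.1 = Ok.tG D F c) :
    (X.ns [a] * t * (X.ns [a])⁻¹).1 =
      Ok.tG D F (fun k => if k ∈ X.orbF a then c k * X.mI c k else c k) := by
  rw [Subgroup.coe_mul, Subgroup.coe_mul, Subgroup.coe_inv, ns_single, e, nJ,
    X.nL_conj_tG a.isLt _ (X.orbF_nodup a.isLt) fun i hi => hi]

/-- An automorphism fixing fundamental root subgroups and representatives is trivial. -/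
theorem eq_one_of_fix {ρ : MulAut ↥X.G1} (hU : ∀ a : Fin W.nO, ∀ u ∈ X.Ua a, ρ u = u)
    (hn : ∀ a : Fin W.nO, ρ (X.ns [a]) = X.ns [a]) : ρ = 1 := by
  let H : Subgroup (GL D.Idx F) := (MonoidHom.eqLocus ρ.toMonoidHom (MonoidHom.id ↥X.G1)).map X.G1.subtype
  have hmem : ∀ g : ↥X.G1, ρ g = g → g.1 ∈ H := fun g hg => ⟨g, hg, rfl⟩
  have hle : X.G1 ≤ H := by
    refine (Subgroup.closure_le _).2 ?_
    rintro g ⟨a, ha, c, hc, t, ht, rfl⟩
    rcases hc with rfl | rfl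
    · have := hmem _ (hU ⟨a, ha⟩ _ (X.ya_mem ⟨a, ha⟩ t))
      rwa [X.ya_val (a := ⟨a, ha⟩) ht] at this
    · obtain ⟨v, hv, -, hvt⟩ := X.exists_compat ha (t := t)
        ((X.allowed_iff ha (Or.inl rfl)).2 ((X.allowed_iff ha (Or.inr rfl)).1 ht))
      obtain ⟨-, h2⟩ := X.orb_y_eq ha hv
      rw [hvt] at h2
      obtain ⟨h3, -⟩ := X.orb_y_eq ha (X.compat_neg hv)
      have h4 := hmem (X.ns [⟨a, ha⟩] * X.ya ⟨a, ha⟩ (-v (X.hd ha)) * (X.ns [⟨a, ha⟩])⁻¹) (by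
        rw [map_mul, map_mul, map_inv, hn, hU _ _ (X.ya_mem _ _)])
      rw [Subgroup.coe_mul, Subgroup.coe_mul, Subgroup.coe_inv, ns_single, X.ya_val (a := ⟨a, ha⟩) h3.2, h3.1,
        X.nJ_conj_gP ha] at h4
      simp only [neg_neg] at h4
      rwa [h2.1]
  refine MulEquiv.ext fun g => ?_
  obtain ⟨g', hg', e⟩ := hle g.2
  obtain rfl : g' = g := Subtype.ext e
  exact hg'

/-! ### Field automorphisms -/

theorem sigma_f (σ : F ≃+* F) (t : F) : σ (X.f t) = X.f (σ t) := by rw [X.hfq, X.hfq, map_pow]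

theorem sigma_orbW (σ : F ≃+* F) : ∀ (c : List ℕ) (t : F),
    X.orbW c (σ t) = (X.orbW c t).map fun p => (p.1, σ p.2)
  | [], _ => rfl
  | r :: c, t => by
    rw [orbW, orbW, List.map_cons, ← sigma_orbW σ c, map_mul, X.sigma_f, eps, map_intCast]

theorem sigma_nxt (σ : F ≃+* F) : ∀ (c : List ℕ) (t : F), X.nxt c (σ t) = σ (X.nxt c t)
  | [], _ => rfl
  | r :: c, t => by
    rw [nxt, nxt, ← sigma_nxt σ c, map_mul, X.sigma_f, eps, map_intCast]

theorem sigma_allowed (σ : F ≃+* F) {c : List ℕ} {t : F} (ht : t ∈ X.Allowed c) : σ t ∈ X.Allowed c := by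
  show X.nxt c (σ t) = σ t
  rw [X.sigma_nxt, show X.nxt c t = t from ht]

theorem phiG_y (σ : F ≃+* F) (c : List ℕ) (t : F) : phiG (σ : F →+* F) D (X.y c t) = X.y c (σ t) := by
  rw [y, y, X.sigma_orbW, Ok.wG, Ok.wG, map_list_prod, List.map_map, List.map_map]
  exact congrArg List.prod (List.map_congr_left fun p _ => phiG_xG _ X.S _ _)

theorem phiG_G1 (σ : F ≃+* F) {g : GL D.Idx F} (hg : g ∈ X.G1) : phiG (σ : F →+* F) D g ∈ X.G1 := by
  refine phiG_mem _ ?_ hg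
  rintro x ⟨a, ha, c, hc, t, ht, rfl⟩
  rw [X.phiG_y]
  exact X.y_mem_G1 ha hc (X.sigma_allowed σ ht)

/-- The field automorphisms. -/
noncomputable def fld : (F ≃+* F) →* MulAut ↥X.G1 where
  toFun σ :=
    { toFun := fun g => ⟨phiG (σ : F →+* F) D g.1, X.phiG_G1 σ g.2⟩
      invFun := fun g => ⟨phiG (σ.symm : F →+* F) D g.1, X.phiG_G1 σ.symm g.2⟩
      left_inv := fun g => Subtype.ext (Units.ext (Matrix.ext fun i j => σ.symm_apply_apply _))
      right_inv := fun g => Subtype.ext (Units.ext (Matrix.ext fun i j => σ.apply_symm_apply _))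
      map_mul' := fun g h => Subtype.ext (map_mul (phiG (σ : F →+* F) D) g.1 h.1) }
  map_one' := MulEquiv.ext fun g => Subtype.ext (Units.ext (Matrix.ext fun i j => rfl))
  map_mul' σ τ := MulEquiv.ext fun g => Subtype.ext (Units.ext (Matrix.ext fun i j => rfl))

theorem fld_val (σ : F ≃+* F) (g : ↥X.G1) : (X.fld σ g).1 = phiG (σ : F →+* F) D g.1 := rfl

theorem fld_ya (σ : F ≃+* F) {a : Fin W.nO} {t : F} (ht : t ∈ X.Allowed (X.orP a)) :
    X.fld σ (X.ya a t) = X.ya a (σ t) := by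
  refine Subtype.ext ?_
  rw [X.fld_val, X.ya_val ht, X.ya_val (X.sigma_allowed σ ht), X.phiG_y]

theorem fld_ns (σ : F ≃+* F) (K : List (Fin W.nO)) : X.fld σ (X.ns K) = X.ns K :=
  Subtype.ext (phiG_nL _ X.S _)

theorem fld_Us (σ : F ≃+* F) (g : ↥X.G1) : X.fld σ g ∈ X.Us ↔ g ∈ X.Us := by
  refine ⟨fun h => ?_, fun h => phiG_pos (σ : F →+* F) X.S h⟩
  have h2 : X.fld σ⁻¹ (X.fld σ g) ∈ X.Us := phiG_pos ((σ⁻¹ : F ≃+* F) : F →+* F) X.S h
  rwa [← MulAut.mul_apply, ← map_mul, inv_mul_cancel, map_one, MulAut.one_apply] at h2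

theorem fld_std (A : AutCtx X) (σ : F ≃+* F) : A.Std (X.fld σ) := by
  refine ⟨X.fld_Us σ, fun x => ?_⟩
  rw [A.mem_Vs, A.mem_Vs, ← X.fld_Us σ (A.n0⁻¹ * x * A.n0), map_mul, map_mul, map_inv, AutCtx.n0, X.fld_ns]

/-- A field automorphism that is inner is trivial. -/
theorem fld_inner (A : AutCtx X) {a : Fin W.nO} (hall : ∀ t : F, t ∈ X.Allowed (X.orP a)) {σ : F ≃+* F}
    {c : ↥X.G1} (h : X.fld σ = MulAut.conj c) : σ = 1 := by
  have hS := X.fld_std A σ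
  rw [h] at hS
  have hc : c ∈ X.Ts := A.mem_Ts_of_normalizes (fun u hu => (hS.unip u).2 hu) fun v hv => (hS.opp v).2 hv
  have hval : ∀ t, σ t = X.chi a c * t := fun t => by
    refine X.ya_inj (hall _) (hall _) ?_
    rw [← X.fld_ya σ (hall t), h, MulAut.conj_apply, (X.conj_ya hc (hall t)).2]
  have h1 := hval 1
  rw [map_one, mul_one] at h1
  exact RingEquiv.ext fun t => by rw [hval, ← h1, one_mul]; rfl

theorem Std.conj_mul (A : AutCtx X) {φ : MulAut ↥X.G1} (h : A.Std φ) {t : ↥X.G1} (ht : t ∈ X.Ts) :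
    A.Std (MulAut.conj t * φ) := by
  constructor
  · intro x
    rw [MulAut.mul_apply, MulAut.conj_apply, ← h.unip x]
    refine ⟨fun h' => ?_, fun h' => X.conj_Us (X.Ts_le_Bs ht) h'⟩
    have := X.conj_Us (inv_mem (X.Ts_le_Bs ht)) h'
    convert this using 1
    group
  · intro x
    rw [MulAut.mul_apply, MulAut.conj_apply, ← h.opp x]
    have key : ∀ t ∈ X.Ts, ∀ v ∈ A.Vs, t * v * t⁻¹ ∈ A.Vs := fun t ht v hv => A.mem_Vs.2 (by
      have := X.conj_Us (X.Ts_le_Bs (X.ns_conj_Ts A.K0 ht).2) (A.mem_Vs.1 hv)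
      convert this using 1
      simp only [AutCtx.n0]
      group)
    refine ⟨fun h' => ?_, key t ht _⟩
    have := key t⁻¹ (inv_mem ht) _ h'
    convert this using 1
    group

theorem Std.fld_mul (A : AutCtx X) {φ : MulAut ↥X.G1} (h : A.Std φ) (σ : F ≃+* F) : A.Std (X.fld σ * φ) :=
  ⟨fun x => ((X.fld_std A σ).unip _).trans (h.unip x), fun x => ((X.fld_std A σ).opp _).trans (h.opp x)⟩

end Tw

end Cfsg.Lib.Chev
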