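import Cfsg.Agent.Chev.Tw.Unip
import Cfsg.Agent.Chev.WeylGroup

/-! The monomial part of a twisted group and its Weyl group. -/

set_option autoImplicit false

open Cfsg.Lie

namespace Cfsg.Lib.Chev

theorem kcyc_map_eq {p : ℕ → ℕ} : ∀ (L : List ℕ) (h : ℕ), L ≠ [] → kcyc p h L = true →
    L.map p = L.tail ++ [h]
  | [], _, hne, _ => absurd rfl hne
  | [a], h, _, hc => by
    simp only [kcyc, List.headD, Bool.and_true] at hc
    simp [Nat.eq_of_beq_eq_true hc]
  | a :: b :: M, h, _, hc => by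
    have hc' : Nat.beq (p a) b = true ∧ kcyc p h (b :: M) = true := by
      simpa [kcyc, Bool.and_eq_true] using hc
    have ih := kcyc_map_eq (b :: M) h (List.cons_ne_nil _ _) hc'.2
    rw [List.map_cons, ih, Nat.eq_of_beq_eq_true hc'.1]
    rfl

theorem krep_eq (w : List ℕ) : ∀ m, TwDat.krep w m = (List.replicate m w).flatten
  | 0 => rfl
  | m + 1 => by
    show kapp w (TwDat.krep w m) = _
    rw [kapp_eq, krep_eq w m, List.replicate_succ, List.flatten_cons]

theorem prod_map_mul_of_commute {M : Type*} [Monoid M] {ι : Type*} (f g : ι → M) : ∀ L : List ι, L.Nodup →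
    (∀ i ∈ L, ∀ j ∈ L, i ≠ j → Commute (f i) (g j)) →
    (L.map fun i => f i * g i).prod = (L.map f).prod * (L.map g).prod
  | [], _, _ => by simp
  | a :: L, hn, hc => by
    rw [List.nodup_cons] at hn
    have ih := prod_map_mul_of_commute f g L hn.2
      fun i hi j hj => hc i (List.mem_cons_of_mem _ hi) j (List.mem_cons_of_mem _ hj)
    have hcm : Commute (L.map f).prod (g a) := Commute.list_prod_left _ _ fun x hx => by
      obtain ⟨i, hi, rfl⟩ := List.mem_map.1 hx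
      exact hc i (List.mem_cons_of_mem _ hi) a List.mem_cons_self fun e => hn.1 (e ▸ hi)
    simp only [List.map_cons, List.prod_cons, ih]
    rw [mul_assoc, ← mul_assoc (g a), ← hcm.eq, mul_assoc, mul_assoc]

variable {D D' : ChevalleyDatum} {C C' : Cert} {W : TwDat} {T : List (List ℤ)} {F : Type*} [Field F]

namespace Tw

variable (X : Tw D D' C C' W T F)
include X

/-- The roots attached to the fundamental roots of a list. -/
noncomputable def orbF (_X : Tw D D' C C' W T F) (a : ℕ) : List (Fin D.rank) :=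
  (W.orbAt a).filterMap fun i => if h : i < D.rank then some ⟨i, h⟩ else none

theorem orbF_val {a : ℕ} (ha : a < W.nO) : (X.orbF a).map Fin.val = W.orbAt a := by
  have h := (X.orb_spec ha).1
  rw [orbF, List.map_filterMap]
  conv_rhs => rw [← List.filterMap_some (l := W.orbAt a)]
  refine List.filterMap_congr fun i hi => ?_
  simp [h i hi]

theorem mem_orbF {a : ℕ} (ha : a < W.nO) {i : Fin D.rank} : i ∈ X.orbF a ↔ i.val ∈ W.orbAt a := by
  rw [← X.orbF_val ha]
  simp [Fin.val_inj]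

theorem orb_flat : ((W.orb).flatMap fun J => J).Nodup ∧ ∀ i < D.rank, ∃ a < W.nO, i ∈ W.orbAt a := by
  have h := X.parts.2.2.1
  simp only [TwDat.okOrb, Bool.and_eq_true] at h
  obtain ⟨⟨h1, h2⟩, -⟩ := h
  have e := kdist_nodup _ h1
  rw [kflat_eq] at e
  refine ⟨e, fun i hi => ?_⟩
  have := kall_krange h2 i hi
  rw [kmem_iff, kflat_eq, List.mem_flatMap] at this
  obtain ⟨J, hJ, hiJ⟩ := this
  obtain ⟨n, hn, rfl⟩ := List.getElem_of_mem hJ
  exact ⟨n, hn, by rw [TwDat.orbAt, List.getD_eq_getElem _ _ hn]; exact hiJ⟩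

theorem orbAt_nodup {a : ℕ} (ha : a < W.nO) : (W.orbAt a).Nodup := by
  refine (List.nodup_flatMap.1 X.orb_flat.1).1 _ ?_
  rw [TwDat.orbAt, List.getD_eq_getElem _ _ ha]
  exact List.getElem_mem ha

theorem orbF_nodup {a : ℕ} (ha : a < W.nO) : (X.orbF a).Nodup :=
  List.Nodup.of_map _ (by rw [X.orbF_val ha]; exact X.orbAt_nodup ha)

theorem orbAt_ne_nil {a : ℕ} (ha : a < W.nO) : W.orbAt a ≠ [] := by
  intro e
  have := (X.orb_spec ha).2.1
  have := X.hm
  rw [e] at *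
  simp at *
  omega

/-- The permutation of the fundamental roots. -/
noncomputable def piF (i : Fin D.rank) : Fin D.rank := ⟨W.piAt i, (X.pi_spec i.isLt).1⟩

theorem piF_bijective : Function.Bijective X.piF := by
  refine Finite.injective_iff_bijective.1 fun i j h => ?_
  by_contra hne
  refine X.S.simple_ne X.hN i j hne ?_
  refine X.rho_inj (X.S.ok.sr_lt i.isLt) (X.S.ok.sr_lt j.isLt) ?_
  rw [(X.pi_spec i.isLt).2.1, (X.pi_spec j.isLt).2.1, show W.piAt i = W.piAt j from congrArg Fin.val h]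

theorem pi_mem_iff {a : ℕ} (ha : a < W.nO) (i : Fin D.rank) :
    X.piF i ∈ X.orbF a ↔ i ∈ X.orbF a := by
  have hmap := kcyc_map_eq _ _ (X.orbAt_ne_nil ha) (X.orb_spec ha).2.2.1
  have hperm : ∀ n, n ∈ W.orbAt a ↔ n ∈ (W.orbAt a).map W.piAt := fun n => by
    rw [hmap]
    obtain ⟨x, L, e⟩ := List.exists_cons_of_ne_nil (X.orbAt_ne_nil ha)
    rw [e]
    simp [or_comm]
  rw [X.mem_orbF ha, X.mem_orbF ha, hperm]
  refine ⟨fun h => ?_, fun h => List.mem_map.2 ⟨i, h, rfl⟩⟩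
  obtain ⟨j, hj, e⟩ := List.mem_map.1 h
  have hj' := (X.orb_spec ha).1 j hj
  have : X.piF ⟨j, hj'⟩ = X.piF i := Fin.ext e
  rw [← X.piF_bijective.1 this]
  exact hj

/-- Parameters compatible with the twisting. -/
noncomputable def CT : Subgroup (Fin D.rank → Fˣ) where
  carrier := {c | ∀ i, X.f (c i : F) = (c (X.piF i) : F)}
  one_mem' := fun i => by simp
  mul_mem' := fun {a b} ha hb i => by simp [ha i, hb i]
  inv_mem' := fun {a} ha i => by simp [ha i, map_inv₀]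

theorem mem_CT {c : Fin D.rank → Fˣ} : c ∈ X.CT ↔ ∀ i, X.f (c i : F) = (c (X.piF i) : F) := Iff.rfl

theorem orbW_compat {g : ℕ → ℕ} {u : ℕ → F} : ∀ (L : List ℕ) (h : ℕ), kcyc W.piAt h L = true →
    (∀ i ∈ L, X.eps (g i) = 1 ∧ X.f (u i) = u (W.piAt i)) →
    X.orbW (kmap g L) (u (L.headD h)) = L.map (fun i => (g i, u i)) ∧
      (X.nxt (kmap g L) (u (L.headD h)) = if L = [] then u h else u h)
  | [], h, _, _ => by simp [kmap, orbW, nxt]
  | a :: M, h, hc, he => by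
    simp only [kcyc, Bool.and_eq_true] at hc
    obtain ⟨i1, i2⟩ := orbW_compat M h hc.2 fun i hi => he i (List.mem_cons_of_mem _ hi)
    obtain ⟨e1, e2⟩ := he a List.mem_cons_self
    rw [Nat.eq_of_beq_eq_true hc.1] at e2
    simp only [ite_self] at i2
    refine ⟨?_, ?_⟩
    · show (g a, u a) :: X.orbW (kmap g M) (X.eps (g a) * X.f (u a)) = _
      rw [e1, one_mul, e2, i1]
      rfl
    · show X.nxt (kmap g M) (X.eps (g a) * X.f (u a)) = _
      rw [e1, one_mul, e2, i2]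
      simp

/-- A product of the elements `n_r(t)` over an orbit. -/
noncomputable def zP (a : ℕ) (c : Fin D.rank → Fˣ) : GL D.Idx F :=
  ((X.orbF a).map fun i => X.S.ok.nG (D.simple i.val) (c i : F)).prod

theorem commute_nG {a : ℕ} (ha : a < W.nO) {i j : Fin D.rank} (hi : i ∈ X.orbF a) (hj : j ∈ X.orbF a)
    (hne : i ≠ j) (t : F) :
    Commute (X.S.ok.xG (D.simple i.val) t) (X.S.ok.nG (D.simple j.val) (1 : F)) ∧
    Commute (X.S.ok.xG (D.neg (D.simple i.val)) t) (X.S.ok.nG (D.simple j.val) (1 : F)) ∧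
    ∀ u : F, Commute (X.S.ok.xG (D.simple i.val) t) (X.S.ok.xG (D.simple j.val) u) ∧
      Commute (X.S.ok.xG (D.simple i.val) t) (X.S.ok.xG (D.neg (D.simple j.val)) u) ∧
      Commute (X.S.ok.xG (D.neg (D.simple i.val)) t) (X.S.ok.xG (D.simple j.val) u) ∧
      Commute (X.S.ok.xG (D.neg (D.simple i.val)) t) (X.S.ok.xG (D.neg (D.simple j.val)) u) := by
  obtain ⟨-, a2, a3, a4, a5⟩ :=
    (X.orb_spec ha).2.2.2.1 i ((X.mem_orbF ha).1 hi) j ((X.mem_orbF ha).1 hj) fun e => hne (Fin.ext e)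
  have hsi := X.S.ok.sr_lt i.isLt
  have hsj := X.S.ok.sr_lt j.isLt
  have hni := X.S.ok.neg_lt hsi
  have hnj := X.S.ok.neg_lt hsj
  have e1 := fun t u : F => X.S.commute_of_commOK hsi hsj a2 t u
  have e2 := fun t u : F => X.S.commute_of_commOK hsi hnj a3 t u
  have e3 := fun t u : F => X.S.commute_of_commOK hni hsj a4 t u
  have e4 := fun t u : F => X.S.commute_of_commOK hni hnj a5 t u
  rw [X.S.ok.neg_eq hsi, X.S.ok.sr_eq i.isLt] at e3 e4
  rw [X.S.ok.neg_eq hsj, X.S.ok.sr_eq j.isLt] at e2 e4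
  rw [X.S.ok.sr_eq i.isLt] at e1 e2
  rw [X.S.ok.sr_eq j.isLt] at e1 e3
  exact ⟨((e1 t 1).mul_right (e2 t _)).mul_right (e1 t 1), ((e3 t 1).mul_right (e4 t _)).mul_right (e3 t 1),
    fun u => ⟨e1 t u, e2 t u, e3 t u, e4 t u⟩⟩

theorem zP_mem_G1 {a : ℕ} (ha : a < W.nO) {c : Fin D.rank → Fˣ} (hc : c ∈ X.CT) : X.zP a c ∈ X.G1 := by
  let u : ℕ → F := fun i => if h : i < D.rank then (c ⟨i, h⟩ : F) else 1
  have hu : ∀ i : Fin D.rank, u i.val = (c i : F) := fun i => dif_pos i.isLt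
  let u' : ℕ → F := fun i => -(u i)⁻¹
  obtain ⟨hlt, -, hcyc, -⟩ := X.orb_spec ha
  have hne := X.orbAt_ne_nil ha
  have hfu : ∀ i ∈ W.orbAt a, X.f (u i) = u (W.piAt i) := fun i hi => by
    rw [hu ⟨i, hlt i hi⟩]
    exact (hc ⟨i, hlt i hi⟩).trans (hu (X.piF ⟨i, hlt i hi⟩)).symm
  obtain ⟨hh, T', e⟩ := List.exists_cons_of_ne_nil hne
  have hd : ∀ (x : ℕ), (W.orbAt a).headD x = hh := fun x => by rw [e]; rfl
  obtain ⟨p1, p2⟩ := X.orbW_compat (g := C.sr) (u := u) _ _ hcyc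
    fun i hi => ⟨(X.pi_spec (hlt i hi)).2.2.1, hfu i hi⟩
  obtain ⟨m1, m2⟩ := X.orbW_compat (g := fun i => C.neg (C.sr i)) (u := u') _ _ hcyc
    fun i hi => ⟨(X.pi_spec (hlt i hi)).2.2.2.1, by simp only [u', map_neg, map_inv₀, hfu i hi]⟩
  simp only [hd, hne, if_false] at p1 p2 m1 m2
  have hA : X.y (X.orP a) (u hh) ∈ X.G1 := X.y_mem_G1 ha (Or.inl rfl) p2
  have hB : X.y (X.orN a) (u' hh) ∈ X.G1 := X.y_mem_G1 ha (Or.inr rfl) m2
  rw [y, orP, p1, ← X.orbF_val ha] at hA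
  rw [y, orN, m1, ← X.orbF_val ha] at hB
  simp only [Ok.wG, List.map_map, Function.comp_def, u'] at hA hB
  have key : X.zP a c =
      ((X.orbF a).map fun i => X.S.ok.xG (C.sr i.val) (u i.val)).prod *
      ((X.orbF a).map fun i => X.S.ok.xG (C.neg (C.sr i.val)) (-(u i.val)⁻¹)).prod *
      ((X.orbF a).map fun i => X.S.ok.xG (C.sr i.val) (u i.val)).prod := by
    rw [← prod_map_mul_of_commute _ _ _ (X.orbF_nodup ha), ← prod_map_mul_of_commute _ _ _ (X.orbF_nodup ha)]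
    · refine congrArg List.prod (List.map_congr_left fun i _ => ?_)
      rw [hu, X.S.ok.neg_eq (X.S.ok.sr_lt i.isLt), X.S.ok.sr_eq i.isLt]
      rfl
    · intro i hi j hj hij
      have := (X.commute_nG ha hi hj hij (u i.val)).2.2 (u j.val)
      have h2 := (X.commute_nG ha hi hj hij (-(u i.val)⁻¹)).2.2 (u j.val)
      rw [X.S.ok.neg_eq (X.S.ok.sr_lt i.isLt), X.S.ok.sr_eq i.isLt, X.S.ok.sr_eq j.isLt]
      exact this.1.mul_left h2.2.2.1
    · intro i hi j hj hij
      have := (X.commute_nG ha hi hj hij (u i.val)).2.2 (-(u j.val)⁻¹)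
      rw [X.S.ok.neg_eq (X.S.ok.sr_lt j.isLt), X.S.ok.sr_eq i.isLt, X.S.ok.sr_eq j.isLt]
      exact this.2.1
  rw [key]
  exact mul_mem (mul_mem hA hB) hA

/-- The element representing an orbit. -/
noncomputable def nJ (a : ℕ) : GL D.Idx F := X.S.nL F (X.orbF a)

theorem nJ_mem_G1 {a : ℕ} (ha : a < W.nO) : X.nJ a ∈ X.G1 := by
  have := X.zP_mem_G1 ha (one_mem X.CT)
  simpa [zP, nJ, Struct.nL] using this

/-- The twisted torus. -/
noncomputable def T1 : Subgroup (GL D.Idx F) := X.CT.map (Ok.tG D F)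

theorem T1_le_diag : X.T1 ≤ D.diagonalSubgroup F := by
  rw [X.S.ok.diagonalSubgroup_eq]
  rintro g ⟨c, -, rfl⟩
  exact ⟨c, rfl⟩

theorem orb_tG_mem {a : ℕ} (ha : a < W.nO) {c : Fin D.rank → Fˣ} (hc : c ∈ X.CT) :
    ((X.orbF a).map fun i => Ok.tG D F (Pi.mulSingle i (c i))).prod ∈ X.G1 := by
  have key : X.zP a c = ((X.orbF a).map fun i => Ok.tG D F (Pi.mulSingle i (c i))).prod * X.nJ a := by
    rw [nJ, Struct.nL, ← prod_map_mul_of_commute _ _ _ (X.orbF_nodup ha)]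
    · refine congrArg List.prod (List.map_congr_left fun i _ => ?_)
      show X.S.ok.nG (D.simple i.val) (c i : F) = _
      rw [X.S.ok.nG_eq_hG_mul i.isLt (c i).ne_zero, X.S.ok.hG_simple_eq_tG]
    · intro i hi j hj hij
      rw [← X.S.ok.hG_simple_eq_tG]
      have hx := fun t => (X.commute_nG ha hi hj hij t).1
      have hy := fun t => (X.commute_nG ha hi hj hij t).2.1
      exact (((hx _).mul_left (hy _)).mul_left (hx _)).mul_left (((hx _).mul_left (hy _)).mul_left (hx _))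
  have h := mul_mem (X.zP_mem_G1 ha hc) (inv_mem (X.nJ_mem_G1 ha))
  rwa [key, mul_inv_cancel_right] at h

theorem T1_le_G1 : X.T1 ≤ X.G1 := by
  rintro g ⟨c, hc, rfl⟩
  classical
  let L : List (Fin D.rank) := (List.range W.nO).flatMap X.orbF
  have hL : L.map Fin.val = W.orb.flatMap fun J => J := by
    rw [List.map_flatMap]
    conv_rhs => rw [← List.ext_getElem (l₁ := (List.range W.nO).map W.orbAt) (l₂ := W.orb) (by simp [TwDat.nO])
      (fun i h1 h2 => by rw [List.getElem_map, List.getElem_range, TwDat.orbAt, List.getD_eq_getElem _ _ h2]), List.flatMap_map]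
    refine List.flatMap_congr fun a ha => ?_
    exact X.orbF_val (List.mem_range.1 ha)
  have hnd : L.Nodup := List.Nodup.of_map _ (by rw [hL]; exact X.orb_flat.1)
  have hall : L.toFinset = Finset.univ := Finset.eq_univ_iff_forall.2 fun i => by
    obtain ⟨a, ha, hia⟩ := X.orb_flat.2 i i.isLt
    exact List.mem_toFinset.2 (List.mem_flatMap.2 ⟨a, List.mem_range.2 ha, (X.mem_orbF ha).2 hia⟩)
  have e : c = (L.map fun i => Pi.mulSingle i (c i)).prod := by
    rw [← List.prod_toFinset _ hnd, hall, Finset.univ_prod_mulSingle]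
  rw [e, map_list_prod, List.map_map, List.map_flatMap, List.flatMap_def, List.prod_flatten, List.map_map]
  refine list_prod_mem fun g hg => ?_
  obtain ⟨a, ha, rfl⟩ := List.mem_map.1 hg
  exact X.orb_tG_mem (List.mem_range.1 ha) hc

/-- The exponent correction of a reflection. -/
noncomputable def mI (_X : Tw D D' C C' W T F) (c : Fin D.rank → Fˣ) (i : Fin D.rank) : Fˣ :=
  ∏ j, c j ^ (-D.cartan j (D.simple i.val))

theorem nL_conj_tG {a : ℕ} (ha : a < W.nO) : ∀ (L : List (Fin D.rank)), L.Nodup →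
    (∀ i ∈ L, i ∈ X.orbF a) → ∀ c : Fin D.rank → Fˣ, X.S.nL F L * Ok.tG D F c * (X.S.nL F L)⁻¹ =
      Ok.tG D F (fun k => if k ∈ L then c k * X.mI c k else c k)
  | [], _, _, c => by simp [Struct.nL]
  | i :: L, hn, hL, c => by
    obtain ⟨hiL, hn⟩ := List.nodup_cons.1 hn
    have ih := nL_conj_tG ha L hn (fun k hk => hL k (List.mem_cons_of_mem _ hk)) c
    rw [show X.S.nL F (i :: L) = X.S.ok.nG (D.simple i.val) 1 * X.S.nL F L by simp [Struct.nL], mul_inv_rev,
      show X.S.ok.nG (D.simple i.val) 1 * X.S.nL F L * Ok.tG D F c *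
        ((X.S.nL F L)⁻¹ * (X.S.ok.nG (D.simple i.val) 1)⁻¹) = X.S.ok.nG (D.simple i.val) 1 *
          (X.S.nL F L * Ok.tG D F c * (X.S.nL F L)⁻¹) * (X.S.ok.nG (D.simple i.val) 1)⁻¹ by group,
      ih, X.S.ok.conj_nG_tG]
    congr 1
    have hm : (∏ j, (fun k => if k ∈ L then c k * X.mI c k else c k) j ^ (-D.cartan j (D.simple i.val))) =
        X.mI c i := by
      refine Finset.prod_congr rfl fun j _ => ?_
      by_cases hj : j ∈ L
      · have hne : j ≠ i := fun e => hiL (e ▸ hj)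
        have h0 := ((X.orb_spec ha).2.2.2.1 j ((X.mem_orbF ha).1 (hL j (List.mem_cons_of_mem _ hj))) i
          ((X.mem_orbF ha).1 (hL i List.mem_cons_self)) fun e => hne (Fin.ext e)).1
        rw [X.S.ok.cart_eq j.isLt (X.S.ok.sr_lt i.isLt), X.S.ok.sr_eq i.isLt] at h0
        simp [h0]
      · simp [hj]
    funext k
    rw [hm, Pi.mul_apply]
    by_cases hki : k = i
    · subst hki; simp [hiL]
    · simp [Pi.mulSingle_eq_of_ne hki, hki]

theorem nJ_conj_T1 {a : ℕ} (ha : a < W.nO) {g : GL D.Idx F} (hg : g ∈ X.T1) :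
    X.nJ a * g * (X.nJ a)⁻¹ ∈ X.T1 := by
  obtain ⟨c, hc, rfl⟩ := hg
  rw [nJ, X.nL_conj_tG ha _ (X.orbF_nodup ha) (fun i hi => hi)]
  refine ⟨_, fun k => ?_, rfl⟩
  have hm : X.f (X.mI c k : F) = (X.mI c (X.piF k) : F) := by
    simp only [mI, Units.coe_prod, map_prod, Units.val_zpow_eq_zpow_val, map_zpow₀]
    refine Fintype.prod_bijective X.piF X.piF_bijective _ _ fun j => ?_
    have hp := (X.pi_spec j.isLt).2.2.2.2.2 (C.sr k) (X.S.ok.sr_lt k.isLt)
    rw [(X.pi_spec k.isLt).2.1, X.S.ok.cart_eq j.isLt (X.S.ok.sr_lt k.isLt),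
      X.S.ok.cart_eq (X.pi_spec j.isLt).1 (X.S.ok.sr_lt (X.pi_spec k.isLt).1), X.S.ok.sr_eq k.isLt,
      X.S.ok.sr_eq (X.pi_spec k.isLt).1] at hp
    rw [hc j]
    exact congrArg (fun z : ℤ => ((c (X.piF j) : F)) ^ (-z)) hp.symm
  simp only [X.pi_mem_iff ha k]
  by_cases hk : k ∈ X.orbF a <;> simp [hk, hc k, hm]

theorem nJ_inv_conj_T1 {a : ℕ} (ha : a < W.nO) {g : GL D.Idx F} (hg : g ∈ X.T1) :
    (X.nJ a)⁻¹ * g * X.nJ a ∈ X.T1 := by
  haveI := X.finite
  haveI : Fintype F := Fintype.ofFinite F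
  classical
  have hN : X.nJ a ∈ Subgroup.normalizer (X.T1 : Set (GL D.Idx F)) := by
    exact Subgroup.mem_normalizer_fintype fun n hn => X.nJ_conj_T1 ha hn
  have := (Subgroup.mem_normalizer_iff.1 (inv_mem hN) g).1 hg
  simpa using this

/-- The twisted monomial group. -/
noncomputable def N1 : Subgroup (GL D.Idx F) :=
  Subgroup.closure {g | ∃ a < W.nO, g = X.nJ a} ⊔ X.T1

theorem nJ_mem_N1 {a : ℕ} (ha : a < W.nO) : X.nJ a ∈ X.N1 :=
  Subgroup.mem_sup_left (Subgroup.subset_closure ⟨a, ha, rfl⟩)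

theorem T1_le_N1 : X.T1 ≤ X.N1 := le_sup_right

theorem N1_le_G1 : X.N1 ≤ X.G1 :=
  sup_le ((Subgroup.closure_le _).2 (by rintro g ⟨a, ha, rfl⟩; exact X.nJ_mem_G1 ha)) X.T1_le_G1

theorem N1_le_mono : X.N1 ≤ D.monomialSubgroup F := by
  refine sup_le ((Subgroup.closure_le _).2 ?_) ?_
  · rintro g ⟨a, -, rfl⟩
    exact X.S.nL_mem_mono _
  · intro g hg
    rw [X.S.ok.monomialSubgroup_eq]
    exact Subgroup.mem_sup_left (X.T1_le_diag hg)

theorem N1_normalizes : X.N1 ≤ Subgroup.normalizer (X.T1 : Set (GL D.Idx F)) := by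
  refine sup_le ((Subgroup.closure_le _).2 ?_) Subgroup.le_normalizer
  rintro g ⟨a, ha, rfl⟩
  rw [SetLike.mem_coe, Subgroup.mem_normalizer_iff]
  refine fun x => ⟨X.nJ_conj_T1 ha, fun h => ?_⟩
  have := X.nJ_inv_conj_T1 ha h
  simpa [mul_assoc] using this

/-- The word of fundamental reflections of a word of orbits. -/
noncomputable def flatW (K : List (Fin W.nO)) : List (Fin D.rank) := K.flatMap fun a => X.orbF a.val

/-- The representative of a word of orbits. -/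
noncomputable def nW (K : List (Fin W.nO)) : GL D.Idx F := X.S.nL F (X.flatW K)

theorem nW_cons (a : Fin W.nO) (K : List (Fin W.nO)) : X.nW (a :: K) = X.nJ a.val * X.nW K := by
  simp [nW, nJ, flatW, Struct.nL]

theorem nW_eq_prod : ∀ K : List (Fin W.nO), X.nW K = (K.map fun a => X.nJ a.val).prod
  | [] => by simp [nW, flatW, Struct.nL]
  | a :: K => by rw [X.nW_cons, nW_eq_prod K]; simp

theorem nW_mem_N1 (K : List (Fin W.nO)) : X.nW K ∈ X.N1 := by
  rw [X.nW_eq_prod]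
  refine list_prod_mem fun g hg => ?_
  obtain ⟨a, -, rfl⟩ := List.mem_map.1 hg
  exact X.nJ_mem_N1 a.isLt

theorem flatW_val (K : List (Fin W.nO)) : (X.flatW K).map Fin.val = W.flat (K.map Fin.val) := by
  rw [TwDat.flat, kflat_eq, flatW, List.map_flatMap, List.flatMap_map]
  exact List.flatMap_congr fun a _ => X.orbF_val a.isLt

theorem diag_eq_one_of_centralizes {g : GL D.Idx F} (hg : g ∈ D.diagonalSubgroup F)
    (h : ∀ s < D.nroots, g * X.S.ok.xG s 1 * g⁻¹ = X.S.ok.xG s 1) : g = 1 := by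
  rw [X.S.ok.diagonalSubgroup_eq] at hg
  obtain ⟨d, rfl⟩ := hg
  apply Units.ext
  rw [Ok.tG_val, Units.val_one, ← Matrix.diagonal_one]
  congr 1
  funext x
  rcases x with i | s
  · rfl
  · have e := h s s.isLt
    rw [X.S.tG_conj_xG s.isLt, mul_one] at e
    have e2 : X.S.ok.xG s.val ((((∏ i, d i ^ D.cartan i s.val : Fˣ) : F)) - 1) = 1 := by
      rw [sub_eq_add_neg, ← X.S.ok.xG_mul, e, X.S.ok.xG_mul, add_neg_cancel, X.S.xG_zero]
    show ((∏ i, d i ^ D.cartan i s.val : Fˣ) : F) = 1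
    exact sub_eq_zero.1 (X.S.xG_eq_one s.isLt e2)

theorem rel_mem {a b : Fin W.nO} {m mask : ℕ} (hq : (a.val, b.val, m, mask) ∈ W.rels) :
    (X.nJ a * X.nJ b) ^ m ∈ X.T1 := by
  have h := (kall_iff _ _).1 X.parts.2.2.2.2.2.2.2 _ hq
  simp only [Bool.and_eq_true] at h
  obtain ⟨hmask, hs⟩ := h
  let K : List (Fin W.nO) := (List.replicate m [a, b]).flatten
  have hK : K.map Fin.val = TwDat.krep [a.val, b.val] m := by
    rw [krep_eq, List.map_flatten, List.map_replicate]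
    rfl
  have hL : (X.flatW K).map Fin.val = W.flat (TwDat.krep [a.val, b.val] m) := by rw [X.flatW_val, hK]
  have hpow : (X.nJ a * X.nJ b) ^ m = X.nW K := by
    rw [X.nW_eq_prod, List.map_flatten, List.prod_flatten, List.map_map, List.map_replicate,
      List.prod_replicate]
    simp
  have hspec : ∀ s < D.nroots, C.wL (W.flat (TwDat.krep [a.val, b.val] m)) s = s ∧
      C.sgnL (W.flat (TwDat.krep [a.val, b.val] m)) s = TwDat.chiSgn C D.rank mask s := fun s hsn => by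
    have := kall_krange hs s hsn
    simp only [Bool.and_eq_true, decide_eq_true_iff] at this
    exact ⟨Nat.eq_of_beq_eq_true this.1, this.2⟩
  have hperm : X.S.wpL (X.flatW K) = 1 := Equiv.ext fun s => Fin.ext (by
    rw [X.S.wpL_val, hL, (hspec s s.isLt).1]; rfl)
  have hdiag := X.S.nL_mem_diag (F := F) _ (X.flatW K) rfl hperm
  let cm : Fin D.rank → Fˣ := fun i => Bool.rec (1 : Fˣ) (-1) (Nat.testBit mask i.val)
  have hcm : cm ∈ X.CT := fun i => by
    have := kall_krange hmask i.val i.isLt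
    rw [beq_iff_eq] at this
    show X.f (cm i : F) = (cm (X.piF i) : F)
    simp only [cm, piF, this]
    cases Nat.testBit mask i.val <;> simp
  refine ⟨cm, hcm, (mul_inv_eq_one.1 (X.diag_eq_one_of_centralizes (mul_mem (hpow ▸ hdiag)
    (inv_mem ((X.S.ok.diagonalSubgroup_eq (F := F)).symm ▸ ⟨cm, rfl⟩))) fun s hsn => ?_)).symm⟩
  have hchi : ((∏ i, cm i ^ D.cartan i s : Fˣ) : F) = (TwDat.chiSgn C D.rank mask s : F) := by
    rw [TwDat.chiSgn, kprodI_eq, kmap_eq, krange_eq, ← List.range_eq_range', ← List.map_coe_finRange_eq_range,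
      List.map_map, ← List.prod_toFinset _ (List.nodup_finRange _), List.toFinset_finRange,
      Units.coe_prod, Int.cast_prod]
    refine Finset.prod_congr rfl fun i _ => ?_
    simp only [cm, Function.comp_apply, ← X.S.ok.cart_eq i.isLt hsn]
    cases Nat.testBit mask i.val
    · simp
    · generalize C.cart i.val s = z
      rcases Int.even_or_odd z with ⟨w, rfl⟩ | ⟨w, rfl⟩
      · have e : Nat.mod (w + w).natAbs 2 = 0 := by show (w + w).natAbs % 2 = 0; omega
        have e2 : ((-1 : Fˣ)) ^ (w + w) = 1 := by rw [zpow_add, ← mul_zpow]; simp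
        simp only [e, e2, Bool.true_and]
        show ((1 : Fˣ) : F) = ((1 : ℤ) : F)
        simp
      · have e : Nat.mod (2 * w + 1).natAbs 2 = 1 := by show (2 * w + 1).natAbs % 2 = 1; omega
        simp [e, zpow_add₀, zpow_mul]
  have hinv : (Ok.tG D F cm)⁻¹ = Ok.tG D F cm := by
    rw [← map_inv]
    congr 1
    funext i
    simp only [cm, Pi.inv_apply]
    cases Nat.testBit mask i.val <;> simp
  rw [hinv, hpow, mul_inv_rev, show X.nW K * Ok.tG D F cm * X.S.ok.xG s 1 * ((Ok.tG D F cm)⁻¹ * (X.nW K)⁻¹) =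
    X.nW K * (Ok.tG D F cm * X.S.ok.xG s 1 * (Ok.tG D F cm)⁻¹) * (X.nW K)⁻¹ by group,
    X.S.tG_conj_xG hsn, hchi, mul_one, nW, X.S.nL_conj _ hsn, hL, (hspec s hsn).1, (hspec s hsn).2,
    ← Int.cast_mul]
  have hsq : TwDat.chiSgn C D.rank mask s * TwDat.chiSgn C D.rank mask s = 1 := by
    rw [TwDat.chiSgn, kprodI_eq, kmap_eq, ← List.prod_map_mul]
    refine List.prod_eq_one fun z hz => ?_
    obtain ⟨i, -, rfl⟩ := List.mem_map.1 hz
    cases Nat.testBit mask i && Nat.beq (Nat.mod (C.cart i s).natAbs 2) 1 <;> rfl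
  rw [hsq, Int.cast_one]

theorem proj_spec : W.nO = C'.l ∧ (∀ r < D.nroots, W.prAt r < D'.nroots ∧
    ∀ a < W.nO, W.prAt (C.wL (W.orbAt a) r) = C'.w a (W.prAt r)) ∧
    ∀ s < D'.nroots, ∃ r < D.nroots, W.prAt r = s := by
  have h := X.parts.2.2.2.2.2.2.1
  simp only [TwDat.okProj, Bool.and_eq_true] at h
  obtain ⟨⟨h1, h2⟩, h3⟩ := h
  rw [X.S'.ok.n_eq] at h2 h3
  refine ⟨(Nat.eq_of_beq_eq_true h1).symm, fun r hr => ?_, fun s hs => ?_⟩
  · have := kall_krange h2 r hr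
    simp only [Bool.and_eq_true] at this
    exact ⟨Nat.le_of_ble_eq_true this.1, fun a ha => Nat.eq_of_beq_eq_true (kall_krange this.2 a ha)⟩
  · obtain ⟨r, hr, e⟩ := (kex_iff _ _).1 (kall_krange h3 s hs)
    rw [krange_eq, List.mem_range'_1] at hr
    exact ⟨r, by omega, Nat.eq_of_beq_eq_true e⟩

theorem rank_target : W.nO = D'.rank := X.proj_spec.1.trans X.S'.ok.l_eq

/-- The index of a target node. -/
noncomputable def toT (a : Fin W.nO) : Fin D'.rank := Fin.cast X.rank_target a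

theorem wpL_proj : ∀ (K : List (Fin W.nO)) (r : Fin D.nroots),
    W.prAt (X.S.wpL (X.flatW K) r).val = ((X.S'.wpL (K.map X.toT))
      ⟨W.prAt r.val, (X.proj_spec.2.1 r r.isLt).1⟩).val
  | [], r => by simp [flatW, Struct.wpL]
  | a :: K, r => by
    have ih := wpL_proj K r
    have hsplit : X.S.wpL (X.flatW (a :: K)) r = X.S.wpL (X.orbF a.val) (X.S.wpL (X.flatW K) r) := by
      simp [flatW, Struct.wpL]
    rw [hsplit, X.S.wpL_val, X.orbF_val a.isLt, (X.proj_spec.2.1 _ (X.S.wpL (X.flatW K) r).isLt).2 a a.isLt,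
      ih]
    simp only [Struct.wpL, List.map_cons, List.prod_cons, Equiv.Perm.mul_apply, Struct.wp_val]
    rfl

/-- The Coxeter matrix of the target matches the relators. -/
def RelOK (_X : Tw D D' C C' W T F) (M : CoxeterMatrix (Fin W.nO)) : Prop :=
  ∀ a b : Fin W.nO, C'.okCoxAt a b (M a b) = true ∧ ∃ mask, (a.val, b.val, M a b, mask) ∈ W.rels

/-- The quotient map to the Coxeter group and its properties. -/
theorem weyl {M : CoxeterMatrix (Fin W.nO)} (hM : X.RelOK M) :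
    ∃ φ : ↥X.N1 →* M.Group, Function.Surjective φ ∧ φ.ker = X.T1.subgroupOf X.N1 ∧
      (∀ a : Fin W.nO, φ ⟨X.nJ a, X.nJ_mem_N1 a.isLt⟩ = M.simple a) ∧
      ∀ K : List (Fin W.nO), X.S.wpL (X.flatW K) = 1 → X.nW K ∈ X.T1 := by
  classical
  haveI hnorm : (X.T1.subgroupOf X.N1).Normal :=
    Subgroup.normal_subgroupOf_iff_le_normalizer X.T1_le_N1 |>.2 X.N1_normalizes
  let Q := ↥X.N1 ⧸ X.T1.subgroupOf X.N1
  let gen : Fin W.nO → Q := fun a => QuotientGroup.mk ⟨X.nJ a, X.nJ_mem_N1 a.isLt⟩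
  have hrel : M.IsLiftable gen := fun a b => by
    obtain ⟨mask, hm⟩ := (hM a b).2
    refine (QuotientGroup.eq_one_iff ((⟨X.nJ a, X.nJ_mem_N1 a.isLt⟩ * ⟨X.nJ b, X.nJ_mem_N1 b.isLt⟩ :
      ↥X.N1) ^ M a b)).2 ?_
    simpa [Subgroup.mem_subgroupOf] using X.rel_mem hm
  let lf : M.Group →* Q := M.toCoxeterSystem.lift ⟨gen, hrel⟩
  have hgen : ∀ a, lf (M.simple a) = gen a := fun a => M.toCoxeterSystem.lift_apply_simple hrel a
  have hlfK : ∀ K : List (Fin W.nO), lf (K.map M.simple).prod = QuotientGroup.mk ⟨X.nW K, X.nW_mem_N1 K⟩ := by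
    intro K
    induction K with
    | nil => simp [nW, flatW, Struct.nL]; rfl
    | cons a K ih =>
      rw [List.map_cons, List.prod_cons, map_mul, hgen, ih, ← QuotientGroup.mk_mul]
      exact congrArg _ (Subtype.ext (X.nW_cons a K).symm)
  have hwords : ∀ g : M.Group, ∃ K : List (Fin W.nO), g = (K.map M.simple).prod := fun g =>
    ⟨(M.toCoxeterSystem.wordProd_surjective g).choose,
      (M.toCoxeterSystem.wordProd_surjective g).choose_spec.symm⟩
  obtain ⟨ψ, hψ, -, hψs⟩ := X.S'.exists_permHom X.hN' X.rank_target.symm M (fun a b => (hM a b).1)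
  have hψK : ∀ K : List (Fin W.nO), ψ (K.map M.simple).prod = X.S'.wpL (K.map X.toT) := by
    intro K
    induction K with
    | nil => simp [Struct.wpL]
    | cons a K ih =>
      rw [List.map_cons, List.prod_cons, map_mul, ih, show M.simple a = M.simple (Fin.cast X.rank_target.symm.symm.symm
        (X.toT a)) from rfl, hψs]
      simp [Struct.wpL]
  have hker : ∀ K : List (Fin W.nO), X.S.wpL (X.flatW K) = 1 → (K.map M.simple).prod = 1 := by
    intro K hK
    refine hψ ?_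
    rw [map_one, hψK]
    refine Equiv.ext fun s => Fin.ext ?_
    obtain ⟨r, hr, e⟩ := X.proj_spec.2.2 s s.isLt
    have h := X.wpL_proj K ⟨r, hr⟩
    rw [hK] at h
    simp only [Equiv.Perm.one_apply, e] at h
    exact h.symm
  have hT : ∀ K : List (Fin W.nO), X.S.wpL (X.flatW K) = 1 → X.nW K ∈ X.T1 := fun K hK => by
    have h := hlfK K
    rw [hker K hK, map_one] at h
    exact Subgroup.mem_subgroupOf.1 ((QuotientGroup.eq_one_iff _).1 h.symm)
  have hinj : Function.Injective lf := by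
    refine (injective_iff_map_eq_one lf).2 fun g hg => ?_
    obtain ⟨K, rfl⟩ := hwords g
    rw [hlfK, QuotientGroup.eq_one_iff, Subgroup.mem_subgroupOf] at hg
    refine hker K (X.S.act_unique (X.S.act_nL _) (X.S.act_diag (X.T1_le_diag hg)))
  have hsurj : Function.Surjective lf := by
    rintro ⟨⟨g, hg⟩⟩
    have : X.N1 ≤ (lf.range.comap (QuotientGroup.mk' (X.T1.subgroupOf X.N1))).map X.N1.subtype := by
      refine sup_le ((Subgroup.closure_le _).2 ?_) ?_
      · rintro x ⟨a, ha, rfl⟩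
        exact ⟨⟨_, X.nJ_mem_N1 ha⟩, ⟨M.simple ⟨a, ha⟩, hgen _⟩, rfl⟩
      · intro x hx
        exact ⟨⟨x, X.T1_le_N1 hx⟩, ⟨1, by rw [map_one]; exact ((QuotientGroup.eq_one_iff (N := X.T1.subgroupOf X.N1) ⟨x, X.T1_le_N1 hx⟩).2 hx).symm⟩, rfl⟩
    obtain ⟨⟨x, hx⟩, ⟨m, hm⟩, e⟩ := this hg
    exact ⟨m, hm.trans (congrArg QuotientGroup.mk (Subtype.ext e))⟩
  let e := MulEquiv.ofBijective lf ⟨hinj, hsurj⟩
  refine ⟨e.symm.toMonoidHom.comp (QuotientGroup.mk' _), e.symm.surjective.comp (QuotientGroup.mk'_surjective _),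
    ?_, fun a => ?_, hT⟩
  · ext g
    simp only [MonoidHom.mem_ker, MonoidHom.coe_comp, Function.comp_apply, MulEquiv.coe_toMonoidHom,
      EmbeddingLike.map_eq_one_iff]
    exact QuotientGroup.eq_one_iff g
  · show e.symm (gen a) = _
    rw [MulEquiv.symm_apply_eq]
    exact (hgen a).symm

theorem wpL_eq_of_target {M : CoxeterMatrix (Fin W.nO)} (hM : X.RelOK M) {K K' : List (Fin W.nO)}
    (h : X.S'.wpL (K.map X.toT) = X.S'.wpL (K'.map X.toT)) :
    X.S.wpL (X.flatW K) = X.S.wpL (X.flatW K') := by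
  obtain ⟨φ, -, hker, hgen, -⟩ := X.weyl hM
  obtain ⟨ψ, hψ, -, hψs⟩ := X.S'.exists_permHom X.hN' X.rank_target.symm M (fun a b => (hM a b).1)
  have hK : ∀ L : List (Fin W.nO), ψ (φ ⟨X.nW L, X.nW_mem_N1 L⟩) = X.S'.wpL (L.map X.toT) := by
    intro L
    induction L with
    | nil =>
      rw [show (⟨X.nW [], X.nW_mem_N1 []⟩ : ↥X.N1) = 1 from Subtype.ext (by simp [nW, flatW, Struct.nL]),
        map_one, map_one]
      simp [Struct.wpL]
    | cons a L ih =>
      rw [show (⟨X.nW (a :: L), X.nW_mem_N1 _⟩ : ↥X.N1) = ⟨X.nJ a, X.nJ_mem_N1 a.isLt⟩ * ⟨X.nW L, X.nW_mem_N1 L⟩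
        from Subtype.ext (X.nW_cons a L), map_mul, map_mul, ih, hgen]
      rw [show ψ (M.simple a) = X.S'.wp (X.toT a) from hψs (X.toT a)]
      simp [Struct.wpL]
  have e : φ ⟨X.nW K, X.nW_mem_N1 K⟩ = φ ⟨X.nW K', X.nW_mem_N1 K'⟩ := hψ (by rw [hK, hK, h])
  have hm : (⟨X.nW K, X.nW_mem_N1 K⟩ * ⟨X.nW K', X.nW_mem_N1 K'⟩⁻¹ : ↥X.N1) ∈ φ.ker := by
    rw [MonoidHom.mem_ker, map_mul, map_inv, e, mul_inv_cancel]
  rw [hker, Subgroup.mem_subgroupOf] at hm
  have h2 := X.S.act_mul (X.S.act_diag (X.T1_le_diag hm)) (X.S.act_nL (F := F) (X.flatW K'))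
  rw [one_mul] at h2
  have e2 : (⟨X.nW K, X.nW_mem_N1 K⟩ * ⟨X.nW K', X.nW_mem_N1 K'⟩⁻¹ : ↥X.N1).1 * X.S.nL F (X.flatW K') =
      X.nW K := inv_mul_cancel_right _ _
  rw [e2] at h2
  exact X.S.act_unique (X.S.act_nL _) h2

theorem y_eq_of_perm {k : ℕ} {c : List ℕ} (hc : c ∈ X.lev k) {w : List (ℕ × F)}
    (hp : (w.map Prod.fst).Perm c) (hfix : X.S.ok.wG w ∈ X.Fx) :
    ∃ s ∈ X.Allowed c, X.S.ok.wG w = X.y c s := by
  obtain ⟨h1, h2, h3, -, h5⟩ := X.lev_spec hc
  have hk : (1 : ℤ) ≤ (k : ℤ) + 1 := by omega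
  have hmem : ∀ p ∈ w, p.1 ∈ c := fun p hq => hp.subset (List.mem_map_of_mem hq)
  have hw : ∀ p ∈ w, p.1 < D.nroots ∧ (k : ℤ) + 1 ≤ hgt D T p.1 :=
    fun p hq => ⟨(h1 _ (hmem p hq)).1, (h1 _ (hmem p hq)).2.ge⟩
  have hU := X.wG_mem_Uh w hw
  obtain ⟨e1, e2⟩ := X.orbW_eq_cf hk hU hfix c (c.headD 0) h3 fun r hr => ⟨(h1 r hr).1, (h1 r hr).2.le⟩
  refine ⟨_, e2 (X.lev_ne_nil hc), ?_⟩
  rw [y, e1]
  have hw2 : w.map (fun p => (p.1, X.cf (X.S.ok.wG w) p.1)) = w := by
    conv_rhs => rw [← List.map_id w]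
    refine List.map_congr_left fun p hq => Prod.ext rfl ?_
    obtain ⟨hl, hh⟩ := h1 _ (hmem p hq)
    show X.cf (X.S.ok.wG w) p.1 = p.2
    rw [X.cf_of_lt _ hl]
    exact X.coef_wG_mem hk (hp.nodup_iff.2 h2) hw ⟨p.1, hl⟩ hh.le hq rfl
  have hperm : (w.map fun p => X.S.ok.xG p.1 p.2).Perm
      ((c.map fun r => (r, X.cf (X.S.ok.wG w) r)).map fun p => X.S.ok.xG p.1 p.2) := by
    have := (hp.map fun r => (r, X.cf (X.S.ok.wG w) r)).map fun p : ℕ × F => X.S.ok.xG p.1 p.2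
    rw [List.map_map (g := fun r => (r, X.cf (X.S.ok.wG w) r))] at this
    rw [show w.map ((fun r => (r, X.cf (X.S.ok.wG w) r)) ∘ Prod.fst) = w from hw2] at this
    exact this
  refine hperm.prod_eq' (List.pairwise_map.2 (List.Pairwise.imp_of_mem (fun {p q} hp' hq' (_ : True) => ?_)
    (List.pairwise_of_forall fun _ _ => trivial)))
  exact X.S.commute_of_commOK (h1 _ (hmem p hp')).1 (h1 _ (hmem q hq')).1 (h5 _ (hmem p hp') _ (hmem q hq')) _ _

theorem lev_zero : X.lev 0 = (List.range W.nO).map X.orP := by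
  have h := X.parts.2.2.2.2.1
  simp only [TwDat.okLv, Bool.and_eq_true] at h
  have e := listBeq_eq (fun _ _ => listBeq_eq fun _ _ => Nat.eq_of_beq_eq_true) h.1.1
  show W.lv.getD 0 [] = _
  rw [e, kmap_eq]
  refine List.ext_getElem (by simp [TwDat.nO]) fun i h1 h2 => ?_
  have : i < W.orb.length := by simpa using h1
  rw [List.getElem_map, List.getElem_map, List.getElem_range, orP, TwDat.orbAt, List.getD_eq_getElem _ _ this]

theorem cls_mem_G1 : ∀ k, ∀ c ∈ X.lev k, ∀ t ∈ X.Allowed c, X.y c t ∈ X.G1 := by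
  intro k
  induction k using Nat.strong_induction_on with
  | _ k ih =>
    intro c hc t ht
    rcases Nat.eq_zero_or_pos k with rfl | hk
    · rw [X.lev_zero, List.mem_map] at hc
      obtain ⟨a, ha, rfl⟩ := hc
      exact X.y_mem_G1 (List.mem_range.1 ha) (Or.inl rfl) ht
    have hklt : k < W.lv.length := by
      by_contra hk'
      rw [lev, List.getD_eq_default _ _ (not_lt.1 hk')] at hc
      exact List.not_mem_nil hc
    have hc0 : c ∈ W.lv.getD k [] := hc
    obtain ⟨p, hp, hpc⟩ := List.getElem_of_mem hc0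
    have hpar := X.parts.2.2.2.2.2.1
    have h1 := (kall_iff _ _).1 hpar k (by rw [krange_eq, List.mem_range'_1]; simp only [Nat.sub_eq]; omega)
    have h2 := kall_krange h1 p hp
    simp only [Bool.and_eq_true, kex_iff, krange_eq, List.mem_range'_1] at h2
    rw [List.getD_eq_getElem _ _ hp, hpc] at h2
    obtain ⟨ha, j, hj, c', hc', hlen, himg⟩ := h2
    set a := (W.par.getD k []).getD p 0 with hadef
    have ha' : a < W.nO := Nat.le_of_ble_eq_true ha
    have himg' : ∀ r ∈ c, C.wL (W.orbAt a) r ∈ c' := fun r hr => (kmem_iff _ _).1 ((kall_iff _ _).1 himg r hr)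
    obtain ⟨h1c, h2c, -, -, -⟩ := X.lev_spec hc
    obtain ⟨h1c', h2c', -, -, -⟩ := X.lev_spec (k := j) hc'
    have hlt : ∀ p ∈ X.orbW c t, p.1 < D.nroots := fun q hq => (h1c _ (X.mem_orbW hq)).1
    have e := X.S.nL_conj_wG (F := F) (X.orbF a) (X.orbW c t) hlt
    rw [X.orbF_val ha'] at e
    have hperm : (((X.orbW c t).map fun p => (C.wL (W.orbAt a) p.1,
        (C.sgnL (W.orbAt a) p.1 : F) * p.2)).map Prod.fst).Perm c' := by
      rw [List.map_map, show (Prod.fst ∘ fun p : ℕ × F => (C.wL (W.orbAt a) p.1,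
        (C.sgnL (W.orbAt a) p.1 : F) * p.2)) = C.wL (W.orbAt a) ∘ Prod.fst from rfl, ← List.map_map, X.orbW_fst]
      refine (List.subperm_of_subset ?_ ?_).perm_of_length_le ?_
      · refine h2c.map_on fun r hr s hs hrs => ?_
        have hi : ∀ x < D.nroots, C.wL (W.orbAt a) x < D.nroots ∧ ∃ hx,
            (X.S.wpL (X.orbF a) ⟨x, hx⟩).val = C.wL (W.orbAt a) x := fun x hx => by
          have := X.S.wpL_val (X.orbF a) ⟨x, hx⟩
          rw [X.orbF_val ha'] at this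
          exact ⟨this ▸ Fin.isLt _, hx, this⟩
        obtain ⟨-, hr', er⟩ := hi r (h1c r hr).1
        obtain ⟨-, hs', es⟩ := hi s (h1c s hs).1
        have := (X.S.wpL (X.orbF a)).injective (Fin.ext (er.trans (hrs.trans es.symm)))
        exact congrArg Fin.val this
      · intro x hx
        obtain ⟨r, hr, rfl⟩ := List.mem_map.1 hx
        exact himg' r hr
      · rw [List.length_map, Nat.eq_of_beq_eq_true hlen]
    have hfix : X.S.ok.wG ((X.orbW c t).map fun p => (C.wL (W.orbAt a) p.1,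
        (C.sgnL (W.orbAt a) p.1 : F) * p.2)) ∈ X.Fx := by
      rw [← e]
      have hn := X.G1_le_Fx (X.nJ_mem_G1 ha')
      exact mul_mem (mul_mem hn (X.y_mem_lev hc ht).2) (inv_mem hn)
    obtain ⟨s, hs, es⟩ := X.y_eq_of_perm (k := j) hc' hperm hfix
    have hin := ih j (by omega) c' hc' s hs
    rw [← es, ← e] at hin
    have hn := X.nJ_mem_G1 ha'
    have := mul_mem (mul_mem (inv_mem hn) hin) hn
    simpa [nJ, y, mul_assoc] using this

theorem U_inf_G1 : D.posUnipotent F ⊓ X.G1 = D.posUnipotent F ⊓ X.Fx :=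
  le_antisymm (inf_le_inf_left _ X.G1_le_Fx) (le_inf inf_le_left (X.U_fix_le X.cls_mem_G1))

end Tw

end Cfsg.Lib.Chev
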