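import Cfsg.Agent.Chev.Graph
import Cfsg.Agent.Chev.Parab

/-! Certified data of the twisted types: orbits, classes of positive roots, projection to the target Weyl group. -/

set_option autoImplicit false

open Cfsg.Lie

namespace Cfsg.Lib.Chev

/-- Boolean existence on a list. -/
noncomputable def kex {α : Type} (p : α → Bool) (L : List α) : Bool := !kall (fun x => !p x) L

theorem kex_iff {α : Type} (p : α → Bool) (L : List α) : kex p L = true ↔ ∃ x ∈ L, p x = true := by
  rw [kex, Bool.not_eq_true', ← Bool.not_eq_true, kall_iff]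
  simp

/-- Boolean membership. -/
noncomputable def kmem (a : ℕ) (L : List ℕ) : Bool := kex (fun x => Nat.beq x a) L

theorem kmem_iff (a : ℕ) (L : List ℕ) : kmem a L = true ↔ a ∈ L := by
  rw [kmem, kex_iff]
  exact ⟨fun ⟨x, hx, e⟩ => Nat.eq_of_beq_eq_true e ▸ hx, fun h => ⟨a, h, Nat.beq_refl a⟩⟩

/-- Boolean distinctness. -/
noncomputable def kdist (L : List ℕ) : Bool :=
  @List.rec ℕ (fun _ => Bool) true (fun a M ih => !kmem a M && ih) L

theorem kdist_nodup : ∀ L : List ℕ, kdist L = true → L.Nodup
  | [], _ => List.nodup_nil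
  | a :: M, h => by
    simp only [kdist, Bool.and_eq_true, Bool.not_eq_true', ← Bool.not_eq_true, kmem_iff] at h
    exact List.nodup_cons.2 ⟨h.1, kdist_nodup M h.2⟩

/-- `f` moves each entry to the next one, the last one to `h`. -/
noncomputable def kcyc (f : ℕ → ℕ) (h : ℕ) (L : List ℕ) : Bool :=
  @List.rec ℕ (fun _ => Bool) true (fun a M ih => Nat.beq (f a) (M.headD h) && ih) L

/-- Product of integers. -/
noncomputable def kprodI (L : List ℤ) : ℤ := @List.rec ℤ (fun _ => ℤ) 1 (fun a _ ih => a * ih) L

theorem kprodI_eq : ∀ L : List ℤ, kprodI L = L.prod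
  | [] => rfl
  | a :: L => by simp [kprodI, ← kprodI_eq L]

/-- Sum of integers. -/
noncomputable def ksumI (L : List ℤ) : ℤ := @List.rec ℤ (fun _ => ℤ) 0 (fun a _ ih => a + ih) L

theorem ksumI_eq : ∀ L : List ℤ, ksumI L = L.sum
  | [] => rfl
  | a :: L => by simp [ksumI, ← ksumI_eq L]

/-- Empty list test. -/
noncomputable def knil {α : Type} (L : List α) : Bool := @List.rec α (fun _ => Bool) true (fun _ _ _ => false) L

theorem knil_iff {α : Type} : ∀ L : List α, knil L = true ↔ L = []
  | [] => by simp [knil]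
  | a :: L => by simp [knil]

namespace Cert

/-- Image of a root under a word of fundamental reflections. -/
noncomputable def wL (C : Cert) (L : List ℕ) (s : ℕ) : ℕ :=
  @List.rec ℕ (fun _ => ℕ) s (fun a _ ih => C.w a ih) L

/-- Sign of a word of fundamental reflections at a root. -/
noncomputable def sgnL (C : Cert) (L : List ℕ) (s : ℕ) : ℤ :=
  @List.rec ℕ (fun _ => ℤ) 1 (fun a M ih => C.eta a (C.wL M s) * ih) L

@[simp] theorem wL_nil (C : Cert) (s : ℕ) : C.wL [] s = s := rfl
@[simp] theorem wL_cons (C : Cert) (a : ℕ) (M : List ℕ) (s : ℕ) : C.wL (a :: M) s = C.w a (C.wL M s) := rfl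
@[simp] theorem sgnL_nil (C : Cert) (s : ℕ) : C.sgnL [] s = 1 := rfl
@[simp] theorem sgnL_cons (C : Cert) (a : ℕ) (M : List ℕ) (s : ℕ) :
    C.sgnL (a :: M) s = C.eta a (C.wL M s) * C.sgnL M s := rfl

theorem wL_append (C : Cert) : ∀ (A B : List ℕ) (s : ℕ), C.wL (A ++ B) s = C.wL A (C.wL B s)
  | [], _, _ => rfl
  | a :: A, B, s => by rw [List.cons_append, wL_cons, wL_cons, wL_append C A B s]

end Cert

/-- Data of a twisted type. -/
structure TwDat where
  /-- the graph automorphism -/
  G : GTab
  /-- its order -/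
  m : ℕ
  /-- its action on the fundamental roots -/
  pi : List ℕ
  /-- the orbits on fundamental roots -/
  orb : List (List ℕ)
  /-- the classes of positive roots by height -/
  lv : List (List (List ℕ))
  /-- for each class, an orbit whose reflection lowers it -/
  par : List (List ℕ)
  /-- the projection onto the roots of the target -/
  proj : List ℕ
  /-- relators: pairs of orbits, exponent, mask of the sign vector -/
  rels : List (ℕ × ℕ × ℕ × ℕ)

namespace TwDat

variable (W : TwDat)

/-- The permutation of the fundamental roots. -/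
noncomputable def piAt (i : ℕ) : ℕ := W.pi.getD i 0

/-- An orbit. -/
noncomputable def orbAt (a : ℕ) : List ℕ := W.orb.getD a []

/-- The number of orbits. -/
noncomputable def nO : ℕ := W.orb.length

/-- A word of orbits as a word of fundamental reflections. -/
noncomputable def flat (K : List ℕ) : List ℕ := kflat W.orbAt K

/-- The roots `r`, `s` generate commuting root subgroups. -/
noncomputable def commOK (D : ChevalleyDatum) (r s : ℕ) : Bool :=
  Nat.beq r s || (!Nat.beq s (D.neg r) && knil (D.commTerms r s))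

/-- Checks on the permutation of the fundamental roots. -/
noncomputable def okPi (D : ChevalleyDatum) (C : Cert) : Bool :=
  kall (fun i => Nat.blt (W.piAt i) D.rank && Nat.beq (W.G.rho D.rank (C.sr i)) (C.sr (W.piAt i)) &&
    decide (W.G.eps D.rank (C.sr i) = 1) && decide (W.G.eps D.rank (C.neg (C.sr i)) = 1) &&
    Nat.beq (W.G.rho D.rank (C.neg (C.sr i))) (C.neg (C.sr (W.piAt i))) &&
    kall (fun s => decide (C.cart (W.piAt i) (W.G.rho D.rank s) = C.cart i s)) (krange 0 D.nroots))
    (krange 0 D.rank)

/-- Checks on the orbits. -/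
noncomputable def okOrb (D : ChevalleyDatum) (C : Cert) : Bool :=
  kdist (kflat (fun J => J) W.orb) &&
  kall (fun i => kmem i (kflat (fun J => J) W.orb)) (krange 0 D.rank) &&
  kall (fun J =>
    kall (fun i => Nat.blt i D.rank) J && (Nat.beq J.length 1 || Nat.beq J.length W.m) &&
    kcyc W.piAt (J.headD 0) J &&
    kall (fun i => kall (fun j => Nat.beq i j ||
      (decide (C.cart i (C.sr j) = 0) && commOK D (C.sr i) (C.sr j) && commOK D (C.sr i) (C.neg (C.sr j)) &&
       commOK D (C.neg (C.sr i)) (C.sr j) && commOK D (C.neg (C.sr i)) (C.neg (C.sr j)))) J) J &&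
    kall (fun i => Nat.beq (C.wL J (C.sr i)) (C.neg (C.sr i)) && decide (C.sgnL J (C.sr i) = -1) &&
      Nat.beq (C.wL J (C.neg (C.sr i))) (C.sr i) && decide (C.sgnL J (C.neg (C.sr i)) = -1)) J &&
    kall (fun r => Nat.beq (C.wL J (W.G.rho D.rank r)) (W.G.rho D.rank (C.wL J r)) &&
      (Nat.blt r (Nat.div D.nroots 2) || kmem r (kmap C.sr J) || Nat.ble (Nat.div D.nroots 2) (C.wL J r)))
      (krange 0 D.nroots)) W.orb

/-- Height of a root. -/
noncomputable def hsum (D : ChevalleyDatum) (T : List (List ℤ)) (r : ℕ) : ℤ :=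
  ksumI (kmap (fun i => htAt T r i) (krange 0 D.rank))

/-- `rho` respects positivity and heights. -/
noncomputable def okRho (D : ChevalleyDatum) (T : List (List ℤ)) : Bool :=
  kall (fun r => (Nat.ble (Nat.div D.nroots 2) (W.G.rho D.rank r) == Nat.ble (Nat.div D.nroots 2) r) &&
    decide (hsum D T (W.G.rho D.rank r) = hsum D T r)) (krange 0 D.nroots)

/-- Checks on one class at height `k + 1`. -/
noncomputable def okCls (D : ChevalleyDatum) (T : List (List ℤ)) (k : ℕ) (c : List ℕ) : Bool :=
  kall (fun r => Nat.blt r D.nroots && Nat.ble (Nat.div D.nroots 2) r &&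
    decide (hsum D T r = Int.ofNat (Nat.succ k))) c &&
  kdist c && kcyc (W.G.rho D.rank) (c.headD 0) c &&
  ((Nat.beq c.length 1 && (Nat.beq W.m 2 || decide (W.G.eps D.rank (c.headD 0) = 1))) ||
    (Nat.beq c.length W.m && decide (kprodI (kmap (W.G.eps D.rank) c) = 1))) &&
  kall (fun r => kall (fun s => commOK D r s) c) c

/-- Checks on the classes. -/
noncomputable def okLv (D : ChevalleyDatum) (C : Cert) (T : List (List ℤ)) : Bool :=
  listBeq (listBeq Nat.beq) (W.lv.getD 0 []) (kmap (fun J => kmap C.sr J) W.orb) &&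
  kall (fun k => kdist (kflat (fun c => c) (W.lv.getD k [])) &&
    kall (fun c => W.okCls D T k c) (W.lv.getD k [])) (krange 0 W.lv.length) &&
  kall (fun r => Nat.blt r (Nat.div D.nroots 2) ||
    kex (fun k => decide (hsum D T r = Int.ofNat (Nat.succ k)) && kmem r (kflat (fun c => c) (W.lv.getD k [])))
      (krange 0 W.lv.length)) (krange 0 D.nroots)

/-- Each class of height above 1 is lowered by the reflection of an orbit. -/
noncomputable def okPar (C : Cert) : Bool :=
  kall (fun k => kall (fun p => Nat.blt ((W.par.getD k []).getD p 0) W.nO &&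
    (let c := (W.lv.getD k []).getD p []
     let J := W.orbAt ((W.par.getD k []).getD p 0)
     kex (fun j => kex (fun c' => Nat.beq c'.length c.length && kall (fun r => kmem (C.wL J r) c') c)
       (W.lv.getD j [])) (krange 0 k)))
    (krange 0 (W.lv.getD k []).length)) (krange 1 (Nat.sub W.lv.length 1))

/-- The target root. -/
noncomputable def prAt (r : ℕ) : ℕ := W.proj.getD r 0

/-- The projection onto the target is equivariant and onto. -/
noncomputable def okProj (D : ChevalleyDatum) (C C' : Cert) : Bool :=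
  Nat.beq C'.l W.nO &&
  kall (fun r => Nat.blt (W.prAt r) C'.n && kall (fun a =>
    Nat.beq (W.prAt (C.wL (W.orbAt a) r)) (C'.w a (W.prAt r))) (krange 0 W.nO)) (krange 0 D.nroots) &&
  kall (fun s => kex (fun r => Nat.beq (W.prAt r) s) (krange 0 D.nroots)) (krange 0 C'.n)

/-- The sign vector of a relator. -/
noncomputable def sgnOf (mask i : ℕ) : ℤ := Bool.rec (1 : ℤ) (-1) (Nat.testBit mask i)

/-- Value of the character of the sign vector at a root. -/
noncomputable def chiSgn (C : Cert) (l mask s : ℕ) : ℤ :=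
  kprodI (kmap (fun i => Bool.rec (1 : ℤ) (-1)
    (Nat.testBit mask i && Nat.beq (Nat.mod (C.cart i s).natAbs 2) 1)) (krange 0 l))

/-- Repetition of a word. -/
noncomputable def krep (w : List ℕ) (m : ℕ) : List ℕ :=
  @Nat.rec (fun _ => List ℕ) [] (fun _ ih => kapp w ih) m

/-- The relators hold up to the given signs. -/
noncomputable def okRels (D : ChevalleyDatum) (C : Cert) : Bool :=
  kall (fun q => let L := W.flat (krep [q.1, q.2.1] q.2.2.1)
    kall (fun i => Nat.testBit q.2.2.2 (W.piAt i) == Nat.testBit q.2.2.2 i) (krange 0 D.rank) &&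
    kall (fun s => Nat.beq (C.wL L s) s && decide (C.sgnL L s = chiSgn C D.rank q.2.2.2 s))
      (krange 0 D.nroots)) W.rels

/-- All checks. -/
noncomputable def okAll (D : ChevalleyDatum) (C C' : Cert) (T : List (List ℤ)) : Bool :=
  W.G.okAut C && W.okPi D C && W.okOrb D C && W.okRho D T && W.okLv D C T && W.okPar C && W.okProj D C C' &&
    W.okRels D C

end TwDat

end Cfsg.Lib.Chev
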