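import Cfsg.Agent.Chev.Parab

/-! The filtration of `U` by heights and the coefficients of an element modulo the next step. -/

set_option autoImplicit false

open Cfsg.Lie
open scoped commutatorElement

namespace Cfsg.Lib.Chev

/-- Height of a root. -/
noncomputable def hgt (D : ChevalleyDatum) (T : List (List ℤ)) (r : ℕ) : ℤ :=
  ∑ i ∈ Finset.range D.rank, htAt T r i

/-- Height weight of a coordinate. -/
noncomputable def hwt (D : ChevalleyDatum) (T : List (List ℤ)) : D.Idx → ℤ :=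
  Sum.elim (fun _ => 0) fun r => hgt D T r.val

variable {D : ChevalleyDatum} {C : Cert} {T : List (List ℤ)} {F : Type*} [Field F]

/-- `M` raises the height by at least `m`. -/
def RaiseH (T : List (List ℤ)) (m : ℤ) (M : Matrix D.Idx D.Idx F) : Prop :=
  ∀ x y, M x y ≠ 0 → hwt D T y + m ≤ hwt D T x

theorem RaiseH.mul {a b : ℤ} {A B : Matrix D.Idx D.Idx F} (hA : RaiseH T a A) (hB : RaiseH T b B) :
    RaiseH T (a + b) (A * B) := by
  intro x y h
  rw [Matrix.mul_apply] at h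
  obtain ⟨z, -, hz⟩ := Finset.exists_ne_zero_of_sum_ne_zero h
  have h1 := hA x z (left_ne_zero_of_mul hz)
  have h2 := hB z y (right_ne_zero_of_mul hz)
  linarith

theorem RaiseH.add {a : ℤ} {A B : Matrix D.Idx D.Idx F} (hA : RaiseH T a A) (hB : RaiseH T a B) :
    RaiseH T a (A + B) := by
  intro x y h
  by_cases ha : A x y = 0
  · exact hB x y fun hb => h (by rw [Matrix.add_apply, ha, hb, add_zero])
  · exact hA x y ha

theorem RaiseH.mono {a b : ℤ} {A : Matrix D.Idx D.Idx F} (hA : RaiseH T a A) (h : b ≤ a) : RaiseH T b A :=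
  fun x y hxy => le_trans (add_le_add le_rfl h) (hA x y hxy)

namespace Struct

/-- The subgroup generated by the root elements of height at least `m`. -/
noncomputable def Uh (S : Struct D C) (T : List (List ℤ)) (F : Type*) [Field F] (m : ℤ) :
    Subgroup (GL D.Idx F) :=
  Subgroup.closure {g | ∃ (r : ℕ) (t : F), r < D.nroots ∧ m ≤ hgt D T r ∧ g = S.ok.xG r t}

theorem xG_mem_Uh (S : Struct D C) {m : ℤ} {r : ℕ} (hr : r < D.nroots) (h : m ≤ hgt D T r) (t : F) :
    S.ok.xG r t ∈ S.Uh T F m :=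
  Subgroup.subset_closure ⟨r, t, hr, h, rfl⟩

theorem Uh_mono (S : Struct D C) {m m' : ℤ} (h : m ≤ m') : S.Uh T F m' ≤ S.Uh T F m := by
  refine (Subgroup.closure_le _).2 ?_
  rintro g ⟨r, t, hr, hm, rfl⟩
  exact S.xG_mem_Uh hr (h.trans hm) t

theorem hgt_neg (hT : okHt D T = true) {r : ℕ} (hr : r < D.nroots) : hgt D T (D.neg r) = -hgt D T r := by
  rw [hgt, hgt, ← Finset.sum_neg_distrib]
  exact Finset.sum_congr rfl fun i hi => (ht_row hT hr (Finset.mem_range.1 hi)).1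

theorem exists_coroot_ne_zero (S : Struct D C) {r : ℕ} (hr : r < D.nroots) (F : Type*) [Field F] :
    ∃ i : Fin D.rank, (((D.coroot.getD r #[]).getD i.val 0 : ℤ) : F) ≠ 0 := by
  by_contra hcon
  push Not at hcon
  have hg := (S.order_row hr).2.1
  obtain ⟨p, hp⟩ := CharP.exists F
  have hdvd : ∀ i < D.rank, (p : ℤ) ∣ (D.coroot.getD r #[]).getD i 0 := fun i hi =>
    (CharP.intCast_eq_zero_iff F p _).1 (hcon ⟨i, hi⟩)
  exact CharP.ringChar_ne_one (R := F) ((ringChar.eq F p).trans (Nat.dvd_one.1 (hg p hdvd)))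

theorem hgt_pos_iff (S : Struct D C) (hT : okHt D T = true) {r : ℕ} (hr : r < D.nroots) :
    1 ≤ hgt D T r ↔ D.nroots / 2 ≤ r := by
  have key : ∀ r, r < D.nroots → D.nroots / 2 ≤ r → 1 ≤ hgt D T r := by
    intro r hr hp
    obtain ⟨i, hi⟩ := S.exists_coroot_ne_zero hr ℚ
    have hne : htAt T r i.val ≠ 0 := fun e => hi (by rw [(ht_row hT hr i.isLt).2.2.2 e, Int.cast_zero])
    have hpos : 1 ≤ htAt T r i.val := lt_of_le_of_ne (S.ht_nonneg hT hp hr i.isLt) (Ne.symm hne)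
    exact hpos.trans (Finset.single_le_sum (f := fun i => htAt T r i)
      (fun j hj => S.ht_nonneg hT hp hr (Finset.mem_range.1 hj)) (Finset.mem_range.2 i.isLt))
  refine ⟨fun h => ?_, key r hr⟩
  by_contra hp
  obtain ⟨a, b, -⟩ := S.neg_pos (show r < D.nroots / 2 by omega)
  have := key _ b a
  rw [hgt_neg hT hr] at this
  linarith

theorem Uh_one (S : Struct D C) (hT : okHt D T = true) : S.Uh T F 1 = D.posUnipotent F := by
  refine congrArg Subgroup.closure (Set.ext fun g => ⟨?_, ?_⟩)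
  · rintro ⟨r, t, hr, h, rfl⟩
    exact ⟨r, t, S.isPos_iff.2 ⟨(S.hgt_pos_iff hT hr).1 h, hr⟩, S.ok.val_xG r t⟩
  · rintro ⟨r, t, hr, hg⟩
    exact ⟨r, t, hr.1, (S.hgt_pos_iff hT hr.1).2 (S.isPos_iff.1 hr).1, S.ok.eq_xG hg⟩

theorem raise_x (S : Struct D C) (hT : okHt D T = true) {r : ℕ} (hr : r < D.nroots) (t : F)
    (hpos : 1 ≤ hgt D T r) : RaiseH T (hgt D T r) (D.x F r t - 1) := by
  intro x y h
  obtain ⟨k, hk1, hk⟩ := S.entry_ht hT hr t h
  have hx : hwt D T x = hwt D T y + k * hgt D T r := by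
    have hw : ∀ z : D.Idx, hwt D T z = ∑ i ∈ Finset.range D.rank, wtJ T i z := by
      intro z
      rcases z with a | v
      · simp [hwt, wtJ]
      · rfl
    rw [hw, hw, hgt, Finset.mul_sum, ← Finset.sum_add_distrib]
    exact Finset.sum_congr rfl fun i hi => hk i (Finset.mem_range.1 hi)
  have hk1' : (1 : ℤ) ≤ k := by exact_mod_cast hk1
  nlinarith

theorem raise_Uh (S : Struct D C) (hT : okHt D T = true) {m : ℤ} (hm : 1 ≤ m) {g : GL D.Idx F}
    (hg : g ∈ S.Uh T F m) : RaiseH T m ((g : Matrix D.Idx D.Idx F) - 1) := by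
  have h0 : RaiseH T m (0 : Matrix D.Idx D.Idx F) := fun x y h => absurd rfl h
  have e : ∀ A B : Matrix D.Idx D.Idx F, A * B - 1 = (A - 1) * (B - 1) + (A - 1) + (B - 1) :=
    fun A B => by noncomm_ring
  let U : Subgroup (GL D.Idx F) :=
    { carrier := {g | RaiseH T m ((g : Matrix D.Idx D.Idx F) - 1) ∧
        RaiseH T m (((g⁻¹ : GL D.Idx F) : Matrix D.Idx D.Idx F) - 1)}
      one_mem' := ⟨by rw [Units.val_one, sub_self]; exact h0, by rw [inv_one, Units.val_one, sub_self]; exact h0⟩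
      mul_mem' := fun {a b} ha hb =>
        ⟨by rw [Units.val_mul, e]; exact (((ha.1.mul hb.1).mono (by linarith)).add ha.1).add hb.1,
          by rw [mul_inv_rev, Units.val_mul, e]; exact (((hb.2.mul ha.2).mono (by linarith)).add hb.2).add ha.2⟩
      inv_mem' := fun {a} ha => ⟨ha.2, by rw [inv_inv]; exact ha.1⟩ }
  have hle : S.Uh T F m ≤ U := by
    refine (Subgroup.closure_le _).2 ?_
    rintro g ⟨r, t, hr, hmr, rfl⟩
    refine ⟨?_, ?_⟩
    · rw [S.ok.val_xG]; exact (S.raise_x hT hr t (hm.trans hmr)).mono hmr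
    · rw [S.ok.xG_inv, S.ok.val_xG]; exact (S.raise_x hT hr (-t) (hm.trans hmr)).mono hmr
  exact (hle hg).1

theorem Uh_bot (S : Struct D C) (hT : okHt D T = true) {m : ℤ}
    (h : ∀ r < D.nroots, hgt D T r < m) : S.Uh T F m = ⊥ := by
  refine eq_bot_iff.2 ((Subgroup.closure_le _).2 ?_)
  rintro g ⟨r, t, hr, hmr, rfl⟩
  have := h r hr
  linarith

theorem negLt (S : Struct D C) {r : ℕ} (hr : r < D.nroots) : D.neg r < D.nroots := by
  have := (S.order_row hr).1; omega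

/-- A coordinate at which the coroot of `r` does not vanish. -/
noncomputable def cix (S : Struct D C) (F : Type*) [Field F] (r : Fin D.nroots) : Fin D.rank :=
  (S.exists_coroot_ne_zero r.isLt F).choose

/-- The coefficient of an element at a root. -/
noncomputable def coef (S : Struct D C) (r : Fin D.nroots) (g : GL D.Idx F) : F :=
  ((g : Matrix D.Idx D.Idx F) - 1) (Sum.inl (S.cix F r))
      (Sum.inr ⟨D.neg r.val, (S.negLt r.isLt)⟩) /
    (((D.coroot.getD r.val #[]).getD (S.cix F r).val 0 : ℤ) : F)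

theorem coef_xG (S : Struct D C) (r : Fin D.nroots) {s : ℕ} (hs : s < D.nroots) (t : F) :
    S.coef r (S.ok.xG s t) = if s = r.val then t else 0 := by
  have hc := (S.exists_coroot_ne_zero r.isLt F).choose_spec
  have h1 := (S.order_row r.isLt).1
  have h2 := (S.order_row hs).1
  have hn : D.negIdx.getD s 0 = D.neg s := rfl
  have h3 := S.hsum
  rw [coef, S.ok.val_xG, ChevalleyDatum.x, dif_pos hs, Matrix.sub_apply, Matrix.one_apply_ne (by simp), sub_zero]
  simp only [ChevalleyDatum.xMat, Matrix.of_apply, Fin.ext_iff]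
  split_ifs with a b c d e
  all_goals first
    | (subst d; exact mul_div_cancel_left₀ t (by simpa [cix] using hc))
    | omega
    | (exfalso; omega)
    | simp

theorem coef_mul (S : Struct D C) (hT : okHt D T = true) {m : ℤ} (hm : 1 ≤ m) (r : Fin D.nroots)
    (hr : hgt D T r.val ≤ m) {a b : GL D.Idx F} (ha : a ∈ S.Uh T F m) (hb : b ∈ S.Uh T F m) :
    S.coef r (a * b) = S.coef r a + S.coef r b := by
  have e : ∀ A B : Matrix D.Idx D.Idx F, A * B - 1 = (A - 1) * (B - 1) + (A - 1) + (B - 1) :=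
    fun A B => by noncomm_ring
  have hz : (((a : Matrix D.Idx D.Idx F) - 1) * ((b : Matrix D.Idx D.Idx F) - 1)) (Sum.inl (S.cix F r))
      (Sum.inr ⟨D.neg r.val, S.negLt r.isLt⟩) = 0 := by
    by_contra h
    have h2 := (S.raise_Uh hT hm ha).mul (S.raise_Uh hT hm hb) _ _ h
    simp only [hwt, Sum.elim_inl, Sum.elim_inr, hgt_neg hT r.isLt] at h2
    linarith
  rw [coef, coef, coef, Units.val_mul, e, Matrix.add_apply, Matrix.add_apply, hz, zero_add, add_div]

theorem coef_one (S : Struct D C) (r : Fin D.nroots) : S.coef r (1 : GL D.Idx F) = 0 := by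
  simp [coef]

theorem coef_inv (S : Struct D C) (hT : okHt D T = true) {m : ℤ} (hm : 1 ≤ m) (r : Fin D.nroots)
    (hr : hgt D T r.val ≤ m) {a : GL D.Idx F} (ha : a ∈ S.Uh T F m) :
    S.coef r a⁻¹ = -S.coef r a := by
  have := S.coef_mul hT hm r hr ha (inv_mem ha)
  rw [mul_inv_cancel, S.coef_one] at this
  exact eq_neg_of_add_eq_zero_right this.symm

theorem coef_eq_zero (S : Struct D C) (hT : okHt D T = true) {m : ℤ} (hm : 1 ≤ m) (r : Fin D.nroots)
    (hr : hgt D T r.val < m) {a : GL D.Idx F} (ha : a ∈ S.Uh T F m) : S.coef r a = 0 := by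
  by_contra h
  have h1 : ((a : Matrix D.Idx D.Idx F) - 1) (Sum.inl (S.cix F r))
      (Sum.inr ⟨D.neg r.val, S.negLt r.isLt⟩) ≠ 0 := fun e => h (by rw [coef, e, zero_div])
  have h2 := S.raise_Uh hT hm ha _ _ h1
  simp only [hwt, Sum.elim_inl, Sum.elim_inr, hgt_neg hT r.isLt] at h2
  linarith

theorem hgt_commTerms (S : Struct D C) (hT : okHt D T = true) {r s : ℕ} (hr : r < D.nroots) (hs : s < D.nroots)
    (hr1 : 1 ≤ hgt D T r) (hs1 : 1 ≤ hgt D T s) {q : ℕ × ℤ × ℕ × ℕ} (hq : q ∈ D.commTerms r s) :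
    hgt D T r + hgt D T s ≤ hgt D T q.1 := by
  obtain ⟨a, b, ha, hb, hab⟩ := ht_commTerms hT S.chain hr hs hq
  have e : hgt D T q.1 = a * hgt D T r + b * hgt D T s := by
    rw [hgt, hgt, hgt, Finset.mul_sum, Finset.mul_sum, ← Finset.sum_add_distrib]
    exact Finset.sum_congr rfl fun i hi => hab i (Finset.mem_range.1 hi)
  have ha' : (1 : ℤ) ≤ a := by exact_mod_cast ha
  have hb' : (1 : ℤ) ≤ b := by exact_mod_cast hb
  nlinarith

theorem conj_Uh (S : Struct D C) (hT : okHt D T = true) {m : ℤ} (hm : 1 ≤ m) {r : ℕ} (hr : r < D.nroots)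
    (hr1 : 1 ≤ hgt D T r) (t : F) :
    ∀ g ∈ S.Uh T F m, S.ok.xG r t * g * (S.ok.xG r t)⁻¹ ∈ S.Uh T F m := by
  refine conj_closure_le ?_
  rintro u ⟨s, v, hs, hms, rfl⟩
  rcases eq_or_ne s r with rfl | hne
  · rw [show S.ok.xG s t * S.ok.xG s v * (S.ok.xG s t)⁻¹ = S.ok.xG s v by
      rw [S.ok.xG_mul, S.ok.xG_inv, S.ok.xG_mul]; congr 1; ring]
    exact S.xG_mem_Uh hs hms v
  · have hn : s ≠ D.neg r := fun e => by
      rw [e, hgt_neg hT hr] at hms; linarith
    have e := S.ok.commRel S.chain S.base hr hs hne hn (-t) v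
    rw [show S.ok.xG r t * S.ok.xG s v * (S.ok.xG r t)⁻¹ = S.ok.xG s v * S.ok.wG (D.commWord F r s (-t) v) by
      rw [S.ok.xG_inv, mul_assoc, e, ← mul_assoc, ← mul_assoc, S.ok.xG_mul, add_neg_cancel, S.xG_zero, one_mul]]
    refine mul_mem (S.xG_mem_Uh hs hms v) (list_prod_mem fun g hg => ?_)
    simp only [ChevalleyDatum.commWord, List.map_map, List.mem_map] at hg
    obtain ⟨q, hq, rfl⟩ := hg
    have := S.hgt_commTerms hT hr hs hr1 (hm.trans hms) hq
    exact S.xG_mem_Uh (Ok.commTerms_lt S.chain hr hs hq) (by linarith) _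

theorem Uh_normal (S : Struct D C) (hT : okHt D T = true) {m : ℤ} (hm : 1 ≤ m) :
    S.Uh T F 1 ≤ Subgroup.normalizer (S.Uh T F m : Set (GL D.Idx F)) := by
  refine (Subgroup.closure_le _).2 ?_
  rintro g ⟨r, t, hr, hr1, rfl⟩
  rw [SetLike.mem_coe, Subgroup.mem_normalizer_iff]
  refine fun x => ⟨S.conj_Uh hT hm hr hr1 t x, fun hx => ?_⟩
  have := S.conj_Uh hT hm hr hr1 (-t) _ hx
  rw [← S.ok.xG_inv] at this
  simpa [mul_assoc] using this

/-- The subgroup generated by the root elements at the roots of `L` and those of height above `m`. -/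
noncomputable def Us (S : Struct D C) (T : List (List ℤ)) (F : Type*) [Field F] (m : ℤ) (L : List ℕ) :
    Subgroup (GL D.Idx F) :=
  Subgroup.closure {g | ∃ (r : ℕ) (t : F), r ∈ L ∧ g = S.ok.xG r t} ⊔ S.Uh T F (m + 1)

theorem xG_mem_Us (S : Struct D C) {m : ℤ} {L : List ℕ} {r : ℕ} (h : r ∈ L) (t : F) :
    S.ok.xG r t ∈ S.Us T F m L :=
  Subgroup.mem_sup_left (Subgroup.subset_closure ⟨r, t, h, rfl⟩)

theorem Us_le (S : Struct D C) {m : ℤ} {L : List ℕ} (hL : ∀ r ∈ L, r < D.nroots ∧ hgt D T r = m) :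
    S.Us T F m L ≤ S.Uh T F m := by
  refine sup_le ((Subgroup.closure_le _).2 ?_) (S.Uh_mono (by linarith))
  rintro g ⟨r, t, hr, rfl⟩
  exact S.xG_mem_Uh (hL r hr).1 (hL r hr).2.ge t

theorem Us_normal (S : Struct D C) (hT : okHt D T = true) {m : ℤ} (hm : 1 ≤ m) {L : List ℕ}
    (hL : ∀ r ∈ L, r < D.nroots ∧ hgt D T r = m) {r : ℕ} (hr : r < D.nroots) (hrm : m ≤ hgt D T r) :
    ∀ t : F, ∀ u ∈ S.Us T F m L, S.ok.xG r t * u * (S.ok.xG r t)⁻¹ ∈ S.Us T F m L := by
  intro t u hu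
  have key : ⁅S.ok.xG r t, u⁆ ∈ S.Uh T F (m + 1) → S.ok.xG r t * u * (S.ok.xG r t)⁻¹ ∈ S.Us T F m L := by
    intro h
    have : S.ok.xG r t * u * (S.ok.xG r t)⁻¹ = ⁅S.ok.xG r t, u⁆ * u := by rw [commutatorElement_def]; group
    rw [this]
    exact mul_mem (Subgroup.mem_sup_right h) hu
  have hle : S.Us T F m L ≤ (S.Us T F m L).comap (MulAut.conj (S.ok.xG r t)).toMonoidHom := by
    refine sup_le ((Subgroup.closure_le _).2 ?_) ?_
    · rintro g ⟨s, v, hs, rfl⟩
      obtain ⟨hsn, hsm⟩ := hL s hs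
      show S.ok.xG r t * S.ok.xG s v * (S.ok.xG r t)⁻¹ ∈ S.Us T F m L
      rcases eq_or_ne s r with rfl | hne
      · rw [show S.ok.xG s t * S.ok.xG s v * (S.ok.xG s t)⁻¹ = S.ok.xG s v by
          rw [S.ok.xG_mul, S.ok.xG_inv, S.ok.xG_mul]; congr 1; ring]
        exact S.xG_mem_Us hs v
      · have hn : s ≠ D.neg r := fun e => by rw [e, hgt_neg hT hr] at hsm; linarith
        have e := S.ok.commRel S.chain S.base hr hsn hne hn (-t) v
        rw [show S.ok.xG r t * S.ok.xG s v * (S.ok.xG r t)⁻¹ = S.ok.xG s v * S.ok.wG (D.commWord F r s (-t) v) by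
          rw [S.ok.xG_inv, mul_assoc, e, ← mul_assoc, ← mul_assoc, S.ok.xG_mul, add_neg_cancel, S.xG_zero,
            one_mul]]
        refine mul_mem (S.xG_mem_Us hs v) (Subgroup.mem_sup_right (list_prod_mem fun g hg => ?_))
        simp only [ChevalleyDatum.commWord, List.map_map, List.mem_map] at hg
        obtain ⟨q, hq, rfl⟩ := hg
        have := S.hgt_commTerms hT hr hsn (hm.trans hrm) (by linarith) hq
        exact S.xG_mem_Uh (Ok.commTerms_lt S.chain hr hsn hq) (by linarith) _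
    · intro g hg
      exact Subgroup.mem_sup_right (S.conj_Uh hT (by linarith) hr (hm.trans hrm) t g hg)
  exact hle hu

theorem Us_split (S : Struct D C) (hT : okHt D T = true) {m : ℤ} (hm : 1 ≤ m) {a : ℕ} {L : List ℕ}
    (hL : ∀ r ∈ a :: L, r < D.nroots ∧ hgt D T r = m) {g : GL D.Idx F} (hg : g ∈ S.Us T F m (a :: L)) :
    ∃ (t : F) (v : GL D.Idx F), v ∈ S.Us T F m L ∧ g = S.ok.xG a t * v := by
  obtain ⟨han, ham⟩ := hL a List.mem_cons_self
  have hL' : ∀ r ∈ L, r < D.nroots ∧ hgt D T r = m := fun r hr => hL r (List.mem_cons_of_mem _ hr)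
  have hX : (S.xHom F a).range ≤ Subgroup.normalizer (S.Us T F m L : Set (GL D.Idx F)) := by
    rintro x ⟨t, rfl⟩
    rw [Subgroup.mem_normalizer_iff]
    refine fun u => ⟨S.Us_normal hT hm hL' han ham.ge t.toAdd u, fun hu => ?_⟩
    have := S.Us_normal hT hm hL' han ham.ge (-t.toAdd) _ hu
    rw [← S.ok.xG_inv] at this
    change (S.ok.xG a t.toAdd)⁻¹ * (S.ok.xG a t.toAdd * u * (S.ok.xG a t.toAdd)⁻¹) *
      (S.ok.xG a t.toAdd)⁻¹⁻¹ ∈ _ at this
    simpa [mul_assoc] using this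
  have hle : S.Us T F m (a :: L) ≤ (S.xHom F a).range ⊔ S.Us T F m L := by
    refine sup_le ((Subgroup.closure_le _).2 ?_) (le_sup_of_le_right le_sup_right)
    rintro x ⟨r, t, hr, rfl⟩
    rcases List.mem_cons.1 hr with rfl | hr
    · exact Subgroup.mem_sup_left ⟨Multiplicative.ofAdd t, rfl⟩
    · exact Subgroup.mem_sup_right (S.xG_mem_Us hr t)
  have h1 : g ∈ (((S.xHom F a).range ⊔ S.Us T F m L : Subgroup (GL D.Idx F)) : Set (GL D.Idx F)) := hle hg
  rw [Subgroup.coe_mul_of_left_le_normalizer_right _ _ hX] at h1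
  obtain ⟨x, ⟨t, rfl⟩, v, hv, rfl⟩ := Set.mem_mul.1 h1
  exact ⟨t.toAdd, v, hv, rfl⟩

theorem coef_Us_zero (S : Struct D C) (hT : okHt D T = true) {m : ℤ} (hm : 1 ≤ m) {L : List ℕ}
    (hL : ∀ r ∈ L, r < D.nroots ∧ hgt D T r = m) (a : Fin D.nroots) (ha : a.val ∉ L)
    (ham : hgt D T a.val ≤ m) {v : GL D.Idx F} (hv : v ∈ S.Us T F m L) : S.coef a v = 0 := by
  let Z : Subgroup (GL D.Idx F) :=
    { carrier := {v | v ∈ S.Uh T F m ∧ S.coef a v = 0}
      one_mem' := ⟨one_mem _, S.coef_one a⟩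
      mul_mem' := fun {x y} hx hy => ⟨mul_mem hx.1 hy.1, by
        rw [S.coef_mul hT hm a ham hx.1 hy.1, hx.2, hy.2, add_zero]⟩
      inv_mem' := fun {x} hx => ⟨inv_mem hx.1, by rw [S.coef_inv hT hm a ham hx.1, hx.2, neg_zero]⟩ }
  refine ((show S.Us T F m L ≤ Z from sup_le ((Subgroup.closure_le _).2 ?_) ?_) hv).2
  · rintro g ⟨r, t, hr, rfl⟩
    refine ⟨S.xG_mem_Uh (hL r hr).1 (hL r hr).2.ge t, ?_⟩
    rw [S.coef_xG a (hL r hr).1, if_neg fun e => ha (by rw [← e]; exact hr)]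
  · exact fun g hg => ⟨S.Uh_mono (by linarith) hg, S.coef_eq_zero hT (by linarith) a (by linarith) hg⟩

theorem mem_Us_of_coef (S : Struct D C) (hT : okHt D T = true) {m : ℤ} (hm : 1 ≤ m) :
    ∀ (L1 L2 : List ℕ), (L1 ++ L2).Nodup → (∀ r ∈ L1 ++ L2, r < D.nroots ∧ hgt D T r = m) →
      ∀ g ∈ S.Us T F m (L1 ++ L2), (∀ r : Fin D.nroots, r.val ∈ L1 → S.coef r g = 0) →
        g ∈ S.Us T F m L2
  | [], _, _, _, g, hg, _ => hg
  | a :: L1, L2, hnd, hL, g, hg, hc => by
    rw [List.cons_append] at hnd hL hg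
    obtain ⟨t, v, hv, rfl⟩ := S.Us_split hT hm hL hg
    obtain ⟨han, ham⟩ := hL a List.mem_cons_self
    obtain ⟨hna, hnd'⟩ := List.nodup_cons.1 hnd
    have hL' : ∀ r ∈ L1 ++ L2, r < D.nroots ∧ hgt D T r = m := fun r hr => hL r (List.mem_cons_of_mem _ hr)
    have hvU := S.Us_le hL' hv
    have hx := S.xG_mem_Uh han ham.ge t (F := F)
    have ht : t = 0 := by
      have h1 := hc ⟨a, han⟩ List.mem_cons_self
      rw [S.coef_mul hT hm ⟨a, han⟩ ham.le hx hvU, S.coef_xG _ han, if_pos rfl,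
        S.coef_Us_zero hT hm hL' ⟨a, han⟩ hna ham.le hv, add_zero] at h1
      exact h1
    subst ht
    rw [S.xG_zero, one_mul] at hc ⊢
    exact mem_Us_of_coef S hT hm L1 L2 hnd' hL' v hv fun r hr => hc r (List.mem_cons_of_mem _ hr)

/-- The roots of height `m`. -/
noncomputable def lvl (D : ChevalleyDatum) (T : List (List ℤ)) (m : ℤ) : List ℕ :=
  (List.range D.nroots).filter fun r => hgt D T r = m

theorem mem_lvl {m : ℤ} {r : ℕ} : r ∈ lvl D T m ↔ r < D.nroots ∧ hgt D T r = m := by simp [lvl]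

theorem Us_lvl (S : Struct D C) {m : ℤ} {L : List ℕ} (h : ∀ r, r ∈ L ↔ r ∈ lvl D T m) :
    S.Us T F m L = S.Uh T F m := by
  refine le_antisymm (S.Us_le fun r hr => mem_lvl.1 ((h r).1 hr)) ((Subgroup.closure_le _).2 ?_)
  rintro g ⟨r, t, hr, hmr, rfl⟩
  rcases hmr.eq_or_lt with e | e
  · exact S.xG_mem_Us ((h r).2 (mem_lvl.2 ⟨hr, e.symm⟩)) t
  · exact Subgroup.mem_sup_right (S.xG_mem_Uh hr (by linarith) t)

theorem Uh_succ_of_coef (S : Struct D C) (hT : okHt D T = true) {m : ℤ} (hm : 1 ≤ m) {g : GL D.Idx F}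
    (hg : g ∈ S.Uh T F m) (hc : ∀ r : Fin D.nroots, hgt D T r.val = m → S.coef r g = 0) :
    g ∈ S.Uh T F (m + 1) := by
  have h1 : g ∈ S.Us T F m (lvl D T m ++ []) := by
    rw [S.Us_lvl (by simp)]; exact hg
  have h2 := S.mem_Us_of_coef hT hm (lvl D T m) [] (by simpa [lvl] using List.nodup_range.filter (p := fun r => decide (hgt D T r = m)))
    (fun r hr => mem_lvl.1 (by simpa using hr)) g h1 fun r hr => hc r (mem_lvl.1 hr).2
  refine (sup_le ((Subgroup.closure_le _).2 ?_) le_rfl : S.Us T F m [] ≤ S.Uh T F (m + 1)) h2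
  rintro x ⟨r, t, hr, -⟩
  exact absurd hr (List.not_mem_nil)

end Struct

end Cfsg.Lib.Chev
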