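import Cfsg.Agent.Chev.Tw.Data
import Cfsg.Agent.Chev.Tw.Height

/-! The automorphism `σ` and the elements fixed by it attached to the classes of roots. -/

set_option autoImplicit false

open Cfsg.Lie

namespace Cfsg.Lib.Chev

variable {D D' : ChevalleyDatum} {C C' : Cert} {W : TwDat} {T : List (List ℤ)} {F : Type*} [Field F]

theorem mem_krange0 {r n : ℕ} (h : r < n) : r ∈ krange 0 n := by
  rw [krange_eq, List.mem_range'_1]; omega

namespace Struct

theorem wpL_val (S : Struct D C) : ∀ (L : List (Fin D.rank)) (s : Fin D.nroots),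
    (S.wpL L s).val = C.wL (L.map Fin.val) s.val
  | [], s => by simp [wpL]
  | a :: M, s => by
    have := wpL_val S M s
    simp only [wpL, List.map_cons, List.prod_cons, Equiv.Perm.mul_apply, wp_val, Cert.wL_cons] at this ⊢
    rw [this]

theorem wL_lt (S : Struct D C) (L : List (Fin D.rank)) {s : ℕ} (hs : s < D.nroots) :
    C.wL (L.map Fin.val) s < D.nroots := by
  rw [← S.wpL_val L ⟨s, hs⟩]; exact (S.wpL L ⟨s, hs⟩).isLt

theorem nL_conj (S : Struct D C) : ∀ (L : List (Fin D.rank)) {s : ℕ}, s < D.nroots → ∀ t : F,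
    S.nL F L * S.ok.xG s t * (S.nL F L)⁻¹ =
      S.ok.xG (C.wL (L.map Fin.val) s) ((C.sgnL (L.map Fin.val) s : F) * t)
  | [], s, _, t => by simp [nL]
  | a :: M, s, hs, t => by
    have ih := nL_conj S M hs t
    have h1 := S.ok.conj_nG_xG a.isLt (S.wL_lt M hs) ((C.sgnL (M.map Fin.val) s : F) * t)
    have h2 : S.nL F (a :: M) = S.ok.nG (D.simple a) 1 * S.nL F M := by simp [nL]
    rw [h2, mul_inv_rev, show S.ok.nG (D.simple a) 1 * S.nL F M * S.ok.xG s t *
      ((S.nL F M)⁻¹ * (S.ok.nG (D.simple a) 1)⁻¹) = S.ok.nG (D.simple a) 1 *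
        (S.nL F M * S.ok.xG s t * (S.nL F M)⁻¹) * (S.ok.nG (D.simple a) 1)⁻¹ by group, ih, h1]
    simp [mul_assoc]

theorem nL_conj_wG (S : Struct D C) (L : List (Fin D.rank)) : ∀ (w : List (ℕ × F)), (∀ p ∈ w, p.1 < D.nroots) →
    S.nL F L * S.ok.wG w * (S.nL F L)⁻¹ =
      S.ok.wG (w.map fun p => (C.wL (L.map Fin.val) p.1, (C.sgnL (L.map Fin.val) p.1 : F) * p.2))
  | [], _ => by simp [Ok.wG]
  | p :: w, h => by
    have ih := nL_conj_wG S L w fun q hq => h q (List.mem_cons_of_mem _ hq)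
    have e := S.nL_conj (F := F) L (h p List.mem_cons_self) p.2
    simp only [Ok.wG, List.map_cons, List.prod_cons] at ih ⊢
    rw [← e, ← ih]
    group

theorem commute_of_commOK (S : Struct D C) {r s : ℕ} (hr : r < D.nroots) (hs : s < D.nroots)
    (h : TwDat.commOK D r s = true) (t u : F) : Commute (S.ok.xG r t) (S.ok.xG s u) := by
  simp only [TwDat.commOK, Bool.or_eq_true, Bool.and_eq_true, Bool.not_eq_true', knil_iff] at h
  rcases h with h | ⟨h1, h2⟩
  · rw [Nat.eq_of_beq_eq_true h]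
    show _ * _ = _ * _
    rw [S.ok.xG_mul, S.ok.xG_mul, add_comm]
  · by_cases hsr : s = r
    · subst hsr
      show _ * _ = _ * _
      rw [S.ok.xG_mul, S.ok.xG_mul, add_comm]
    have e := S.ok.commRel S.chain S.base hr hs hsr (Nat.ne_of_beq_eq_false h1) t u
    have e1 : D.commWord F r s t u = [] := by simp [ChevalleyDatum.commWord, h2]
    rw [e1] at e
    show _ * _ = _ * _
    simpa [Ok.wG] using e.symm

end Struct

/-- A twisted type with its certified data. -/
structure Tw (D D' : ChevalleyDatum) (C C' : Cert) (W : TwDat) (T : List (List ℤ)) (F : Type*) [Field F] where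
  /-- the ambient structure -/
  S : Struct D C
  /-- the target structure -/
  S' : Struct D' C'
  hN : okNeg D = true
  hN' : okNeg D' = true
  hT : okHt D T = true
  ok : W.okAll D C C' T = true
  hm : 2 ≤ W.m
  /-- the field automorphism -/
  f : F →+* F
  /-- the order of the fixed field -/
  q : ℕ
  hq : 1 < q
  hfq : ∀ t, f t = t ^ q
  hcard : Nat.card F = q ^ W.m

theorem hgt_eq_hsum (D : ChevalleyDatum) (T : List (List ℤ)) (r : ℕ) : hgt D T r = TwDat.hsum D T r := by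
  rw [hgt, TwDat.hsum, ksumI_eq, kmap_eq, krange_eq, ← List.range_eq_range']
  rfl

namespace Tw

variable (X : Tw D D' C C' W T F)
include X

theorem parts : W.G.okAut C = true ∧ W.okPi D C = true ∧ W.okOrb D C = true ∧ W.okRho D T = true ∧
    W.okLv D C T = true ∧ W.okPar C = true ∧ W.okProj D C C' = true ∧ W.okRels D C = true := by
  have := X.ok
  simp only [TwDat.okAll, Bool.and_eq_true] at this
  obtain ⟨⟨⟨⟨⟨⟨⟨h1, h2⟩, h3⟩, h4⟩, h5⟩, h6⟩, h7⟩, h8⟩ := this
  exact ⟨h1, h2, h3, h4, h5, h6, h7, h8⟩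

/-- The image of a root. -/
noncomputable def rho (_X : Tw D D' C C' W T F) (r : ℕ) : ℕ := W.G.rho D.rank r

/-- The sign of a root. -/
noncomputable def eps (_X : Tw D D' C C' W T F) (r : ℕ) : F := (W.G.eps D.rank r : F)

theorem rho_lt {r : ℕ} (hr : r < D.nroots) : X.rho r < D.nroots := GTab.rho_lt X.S.ok X.parts.1 hr

theorem rho_inj {r s : ℕ} (hr : r < D.nroots) (hs : s < D.nroots) (h : X.rho r = X.rho s) : r = s := by
  have key : ∀ a < D.nroots, D.rank ≤ W.G.img (D.rank + a) ∧ W.G.pre (W.G.img (D.rank + a)) = D.rank + a := by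
    intro a ha
    obtain ⟨-, -, b3, -, b5, -⟩ := GTab.spec X.S.ok X.parts.1 (show D.rank + a < D.rank + D.nroots by omega)
    exact ⟨by by_contra hh; have := b5.1 (by omega); omega, b3⟩
  have h' : W.G.img (D.rank + r) - D.rank = W.G.img (D.rank + s) - D.rank := h
  obtain ⟨a1, a2⟩ := key r hr
  obtain ⟨c1, c2⟩ := key s hs
  rw [show W.G.img (D.rank + r) = W.G.img (D.rank + s) by omega, c2] at a2
  omega

theorem rho_pos {r : ℕ} (hr : r < D.nroots) :
    (D.nroots / 2 ≤ X.rho r ↔ D.nroots / 2 ≤ r) ∧ hgt D T (X.rho r) = hgt D T r := by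
  have h := kall_krange X.parts.2.2.2.1 r hr
  simp only [Bool.and_eq_true, beq_iff_eq, decide_eq_true_iff] at h
  refine ⟨?_, by rw [hgt_eq_hsum, hgt_eq_hsum]; exact h.2⟩
  have h1 := h.1
  constructor <;> intro hh
  · have e : Nat.ble (D.nroots / 2) (W.G.rho D.rank r) = true := Nat.ble_eq_true_of_le hh
    exact Nat.le_of_ble_eq_true (h1 ▸ e)
  · have e : Nat.ble (D.nroots / 2) r = true := Nat.ble_eq_true_of_le hh
    exact Nat.le_of_ble_eq_true (h1.symm ▸ e : Nat.ble (D.nroots / 2) (W.G.rho D.rank r) = true)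

/-- The automorphism. -/
noncomputable def sig : GL D.Idx F →* GL D.Idx F :=
  (GTab.glHom X.S.ok X.parts.1).comp (Matrix.GeneralLinearGroup.map X.f)

theorem sig_xG {r : ℕ} (hr : r < D.nroots) (t : F) :
    X.sig (X.S.ok.xG r t) = X.S.ok.xG (X.rho r) (X.eps r * X.f t) := by
  have e : Matrix.GeneralLinearGroup.map X.f (X.S.ok.xG r t) = X.S.ok.xG r (X.f t) :=
    Units.ext (Ok.map_x D X.f r t)
  rw [sig, MonoidHom.comp_apply, e, GTab.glHom_xG X.S.ok X.parts.1 hr]
  rfl

theorem sig_wG : ∀ (w : List (ℕ × F)), (∀ p ∈ w, p.1 < D.nroots) →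
    X.sig (X.S.ok.wG w) = X.S.ok.wG (w.map fun p => (X.rho p.1, X.eps p.1 * X.f p.2))
  | [], _ => by simp [Ok.wG]
  | p :: w, h => by
    have ih := sig_wG w fun q hq => h q (List.mem_cons_of_mem _ hq)
    simp only [Ok.wG, List.map_cons, List.prod_cons] at ih ⊢
    rw [map_mul, ih, X.sig_xG (h p List.mem_cons_self)]

/-- The word along an orbit. -/
noncomputable def orbW : List ℕ → F → List (ℕ × F)
  | [], _ => []
  | r :: c, t => (r, t) :: orbW c (X.eps r * X.f t)

/-- The value after going round an orbit. -/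
noncomputable def nxt : List ℕ → F → F
  | [], t => t
  | r :: c, t => nxt c (X.eps r * X.f t)

/-- The element attached to a class. -/
noncomputable def y (c : List ℕ) (t : F) : GL D.Idx F := X.S.ok.wG (X.orbW c t)

/-- The admissible parameters of a class. -/
def Allowed (c : List ℕ) : Set F := {t | X.nxt c t = t}

theorem orbW_fst : ∀ (c : List ℕ) (t : F), (X.orbW c t).map Prod.fst = c
  | [], _ => rfl
  | r :: c, t => by simp [orbW, orbW_fst c]

theorem mem_orbW {c : List ℕ} {t : F} {p : ℕ × F} (h : p ∈ X.orbW c t) : p.1 ∈ c := by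
  rw [← X.orbW_fst c t]; exact List.mem_map_of_mem h

theorem orbW_step : ∀ (c : List ℕ) (h : ℕ) (t : F), kcyc X.rho h c = true →
    (X.orbW c t).map (fun p => (X.rho p.1, X.eps p.1 * X.f p.2)) ++ [] =
      if c = [] then [] else (X.orbW c t).tail ++ [(h, X.nxt c t)]
  | [], _, _, _ => by simp [orbW]
  | [r], h, t, hc => by
    simp only [kcyc, List.headD, Bool.and_true] at hc
    simp [orbW, nxt, Nat.eq_of_beq_eq_true hc]
  | r :: r' :: c, h, t, hc => by
    have hc' : Nat.beq (X.rho r) r' = true ∧ kcyc X.rho h (r' :: c) = true := by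
      simpa [kcyc, Bool.and_eq_true] using hc
    have ih := orbW_step (r' :: c) h (X.eps r * X.f t) hc'.2
    simp only [List.append_nil, if_neg (List.cons_ne_nil _ _)] at ih ⊢
    show (X.rho r, X.eps r * X.f t) :: List.map _ (X.orbW (r' :: c) (X.eps r * X.f t)) = _
    rw [ih, Nat.eq_of_beq_eq_true hc'.1]
    rfl

theorem wG_append (a b : List (ℕ × F)) : X.S.ok.wG (a ++ b) = X.S.ok.wG a * X.S.ok.wG b := by
  simp [Ok.wG]

theorem sig_y {c : List ℕ} (hlt : ∀ r ∈ c, r < D.nroots) (hc : kcyc X.rho (c.headD 0) c = true)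
    (hcom : ∀ r ∈ c, ∀ s ∈ c, TwDat.commOK D r s = true) {t : F} (ht : t ∈ X.Allowed c) :
    X.sig (X.y c t) = X.y c t := by
  rw [y, X.sig_wG _ fun p hp => hlt _ (X.mem_orbW hp)]
  cases c with
  | nil => rfl
  | cons r c =>
    have e := X.orbW_step (r :: c) r t hc
    rw [List.append_nil, if_neg (List.cons_ne_nil _ _), show X.nxt (r :: c) t = t from ht] at e
    rw [e, orbW, List.tail_cons, X.wG_append, show X.S.ok.wG ((r, t) :: X.orbW c (X.eps r * X.f t)) =
      X.S.ok.xG r t * X.S.ok.wG (X.orbW c (X.eps r * X.f t)) from by simp [Ok.wG]]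
    have hcm : Commute (X.S.ok.wG (X.orbW c (X.eps r * X.f t))) (X.S.ok.xG r t) := by
      refine Commute.list_prod_left _ _ fun z hz => ?_
      obtain ⟨p, hp, rfl⟩ := List.mem_map.1 hz
      exact X.S.commute_of_commOK (hlt _ (List.mem_cons_of_mem _ (X.mem_orbW hp))) (hlt r List.mem_cons_self)
        (hcom _ (List.mem_cons_of_mem _ (X.mem_orbW hp)) r List.mem_cons_self) _ _
    rw [show X.S.ok.wG [(r, t)] = X.S.ok.xG r t from by simp [Ok.wG]]
    exact hcm.eq

theorem coef_sig {m : ℤ} (hm : 1 ≤ m) {g : GL D.Idx F} (hg : g ∈ X.S.Uh T F m) :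
    X.sig g ∈ X.S.Uh T F m ∧ ∀ (r : Fin D.nroots) (q : Fin D.nroots), q.val = X.rho r.val →
      hgt D T r.val ≤ m → X.S.coef q (X.sig g) = X.eps r.val * X.f (X.S.coef r g) := by
  let Z : Subgroup (GL D.Idx F) :=
    { carrier := {g | g ∈ X.S.Uh T F m ∧ X.sig g ∈ X.S.Uh T F m ∧ ∀ (r q : Fin D.nroots), q.val = X.rho r.val →
        hgt D T r.val ≤ m → X.S.coef q (X.sig g) = X.eps r.val * X.f (X.S.coef r g)}
      one_mem' := ⟨one_mem _, by rw [map_one]; exact one_mem _, fun r q _ _ => by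
        rw [map_one, X.S.coef_one, X.S.coef_one, map_zero, mul_zero]⟩
      mul_mem' := fun {a b} ha hb => ⟨mul_mem ha.1 hb.1, by rw [map_mul]; exact mul_mem ha.2.1 hb.2.1,
        fun r q hq hr => by
          rw [map_mul, X.S.coef_mul X.hT hm q (by rw [hq, (X.rho_pos r.isLt).2]; exact hr) ha.2.1 hb.2.1,
            X.S.coef_mul X.hT hm r hr ha.1 hb.1, ha.2.2 r q hq hr, hb.2.2 r q hq hr, map_add, mul_add]⟩
      inv_mem' := fun {a} ha => ⟨inv_mem ha.1, by rw [map_inv]; exact inv_mem ha.2.1, fun r q hq hr => by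
          rw [map_inv, X.S.coef_inv X.hT hm q (by rw [hq, (X.rho_pos r.isLt).2]; exact hr) ha.2.1,
            X.S.coef_inv X.hT hm r hr ha.1, ha.2.2 r q hq hr, map_neg, mul_neg]⟩ }
  have hle : X.S.Uh T F m ≤ Z := by
    refine (Subgroup.closure_le _).2 ?_
    rintro x ⟨s, t, hs, hms, rfl⟩
    refine ⟨X.S.xG_mem_Uh hs hms t, ?_, fun r q hq hr => ?_⟩
    · rw [X.sig_xG hs]
      exact X.S.xG_mem_Uh (X.rho_lt hs) (by rw [(X.rho_pos hs).2]; exact hms) _
    · rw [X.sig_xG hs, X.S.coef_xG q (X.rho_lt hs), X.S.coef_xG r hs]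
      by_cases e : s = r.val
      · subst e; rw [if_pos hq.symm, if_pos rfl]
      · rw [if_neg fun h => e (X.rho_inj hs r.isLt (h.trans hq)), if_neg e, map_zero, mul_zero]
  exact ⟨(hle hg).2.1, (hle hg).2.2⟩

theorem wG_mem_Uh {m : ℤ} : ∀ (w : List (ℕ × F)), (∀ p ∈ w, p.1 < D.nroots ∧ m ≤ hgt D T p.1) →
    X.S.ok.wG w ∈ X.S.Uh T F m
  | [], _ => by simpa [Ok.wG] using one_mem _
  | p :: w, h => by
    rw [show X.S.ok.wG (p :: w) = X.S.ok.xG p.1 p.2 * X.S.ok.wG w from by simp [Ok.wG]]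
    exact mul_mem (X.S.xG_mem_Uh (h p List.mem_cons_self).1 (h p List.mem_cons_self).2 _)
      (wG_mem_Uh w fun q hq => h q (List.mem_cons_of_mem _ hq))

theorem coef_wG {m : ℤ} (hm : 1 ≤ m) (r : Fin D.nroots) (hr : hgt D T r.val ≤ m) :
    ∀ (w : List (ℕ × F)), (∀ p ∈ w, p.1 < D.nroots ∧ m ≤ hgt D T p.1) →
      X.S.coef r (X.S.ok.wG w) = (w.map fun p => if p.1 = r.val then p.2 else 0).sum
  | [], _ => by simp [Ok.wG, X.S.coef_one]
  | p :: w, h => by
    have h0 := h p List.mem_cons_self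
    have ht := fun q hq => h q (List.mem_cons_of_mem p hq)
    rw [show X.S.ok.wG (p :: w) = X.S.ok.xG p.1 p.2 * X.S.ok.wG w from by simp [Ok.wG],
      X.S.coef_mul X.hT hm r hr (X.S.xG_mem_Uh h0.1 h0.2 _) (X.wG_mem_Uh w ht), coef_wG hm r hr w ht,
      X.S.coef_xG r h0.1, List.map_cons, List.sum_cons]

theorem coef_wG_mem {m : ℤ} (hm : 1 ≤ m) {w : List (ℕ × F)} (hnd : (w.map Prod.fst).Nodup)
    (hw : ∀ p ∈ w, p.1 < D.nroots ∧ m ≤ hgt D T p.1) (r : Fin D.nroots) (hr : hgt D T r.val ≤ m)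
    {p : ℕ × F} (hp : p ∈ w) (hpr : p.1 = r.val) : X.S.coef r (X.S.ok.wG w) = p.2 := by
  rw [X.coef_wG hm r hr w hw]
  clear hw
  induction w with
  | nil => simp at hp
  | cons a w ih =>
    rw [List.map_cons, List.nodup_cons] at hnd
    rw [List.map_cons, List.sum_cons]
    rcases List.mem_cons.1 hp with rfl | hp'
    · rw [if_pos hpr, List.sum_eq_zero, add_zero]
      intro z hz
      obtain ⟨b, hb, rfl⟩ := List.mem_map.1 hz
      exact if_neg fun (e : b.1 = r.val) => hnd.1 (List.mem_map.2 ⟨b, hb, e.trans hpr.symm⟩)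
    · rw [if_neg fun e => hnd.1 (by rw [e, ← hpr]; exact List.mem_map_of_mem hp'), zero_add]
      exact ih hnd.2 hp'

theorem coef_wG_not_mem {m : ℤ} (hm : 1 ≤ m) {w : List (ℕ × F)}
    (hw : ∀ p ∈ w, p.1 < D.nroots ∧ m ≤ hgt D T p.1) (r : Fin D.nroots) (hr : hgt D T r.val ≤ m)
    (hn : r.val ∉ w.map Prod.fst) : X.S.coef r (X.S.ok.wG w) = 0 := by
  rw [X.coef_wG hm r hr w hw]
  refine List.sum_eq_zero fun z hz => ?_
  obtain ⟨b, hb, rfl⟩ := List.mem_map.1 hz
  exact if_neg fun (e : b.1 = r.val) => hn (List.mem_map.2 ⟨b, hb, e⟩)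

/-- The coefficient function of an element, extended to the natural numbers. -/
noncomputable def cf (g : GL D.Idx F) (r : ℕ) : F :=
  if h : r < D.nroots then X.S.coef ⟨r, h⟩ g else 0

theorem cf_val (g : GL D.Idx F) (r : Fin D.nroots) : X.cf g r.val = X.S.coef r g := dif_pos r.isLt

theorem orbW_eq_cf {m : ℤ} (hm : 1 ≤ m) {g : GL D.Idx F} (hg : g ∈ X.S.Uh T F m) (hfix : X.sig g = g) :
    ∀ (c : List ℕ) (h : ℕ), kcyc X.rho h c = true → (∀ r ∈ c, r < D.nroots ∧ hgt D T r ≤ m) →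
      X.orbW c (X.cf g (c.headD 0)) = c.map (fun r => (r, X.cf g r)) ∧
        (c ≠ [] → X.nxt c (X.cf g (c.headD 0)) = X.cf g h) := by
  have step : ∀ r < D.nroots, hgt D T r ≤ m → X.cf g (X.rho r) = X.eps r * X.f (X.cf g r) := by
    intro r hr hle
    have := (X.coef_sig hm hg).2 ⟨r, hr⟩ ⟨X.rho r, X.rho_lt hr⟩ rfl hle
    rw [hfix] at this
    simpa [cf, hr, X.rho_lt hr] using this
  intro c
  induction c with
  | nil => intro h _ _; simp [orbW]
  | cons r c ih =>
    intro h hc hlt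
    have h0 := hlt r List.mem_cons_self
    have hs := step r h0.1 h0.2
    simp only [kcyc, Bool.and_eq_true] at hc
    cases c with
    | nil =>
      have e : X.rho r = h := Nat.eq_of_beq_eq_true (by simpa using hc.1)
      simp [orbW, nxt, ← hs, e]
    | cons r' c =>
      have e : X.rho r = r' := Nat.eq_of_beq_eq_true (by simpa using hc.1)
      obtain ⟨i1, i2⟩ := ih h hc.2 fun s hs => hlt s (List.mem_cons_of_mem _ hs)
      simp only [List.headD_cons] at i1 i2 ⊢
      refine ⟨?_, fun _ => ?_⟩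
      · rw [orbW, ← hs, e, i1]; rfl
      · rw [nxt, ← hs, e]; exact i2 (List.cons_ne_nil _ _)

end Tw

end Cfsg.Lib.Chev
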