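import Cfsg.Agent.Chev.Tw.Inst
import Cfsg.Agent.Coprime.SchurZassenhaus

/-! Subgroups of a twisted group used for its automorphisms. -/

set_option autoImplicit false

open Cfsg.Lie

namespace Cfsg.Lib.Chev

variable {D D' : ChevalleyDatum} {C C' : Cert} {W : TwDat} {T : List (List ℤ)} {F : Type*} [Field F]

namespace Struct

theorem wpL_app (S : Struct D C) (L L' : List (Fin D.rank)) : S.wpL (L ++ L') = S.wpL L * S.wpL L' := by
  simp [wpL]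

theorem wpL_rev (S : Struct D C) : ∀ L : List (Fin D.rank), S.wpL L.reverse = (S.wpL L)⁻¹
  | [] => by simp [wpL]
  | i :: L => by
    rw [List.reverse_cons, S.wpL_app, wpL_rev S L, show S.wpL (i :: L) = S.wp i * S.wpL L by simp [wpL],
      show S.wpL [i] = S.wp i by simp [wpL], mul_inv_rev, inv_eq_of_mul_eq_one_right (S.wp_mul_self i)]

/-- A word keeping the fundamental roots positive is trivial. -/
theorem wpL_eq_one_of_pos (S : Struct D C) (F : Type*) [Field F] : ∀ (m : ℕ) (L : List (Fin D.rank)), L.length = m →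
    (∀ i, D.nroots / 2 ≤ (S.wpL L (S.sp i)).val) → S.wpL L = 1 := by
  intro m
  induction m using Nat.strong_induction_on with
  | _ m ih =>
    intro L hm hpos
    rcases eq_or_ne L [] with rfl | hne
    · simp [wpL]
    obtain ⟨M, i, rfl⟩ : ∃ M i, L = M ++ [i] := ⟨L.dropLast, L.getLast hne, (List.dropLast_append_getLast hne).symm⟩
    have hw : S.wpL (M ++ [i]) = S.wpL M * S.wp i := by rw [S.wpL_app]; simp [wpL]
    by_cases hneg : (S.wpL M (S.sp i)).val < D.nroots / 2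
    · obtain ⟨M', h', hh', hlen, e⟩ := S.exchange (F := F) i M hneg
      have h1 := S.act_mul (S.act_diag hh') (S.act_nL (F := F) M')
      have h2 := S.act_mul (S.act_nL (F := F) M) (S.act_nG i)
      rw [e] at h2
      have h3 := S.act_unique h1 h2
      rw [one_mul, ← hw] at h3
      rw [← h3] at hpos ⊢
      exact ih M'.length (by simp at hm; omega) M' rfl hpos
    · exfalso
      have h := hpos i
      rw [hw, Equiv.Perm.mul_apply] at h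
      have hlt : D.neg (S.sp i).val < D.nroots := by
        rw [← S.ok.neg_eq (S.sp i).isLt]; exact S.ok.neg_lt (S.sp i).isLt
      have e1 : S.wp i (S.sp i) = ⟨D.neg (S.sp i).val, hlt⟩ := Fin.ext (by
        rw [wp_val]
        show C.w i.val (C.sr i.val) = D.neg (C.sr i.val)
        rw [(S.ok.refl_simple i.isLt).1, S.ok.neg_eq (S.ok.sr_lt i.isLt)])
      rw [e1, S.wp_neg M (S.sp i) hlt] at h
      have := S.neg_lt_half (S.wpL M (S.sp i)).isLt (Nat.le_of_not_lt hneg)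
      omega

theorem eq_of_Neg_iff (S : Struct D C) (F : Type*) [Field F] {L L' : List (Fin D.rank)}
    (h : ∀ r : Fin D.nroots, D.nroots / 2 ≤ r.val → (Neg D (S.wpL L) r ↔ Neg D (S.wpL L') r)) :
    S.wpL L = S.wpL L' := by
  have h1 : S.wpL (L' ++ L.reverse) = 1 := by
    refine S.wpL_eq_one_of_pos F _ _ rfl fun i => ?_
    rw [S.wpL_app, S.wpL_rev, Equiv.Perm.mul_apply]
    obtain ⟨r, hr⟩ := (S.wpL L).surjective (S.sp i)
    have hinv : (S.wpL L)⁻¹ (S.sp i) = r := by rw [← hr]; simp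
    rw [hinv]
    have hs := S.sr_pos i.isLt
    have hpos : D.nroots / 2 ≤ (S.wpL L r).val := by rw [hr]; exact hs
    by_cases hrp : D.nroots / 2 ≤ r.val
    · exact Nat.le_of_not_lt fun hc => absurd ((h r hrp).2 hc) (Nat.not_lt.2 hpos)
    · have hlt : D.neg r.val < D.nroots := by
        rw [← S.ok.neg_eq r.isLt]; exact S.ok.neg_lt r.isLt
      have hn1 : Neg D (S.wpL L) ⟨D.neg r.val, hlt⟩ := by
        show (S.wpL L _).val < _
        rw [S.wp_neg L r hlt]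
        exact S.neg_lt_half (Fin.isLt _) hpos
      have hn2 := (h _ (S.neg_pos (Nat.lt_of_not_le hrp)).1).1 hn1
      by_contra hc
      have h2 : (S.wpL L' ⟨D.neg r.val, hlt⟩).val < D.nroots / 2 := hn2
      rw [S.wp_neg L' r hlt] at h2
      have := (S.neg_pos (r := (S.wpL L' r).val) (Nat.lt_of_not_le hc)).1
      omega
  rw [S.wpL_app, S.wpL_rev, mul_inv_eq_one] at h1
  exact h1.symm

end Struct

namespace Tw

variable (X : Tw D D' C C' W T F)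

/-- The radical. -/
noncomputable def Us : Subgroup ↥X.G1 := (D.posUnipotent F).subgroupOf X.G1

/-- The Borel subgroup. -/
noncomputable def Bs : Subgroup ↥X.G1 := X.B1.subgroupOf X.G1

/-- The torus. -/
noncomputable def Ts : Subgroup ↥X.G1 := X.T1.subgroupOf X.G1

/-- The representative of a word of orbits. -/
noncomputable def ns (K : List (Fin W.nO)) : ↥X.G1 := ⟨X.nW K, X.N1_le_G1 (X.nW_mem_N1 K)⟩

/-- The positive roots a word of orbits makes negative. -/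
noncomputable def Ug (K : List (Fin W.nO)) : Subgroup ↥X.G1 :=
  (X.S.UPsi F (Struct.Neg D (X.S.wpL (X.flatW K)))).subgroupOf X.G1

theorem act_ns (K : List (Fin W.nO)) : Act X.S.ok (X.ns K).1 (X.S.wpL (X.flatW K)) := X.S.act_nL _

theorem Us_le_Bs : X.Us ≤ X.Bs := fun g hg => X.U1_mem hg g.2

theorem Ts_le_Bs : X.Ts ≤ X.Bs := fun _ hg => Subgroup.mem_sup_right hg

theorem Us_Ts {g : ↥X.G1} (h1 : g ∈ X.Us) (h2 : g ∈ X.Ts) : g = 1 :=
  Subtype.ext (Subgroup.mem_bot.1 (X.S.U_inf_H.le (Subgroup.mem_inf.2 ⟨h1, X.T1_le_diag h2⟩)))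

theorem Bs_cases {g : ↥X.G1} (hg : g ∈ X.Bs) : ∃ u ∈ X.Us, ∃ t ∈ X.Ts, g = u * t := by
  obtain ⟨u, hu, t, ht, e⟩ := X.B1_decomp hg
  exact ⟨⟨u, hu.2⟩, hu.1, ⟨t, X.T1_le_G1 ht⟩, ht, Subtype.ext e⟩

theorem Bs_uniq {u u' t t' : ↥X.G1} (hu : u ∈ X.Us) (hu' : u' ∈ X.Us) (ht : t ∈ X.Ts) (ht' : t' ∈ X.Ts)
    (e : u * t = u' * t') : u = u' ∧ t = t' := by
  have h : t * t'⁻¹ ∈ X.Us := by
    rw [show t * t'⁻¹ = u⁻¹ * (u * t) * t'⁻¹ by group, e, show u⁻¹ * (u' * t') * t'⁻¹ = u⁻¹ * u' by group]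
    exact mul_mem (inv_mem hu) hu'
  obtain rfl := mul_inv_eq_one.1 (X.Us_Ts h (mul_mem ht (inv_mem ht')))
  exact ⟨mul_right_cancel e, rfl⟩

theorem conj_Us {b u : ↥X.G1} (hb : b ∈ X.Bs) (hu : u ∈ X.Us) : b * u * b⁻¹ ∈ X.Us := by
  obtain ⟨v, hv, t, ht, rfl⟩ := X.Bs_cases hb
  rw [show v * t * u * (v * t)⁻¹ = v * (t * u * t⁻¹) * v⁻¹ by group]
  exact mul_mem (mul_mem hv ((Subgroup.mem_normalizer_iff.1 (X.S.diag_normalises_U (X.T1_le_diag ht)) _).1 hu))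
    (inv_mem hv)

theorem Ug_le_Us (K : List (Fin W.nO)) : X.Ug K ≤ X.Us := fun _ hg => X.S.UPsi_le _ hg

theorem conj_Ug (K : List (Fin W.nO)) {t g : ↥X.G1} (ht : t ∈ X.Ts) (hg : g ∈ X.Ug K) :
    t * g * t⁻¹ ∈ X.Ug K := by
  have hle : X.S.UPsi F (Struct.Neg D (X.S.wpL (X.flatW K))) ≤
      (X.S.UPsi F (Struct.Neg D (X.S.wpL (X.flatW K)))).comap (MulAut.conj t.1).toMonoidHom := by
    refine (Subgroup.closure_le _).2 ?_
    rintro x ⟨r, s, h1, h2, rfl⟩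
    obtain ⟨-, c, -, e⟩ := X.S.act_diag (X.T1_le_diag ht) r
    show t.1 * X.S.ok.xG r.val s * t.1⁻¹ ∈ X.S.UPsi F _
    rw [show t.1 * X.S.ok.xG r.val s * t.1⁻¹ = _ from (e s).1]
    exact Subgroup.subset_closure ⟨r, _, h1, h2, rfl⟩
  exact hle hg

theorem ns_conj_Ts (K : List (Fin W.nO)) {t : ↥X.G1} (ht : t ∈ X.Ts) :
    X.ns K * t * (X.ns K)⁻¹ ∈ X.Ts ∧ (X.ns K)⁻¹ * t * X.ns K ∈ X.Ts := by
  refine ⟨(Subgroup.mem_normalizer_iff.1 (X.N1_normalizes (X.nW_mem_N1 K)) _).1 ht, ?_⟩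
  have := (Subgroup.mem_normalizer_iff.1 (X.N1_normalizes (inv_mem (X.nW_mem_N1 K))) _).1 ht
  rwa [inv_inv] at this

theorem ns_append (K K' : List (Fin W.nO)) : X.ns (K ++ K') = X.ns K * X.ns K' :=
  Subtype.ext (show X.nW (K ++ K') = X.nW K * X.nW K' by
    rw [X.nW_eq_prod, X.nW_eq_prod, X.nW_eq_prod, List.map_append, List.prod_append])

theorem ns_eq_of_perm {M : CoxeterMatrix (Fin W.nO)} (hM : X.RelOK M) {K K' : List (Fin W.nO)}
    (h : X.S.wpL (X.flatW K) = X.S.wpL (X.flatW K')) : ∃ t ∈ X.Ts, X.ns K = t * X.ns K' := by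
  refine ⟨X.ns K * (X.ns K')⁻¹, ?_, (inv_mul_cancel_right _ _).symm⟩
  have hmem : X.nW K * (X.nW K')⁻¹ ∈ X.N1 := mul_mem (X.nW_mem_N1 K) (inv_mem (X.nW_mem_N1 K'))
  obtain ⟨L, -, -, -, hL, h1⟩ := X.act_N1 hM hmem
  refine h1 ?_
  have h2 := X.S.act_mul hL (g' := X.nW K') (X.S.act_nL _)
  rw [inv_mul_cancel_right] at h2
  have h3 := X.S.act_unique h2 (X.S.act_nL (F := F) (X.flatW K))
  rw [h] at h3
  exact mul_eq_right.1 h3

theorem cases (hM : ∃ M : CoxeterMatrix (Fin W.nO), X.RelOK M) (g : ↥X.G1) :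
    ∃ b ∈ X.Bs, ∃ K, ∃ u ∈ X.Ug K, g = b * X.ns K * u := by
  obtain ⟨M, hM⟩ := hM
  obtain ⟨b, hb, n, hn, K, hact, u, hu, e⟩ := X.normal_form1 hM g.2
  obtain ⟨K', t, ht, en, hact', -⟩ := X.act_N1 hM hn
  have hK : X.S.wpL (X.flatW K') = X.S.wpL (X.flatW K) := X.S.act_unique hact' hact
  have huG : u ∈ X.G1 := X.U_fix_le X.cls_mem_G1 (Subgroup.mem_inf.2 ⟨X.S.UPsi_le _ hu.1, hu.2⟩)
  refine ⟨⟨b * t, mul_mem (X.B1_le_G1 hb) (X.T1_le_G1 ht)⟩, mul_mem hb (Subgroup.mem_sup_right ht), K',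
    ⟨u, huG⟩, ?_, Subtype.ext ?_⟩
  · show u ∈ X.S.UPsi F _
    rw [hK]; exact hu.1
  · show g.1 = b * t * X.nW K' * u
    rw [e, en]; group

theorem uniq {K : List (Fin W.nO)} {b b' u u' : ↥X.G1} (hb : b ∈ X.Bs) (hb' : b' ∈ X.Bs) (hu : u ∈ X.Ug K)
    (hu' : u' ∈ X.Ug K) (e : b * X.ns K * u = b' * X.ns K * u') : b = b' ∧ u = u' := by
  obtain ⟨h1, h2⟩ := X.S.normal_form_unique X.hN (X.B1_le_borel hb) (X.B1_le_borel hb') (X.act_ns K) hu hu'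
    (congrArg Subtype.val e)
  exact ⟨Subtype.ext h1, Subtype.ext h2⟩

/-- A word of orbits exchanging the positive and the negative roots. -/
def Opp (K : List (Fin W.nO)) : Prop :=
  ∀ s : Fin D.nroots, (X.S.wpL (X.flatW K) s).val < D.nroots / 2 ↔ D.nroots / 2 ≤ s.val

theorem opp_of_ok {K : List ℕ} (hK : W.okOpp1 D.nroots C K = true) : ∃ K0, X.Opp K0 := by
  simp only [TwDat.okOpp1, Bool.and_eq_true, kall_iff, Nat.blt, Nat.ble_eq] at hK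
  obtain ⟨hKlt, hopp⟩ := hK
  obtain ⟨K', rfl⟩ : ∃ K' : List (Fin W.nO), K'.map Fin.val = K :=
    ⟨K.pmap (fun b hb => (⟨b, hb⟩ : Fin W.nO)) hKlt, by simp [List.map_pmap]⟩
  refine ⟨K', fun s => ?_⟩
  have h1 := hopp s.val (by rw [krange_eq, List.mem_range'_1]; have := s.isLt; omega)
  rw [beq_iff_eq] at h1
  rw [X.S.wpL_val, X.flatW_val]
  constructor
  · intro hh
    exact Nat.le_of_ble_eq_true (h1 ▸ Nat.ble_eq_true_of_le hh : Nat.ble (D.nroots / 2) s.val = true)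
  · intro hh
    exact Nat.le_of_ble_eq_true
      (h1.symm ▸ Nat.ble_eq_true_of_le hh : Nat.ble (C.wL (W.flat (K'.map Fin.val)) s.val + 1) (D.nroots / 2) = true)

variable {K0 : List (Fin W.nO)}

theorem neg_conj (h0 : X.Opp K0) (K : List (Fin W.nO)) {u : ↥X.G1} (hu : u ∈ X.Ug K) :
    X.ns K0 * (X.ns K * u * (X.ns K)⁻¹) * (X.ns K0)⁻¹ ∈ X.Us := by
  have hle : X.S.UPsi F (Struct.Neg D (X.S.wpL (X.flatW K))) ≤
      (D.posUnipotent F).comap (MulAut.conj ((X.ns K0).1 * (X.ns K).1)).toMonoidHom := by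
    refine (Subgroup.closure_le _).2 ?_
    rintro x ⟨r, t, -, h2, rfl⟩
    obtain ⟨-, c, -, e⟩ := X.S.act_mul (X.act_ns K0) (X.act_ns K) r
    show _ * X.S.ok.xG r.val t * _ ∈ D.posUnipotent F
    rw [(e t).1]
    refine X.S.xG_mem_U (Nat.le_of_not_lt fun hc => ?_) (Fin.isLt _) _
    exact absurd ((h0 _).1 hc) (Nat.not_le.2 h2)
  have h : (X.ns K0).1 * (X.ns K).1 * u.1 * ((X.ns K0).1 * (X.ns K).1)⁻¹ ∈ D.posUnipotent F := hle hu
  show (X.ns K0).1 * ((X.ns K).1 * u.1 * (X.ns K).1⁻¹) * (X.ns K0).1⁻¹ ∈ D.posUnipotent F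
  convert h using 1
  group

theorem Us_inf_opp (h0 : X.Opp K0) {x : ↥X.G1} (h1 : x ∈ X.Us) (h2 : X.ns K0 * x * (X.ns K0)⁻¹ ∈ X.Us) :
    x = 1 := by
  have hx : x.1 ∈ X.S.UPsi F (Struct.Neg D (X.S.wpL (X.flatW K0))) := by
    have hle : D.posUnipotent F ≤ X.S.UPsi F (Struct.Neg D (X.S.wpL (X.flatW K0))) := by
      refine (Subgroup.closure_le _).2 ?_
      rintro y ⟨r, t, hr, hy⟩
      obtain ⟨h24, hlt⟩ := X.S.isPos_iff.1 hr
      exact Subgroup.subset_closure ⟨⟨r, hlt⟩, t, h24, (h0 ⟨r, hlt⟩).2 h24, X.S.ok.eq_xG hy⟩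
    exact hle h1
  have h4 : (X.ns K0).1 * x.1 * (X.ns K0).1⁻¹ ∈ D.borelSubgroup F ⊓ D.negUnipotent F :=
    Subgroup.mem_inf.2 ⟨X.S.B_le_of h2, X.S.conj_Neg (X.act_ns K0) hx⟩
  rw [X.S.B_inf_V X.hN, Subgroup.mem_bot, mul_inv_eq_one, mul_eq_left] at h4
  exact Subtype.ext h4

theorem split (K : List (Fin W.nO)) {u : ↥X.G1} (hu : u ∈ X.Us) :
    ∃ a ∈ X.Us, ∃ b ∈ X.Ug K, u = a * b ∧ X.ns K * a * (X.ns K)⁻¹ ∈ X.Us := by
  obtain ⟨a, ha, b, hb, e⟩ := X.fix_split (n := (X.ns K).1) K (X.act_ns K)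
    (Subgroup.mem_inf.2 ⟨hu, X.G1_le_Fx u.2⟩)
  have haG : a ∈ X.G1 := X.U_fix_le X.cls_mem_G1 (Subgroup.mem_inf.2 ⟨X.S.UPsi_le _ ha.1, ha.2⟩)
  have hbG : b ∈ X.G1 := X.U_fix_le X.cls_mem_G1 (Subgroup.mem_inf.2 ⟨X.S.UPsi_le _ hb.1, hb.2⟩)
  exact ⟨⟨a, haG⟩, X.S.UPsi_le _ ha.1, ⟨b, hbG⟩, hb.1, Subtype.ext e, X.S.conj_Pos (X.act_ns K) ha.1⟩

theorem mem_Ug_iff (h0 : X.Opp K0) (K : List (Fin W.nO)) {u : ↥X.G1} :
    u ∈ X.Ug K ↔ u ∈ X.Us ∧ X.ns K0 * (X.ns K * u * (X.ns K)⁻¹) * (X.ns K0)⁻¹ ∈ X.Us := by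
  refine ⟨fun h => ⟨X.Ug_le_Us K h, X.neg_conj h0 K h⟩, fun ⟨h1, h2⟩ => ?_⟩
  obtain ⟨a, -, b, hb, rfl, hc⟩ := X.split K h1
  have h5 : X.ns K * a * (X.ns K)⁻¹ = 1 := by
    refine X.Us_inf_opp h0 hc ?_
    rw [show X.ns K0 * (X.ns K * a * (X.ns K)⁻¹) * (X.ns K0)⁻¹ =
      X.ns K0 * (X.ns K * (a * b) * (X.ns K)⁻¹) * (X.ns K0)⁻¹ *
        (X.ns K0 * (X.ns K * b * (X.ns K)⁻¹) * (X.ns K0)⁻¹)⁻¹ by group]
    exact mul_mem h2 (inv_mem (X.neg_conj h0 K hb))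
  rw [mul_inv_eq_one, mul_eq_left] at h5
  rwa [h5, one_mul]

theorem card_Ug (K : List (Fin W.nO)) :
    Nat.card ↥(X.Ug K) = X.q ^ Struct.Nw D (X.S.wpL (X.flatW K)) := by
  rw [← X.card_Vw (n := (X.ns K).1) K (X.act_ns K)]
  exact Nat.card_congr
    { toFun := fun g => ⟨g.1.1, g.2, X.G1_le_Fx g.1.2⟩
      invFun := fun g => ⟨⟨g.1, X.U_fix_le X.cls_mem_G1 (Subgroup.mem_inf.2 ⟨X.S.UPsi_le _ g.2.1, g.2.2⟩)⟩, g.2.1⟩
      left_inv := fun _ => rfl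
      right_inv := fun _ => rfl }

/-- Inclusions between these subgroups are inclusions between the sets of roots. -/
theorem Neg_of_le {K K' : List (Fin W.nO)} (hle : X.Ug K ≤ X.Ug K') {r : Fin D.nroots}
    (hr : D.nroots / 2 ≤ r.val) (hn : Struct.Neg D (X.S.wpL (X.flatW K)) r) :
    Struct.Neg D (X.S.wpL (X.flatW K')) r := by
  classical
  haveI := X.finite
  by_contra hc
  have hh1 : 1 ≤ hgt D T r.val := (X.S.hgt_pos_iff X.hT r.isLt).2 hr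
  obtain ⟨k, hk⟩ : ∃ k : ℕ, hgt D T r.val = (k : ℤ) + 1 := ⟨(hgt D T r.val - 1).toNat, by omega⟩
  obtain ⟨c, hc1, hrc⟩ := X.lev_cover r.isLt hk
  obtain ⟨h1, -, h3, -, -⟩ := X.lev_spec hc1
  obtain ⟨t, ht, htne⟩ : ∃ t ∈ X.Allowed c, t ≠ 0 := by
    by_contra hcon
    simp only [not_exists, not_and, not_not] at hcon
    have h := X.card_allowed hc1
    haveI : Subsingleton ↥(X.Allowed c) := ⟨fun a b => Subtype.ext ((hcon _ a.2).trans (hcon _ b.2).symm)⟩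
    have h2 : Nat.card ↥(X.Allowed c) ≤ 1 := Finite.card_le_one_iff_subsingleton.2 inferInstance
    have hl : 0 < c.length := List.length_pos_iff.2 (X.lev_ne_nil hc1)
    have h4 := Nat.one_lt_pow hl.ne' X.hq
    omega
  let Q : ℕ → Prop := fun n => ∀ h : n < D.nroots,
    Struct.Neg D (X.S.wpL (X.flatW K)) ⟨n, h⟩ ∧ ¬ Struct.Neg D (X.S.wpL (X.flatW K')) ⟨n, h⟩
  have hall : ∀ s ∈ c, Q s := by
    have key := kcyc_iff_head (Q := Q) c (c.headD 0) h3 fun a ha => by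
      have hl := (h1 a ha).1
      constructor
      · intro h hl'
        obtain ⟨x, y⟩ := h (X.rho_lt hl)
        exact ⟨(X.Neg_inv K ⟨a, hl⟩ ⟨_, X.rho_lt hl⟩ rfl).1 x, fun z => y ((X.Neg_inv K' ⟨a, hl⟩ ⟨_, X.rho_lt hl⟩ rfl).2 z)⟩
      · intro h hl'
        obtain ⟨x, y⟩ := h hl
        exact ⟨(X.Neg_inv K ⟨a, hl⟩ ⟨_, X.rho_lt hl⟩ rfl).2 x, fun z => y ((X.Neg_inv K' ⟨a, hl⟩ ⟨_, X.rho_lt hl⟩ rfl).1 z)⟩
    have hQr : Q r.val := fun _ => ⟨hn, hc⟩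
    exact fun s hs => (key s hs).2 ((key r.val hrc).1 hQr)
  have hyP : ∀ P : Fin D.nroots → Prop, (∀ s ∈ c, ∀ h : s < D.nroots, P ⟨s, h⟩) → X.y c t ∈ X.S.UPsi F P := by
    intro P hP
    refine list_prod_mem fun g hg => ?_
    obtain ⟨p, hp, rfl⟩ := List.mem_map.1 hg
    have hp1 := X.mem_orbW hp
    obtain ⟨hl, hh⟩ := h1 _ hp1
    exact Subgroup.subset_closure ⟨⟨p.1, hl⟩, p.2, (X.S.hgt_pos_iff X.hT hl).1 (by omega), hP _ hp1 hl, rfl⟩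
  have hy1 := hyP _ fun s hs h => (hall s hs h).1
  have hyG : X.y c t ∈ X.G1 := X.cls_mem_G1 k c hc1 t ht
  have hy2 : X.y c t ∈ X.S.UPsi F (Struct.Neg D (X.S.wpL (X.flatW K'))) := hle (x := ⟨_, hyG⟩) hy1
  have hy3 := X.S.Neg_inter X.hN (X.act_ns K') (hyP _ fun s hs h => (hall s hs h).2) hy2
  have h5 := (X.cf_y hc1 hc1 t).1 rfl
  rw [hy3, X.cf_one_lev hc1] at h5
  exact htne h5.symm

theorem ns_eq_of_Ug {M : CoxeterMatrix (Fin W.nO)} (hM : X.RelOK M) {K K' : List (Fin W.nO)}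
    (h : X.Ug K = X.Ug K') : ∃ t ∈ X.Ts, X.ns K = t * X.ns K' :=
  X.ns_eq_of_perm hM (X.S.eq_of_Neg_iff F fun _ hr => ⟨X.Neg_of_le h.le hr, X.Neg_of_le h.ge hr⟩)

/-- The fundamental root subgroup of an orbit. -/
noncomputable def Ua (a : Fin W.nO) : Subgroup ↥X.G1 := X.Ug [a]

theorem Neg_single (a : Fin W.nO) {r : Fin D.nroots} (hr : D.nroots / 2 ≤ r.val) :
    Struct.Neg D (X.S.wpL (X.flatW [a])) r ↔ r.val ∈ X.orP a := by
  have hw : (X.S.wpL (X.flatW [a]) r).val = C.wL (W.orbAt a) r.val := by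
    rw [X.S.wpL_val, X.flatW_val, TwDat.flat, kflat_eq]
    simp
  show (_ : ℕ) < _ ↔ _
  rw [hw, orP, kmap_eq]
  constructor
  · intro h
    rcases ((X.orb_spec a.isLt).2.2.2.2.2 _ r.isLt).2 with h' | ⟨j, hj, e⟩ | h'
    · omega
    · exact List.mem_map.2 ⟨j, hj, e⟩
    · omega
  · intro h
    obtain ⟨j, hj, e⟩ := List.mem_map.1 h
    obtain ⟨e1, -, -, -⟩ := (X.orb_spec a.isLt).2.2.2.2.1 j hj
    have hl := (X.orb_spec a.isLt).1 j hj
    rw [← e, e1, X.S.ok.neg_eq (X.S.ok.sr_lt hl)]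
    exact X.S.neg_lt_half (X.S.ok.sr_lt hl) (X.S.sr_pos hl)

theorem Ua_inj {a b : Fin W.nO} (h : X.Ua a ≤ X.Ua b) : a = b := by
  by_contra hne
  have hi := X.hd_mem a.isLt
  have h1 : Struct.Neg D (X.S.wpL (X.flatW [a])) (X.S.sp (X.hd a.isLt)) :=
    (X.Neg_single a (X.S.sr_pos (X.hd a.isLt).isLt)).2 (by
      rw [orP, kmap_eq]; exact List.mem_map.2 ⟨_, (X.mem_orbF a.isLt).1 hi, rfl⟩)
  have h2 := (X.Neg_single b (X.S.sr_pos (X.hd a.isLt).isLt)).1 (X.Neg_of_le h (X.S.sr_pos (X.hd a.isLt).isLt) h1)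
  rw [orP, kmap_eq, List.mem_map] at h2
  obtain ⟨j, hj, e⟩ := h2
  have hij : (⟨j, (X.orb_spec b.isLt).1 j hj⟩ : Fin D.rank) = X.hd a.isLt := by
    by_contra hne'; exact X.S.simple_ne X.hN _ _ hne' e
  have hja : j ∈ W.orbAt a := by
    rw [show j = (X.hd a.isLt).val from congrArg Fin.val hij]; exact (X.mem_orbF a.isLt).1 hi
  have hp := (List.nodup_flatMap.1 X.orb_flat.1).2
  simp only [TwDat.orbAt, List.getD_eq_getElem _ _ a.isLt, List.getD_eq_getElem _ _ b.isLt] at hja hj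
  rcases Nat.lt_or_gt_of_ne (fun e => hne (Fin.ext e)) with hl | hl
  · exact List.pairwise_iff_getElem.1 hp _ _ a.isLt b.isLt hl hja hj
  · exact List.pairwise_iff_getElem.1 hp _ _ b.isLt a.isLt hl hj hja

theorem exists_Ua_le {K : List (Fin W.nO)} (hne : X.S.wpL (X.flatW K) ≠ 1) :
    ∃ a, X.Ua a ≤ X.Ug K := by
  obtain ⟨i, hi⟩ : ∃ i, ¬ D.nroots / 2 ≤ (X.S.wpL (X.flatW K) (X.S.sp i)).val := by
    by_contra hc
    simp only [not_exists, not_not] at hc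
    exact hne (X.S.wpL_eq_one_of_pos F _ _ rfl hc)
  obtain ⟨a, ha, hia⟩ := X.orb_flat.2 i i.isLt
  refine ⟨⟨a, ha⟩, fun g hg => ?_⟩
  show g.1 ∈ X.S.UPsi F _
  refine (Subgroup.closure_le _).2 ?_ (show g.1 ∈ X.S.UPsi F _ from hg)
  rintro x ⟨r, t, h1, h2, rfl⟩
  refine Subgroup.subset_closure ⟨r, t, h1, ?_, rfl⟩
  have h3 := (X.Neg_single ⟨a, ha⟩ h1).1 h2
  rw [orP, kmap_eq, List.mem_map] at h3
  obtain ⟨j, hj, e⟩ := h3
  have hjl := (X.orb_spec ha).1 j hj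
  have hrj : r = X.S.sp ⟨j, hjl⟩ := Fin.ext e.symm
  show (X.S.wpL (X.flatW K) r).val < _
  rw [hrj]
  refine Nat.lt_of_not_le fun hh => hi ?_
  have k1 := X.orb_pos_iff ha K
  exact (k1 i ((X.mem_orbF ha).2 hia)).2 ((k1 ⟨j, hjl⟩ ((X.mem_orbF ha).2 hj)).1 hh)

theorem ns_one {M : CoxeterMatrix (Fin W.nO)} (hM : X.RelOK M) {K : List (Fin W.nO)}
    (h : X.S.wpL (X.flatW K) = 1) : X.ns K ∈ X.Ts := by
  obtain ⟨φ, -, -, -, hT⟩ := X.weyl hM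
  exact hT K h

/-- The normalizer of the radical is the Borel subgroup. -/
theorem mem_Bs_of_normalizes {M : CoxeterMatrix (Fin W.nO)} (hM : X.RelOK M) (h0 : X.Opp K0) {c : ↥X.G1}
    (h : ∀ u ∈ X.Us, c * u * c⁻¹ ∈ X.Us) : c ∈ X.Bs := by
  haveI := X.finite
  obtain ⟨b, hb, K, u, hu, rfl⟩ := X.cases ⟨M, hM⟩ c
  have hall : ∀ w ∈ X.Us, X.ns K * w * (X.ns K)⁻¹ ∈ X.Us := by
    intro w hw
    have h1 := h (u⁻¹ * w * u) (mul_mem (mul_mem (inv_mem (X.Ug_le_Us K hu)) hw) (X.Ug_le_Us K hu))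
    have h2 := X.conj_Us (inv_mem hb) h1
    convert h2 using 1
    group
  have h1 : X.S.wpL (X.flatW K) = 1 := by
    by_contra hne
    obtain ⟨a, ha⟩ := X.exists_Ua_le hne
    have hbot : X.Ug K ≤ ⊥ := fun w hw => by
      have h5 := X.Us_inf_opp h0 (hall w (X.Ug_le_Us K hw)) ((X.mem_Ug_iff h0 K).1 hw).2
      rw [mul_inv_eq_one, mul_eq_left] at h5
      exact Subgroup.mem_bot.2 h5
    have hb' : Nat.card ↥(X.Ua a) ≤ 1 :=
      (Subgroup.card_le_of_le (ha.trans hbot)).trans Subgroup.card_bot.le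
    rw [Ua, X.card_Ug] at hb'
    have hN : Struct.Nw D (X.S.wpL (X.flatW [a])) ≠ 0 := by
      classical
      refine fun hz => ?_
      have hz' := Finset.card_eq_zero.1 hz
      refine Finset.eq_empty_iff_forall_notMem.1 hz' (X.S.sp (X.hd a.isLt)) (Finset.mem_filter.2 ⟨Finset.mem_univ _,
        X.S.sr_pos (X.hd a.isLt).isLt, (X.Neg_single a (X.S.sr_pos (X.hd a.isLt).isLt)).2 ?_⟩)
      rw [orP, kmap_eq]
      exact List.mem_map.2 ⟨_, (X.mem_orbF a.isLt).1 (X.hd_mem a.isLt), rfl⟩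
    have := Nat.one_lt_pow hN X.hq
    omega
  exact mul_mem (mul_mem hb (X.Ts_le_Bs (X.ns_one hM h1))) (X.Us_le_Bs (X.Ug_le_Us K hu))

theorem card_Us : Nat.card ↥X.Us = X.q ^ (W.lv.map fun L => (L.map List.length).sum).sum := by
  rw [← X.card_U_fix, ← X.U_inf_G1]
  exact Nat.card_congr
    { toFun := fun g => ⟨g.1.1, g.2, g.1.2⟩
      invFun := fun g => ⟨⟨g.1, g.2.2⟩, g.2.1⟩
      left_inv := fun _ => rfl
      right_inv := fun _ => rfl }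

theorem card_Ts : Nat.card ↥X.Ts = Nat.card ↥X.T1 :=
  Nat.card_congr (Subgroup.subgroupOfEquivOfLe X.T1_le_G1).toEquiv

end Tw

end Cfsg.Lib.Chev
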