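import Cfsg.Agent.Chev.Tw.AutRoot
import Cfsg.Agent.Known.ChevAut.OutStruct

/-! The automorphisms of the triality groups. -/

set_option autoImplicit false
set_option linter.unusedSectionVars false

open Cfsg.Lie

namespace Cfsg.Lib.Chev.D4

/-- The first orbit. -/
def o0 : Fin D4.tw.nO := ⟨0, by decide +kernel⟩

/-- The second orbit. -/
def o1 : Fin D4.tw.nO := ⟨1, by decide +kernel⟩

theorem orb_cases (a : Fin D4.tw.nO) : a = o0 ∨ a = o1 := by
  obtain ⟨v, hv⟩ := a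
  have : D4.tw.nO = 2 := by decide +kernel
  rw [this] at hv
  interval_cases v
  · exact Or.inl rfl
  · exact Or.inr rfl

/-- A word for the longest element. -/
def wd : List (Fin D4.tw.nO) := [o0, o1, o0, o1, o0, o1]

theorem wd_opp : ∀ r < chevD4.nroots,
    (D4.cert.wL (D4.tw.flat [0, 1, 0, 1, 0, 1]) r < chevD4.nroots / 2 ↔ chevD4.nroots / 2 ≤ r) := by decide +kernel

theorem wd_cen : ∀ r < chevD4.nroots, ∀ a < 2,
    (chevD4.neg (D4.cert.wL (D4.tw.flat [0, 1, 0, 1, 0, 1]) r) ∈ kmap D4.cert.sr (D4.tw.orbAt a) ↔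
      r ∈ kmap D4.cert.sr (D4.tw.orbAt a)) := by decide +kernel

theorem orb_len : (D4.tw.orbAt 0).length = 3 ∧ (D4.tw.orbAt 1).length = 1 := by decide +kernel

theorem cartan_vals : D4.cert.sr ((D4.tw.orbAt 0).headD 0) = 18 ∧ D4.cert.sr ((D4.tw.orbAt 1).headD 0) = 14 ∧
    chevD4.simple 1 = 14 ∧
    chevD4.cartan (0 : Fin 4) 18 = 2 ∧ chevD4.cartan (1 : Fin 4) 18 = -1 ∧ chevD4.cartan (2 : Fin 4) 18 = 0 ∧
    chevD4.cartan (3 : Fin 4) 18 = 0 ∧
    chevD4.cartan (0 : Fin 4) 14 = -1 ∧ chevD4.cartan (1 : Fin 4) 14 = 2 ∧ chevD4.cartan (2 : Fin 4) 14 = -1 ∧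
    chevD4.cartan (3 : Fin 4) 14 = -1 := by decide +kernel

variable {K : Type*} [Field K] [Fintype K] (X : Tw chevD4 chevG2 D4.cert G2.cert D4.tw D4.htTab K)

/-- The data for the automorphisms. -/
noncomputable def ctx : Tw.AutCtx X where
  M := CoxeterMatrix.G₂
  rel := relOK X
  K0 := wd
  opp := fun s => by
    rw [X.S.wpL_val, X.flatW_val]
    exact wd_opp s.val s.isLt
  cen := fun r a => by
    rw [X.S.wpL_val, X.flatW_val]
    exact wd_cen r.val r.isLt a.val a.isLt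

theorem allowed0 (t : K) : t ∈ X.Allowed (X.orP o0) := by
  rw [X.allowed_iff o0.isLt (Or.inl rfl), show (D4.tw.orbAt o0.val).length = D4.tw.m from orb_len.1]
  exact X.f_iter t

theorem allowed1 {t : K} : t ∈ X.Allowed (X.orP o1) ↔ t ^ X.q = t := by
  rw [X.allowed_iff o1.isLt (Or.inl rfl), show (D4.tw.orbAt o1.val).length = 1 from orb_len.2,
    Function.iterate_one, X.hfq]

theorem Nw_inj (a b : Fin D4.tw.nO)
    (h : Struct.Nw chevD4 (X.S.wpL (X.flatW [a])) = Struct.Nw chevD4 (X.S.wpL (X.flatW [b]))) : a = b := by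
  rw [X.Nw_single, X.Nw_single] at h
  have e : ∀ c : Fin D4.tw.nO, (X.orP c).length = (D4.tw.orbAt c.val).length := fun c => by
    simp [Tw.orP, kmap_eq]
  rw [e, e] at h
  rcases orb_cases a with rfl | rfl <;> rcases orb_cases b with rfl | rfl
  · rfl
  · exact absurd (orb_len.1.symm.trans (h.trans orb_len.2)) (by norm_num)
  · exact absurd (orb_len.2.symm.trans (h.trans orb_len.1)) (by norm_num)
  · rfl

theorem chi_inj {t t' : ↥X.G1} (ht : t ∈ X.Ts) (ht' : t' ∈ X.Ts) (h0 : X.chi o0 t = X.chi o0 t')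
    (h1 : X.chi o1 t = X.chi o1 t') : t = t' :=
  X.chi_inj ht ht' fun a => by rcases orb_cases a with rfl | rfl <;> assumption

theorem chi_ns {t : ↥X.G1} (ht : t ∈ X.Ts) :
    X.chi o0 (X.ns [o1] * t * (X.ns [o1])⁻¹) = X.chi o0 t * X.chi o1 t := by
  classical
  obtain ⟨c, hc, e⟩ := X.exists_tG ht
  obtain ⟨c', hc', e'⟩ := X.exists_tG (X.ns_conj_Ts [o1] ht).1
  rw [X.chi_eq hc' e', X.chi_eq hc e, X.chi_eq hc e, ← Units.val_mul]
  refine congrArg Units.val ?_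
  set c'' : Fin chevD4.rank → Kˣ := fun k => if k ∈ X.orbF o1.val then c k * X.mI c k else c k with hc''def
  have e'' : (X.ns [o1] * t * (X.ns [o1])⁻¹).1 = Ok.tG chevD4 K c'' :=
    X.ns_conj_chr (b := o1) e
  have hc''mem : c'' ∈ X.CT := by
    intro k
    have h := X.nJ_conj_T1 o1.isLt (g := Ok.tG chevD4 K c) ⟨c, hc, rfl⟩
    have hm : X.f (X.mI c k : K) = (X.mI c (X.piF k) : K) := by
      simp only [Tw.mI, Units.coe_prod, map_prod, Units.val_zpow_eq_zpow_val, map_zpow₀]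
      refine Fintype.prod_bijective X.piF X.piF_bijective _ _ fun j => ?_
      have hp := (X.pi_spec j.isLt).2.2.2.2.2 (D4.cert.sr k) (X.S.ok.sr_lt k.isLt)
      rw [(X.pi_spec k.isLt).2.1, X.S.ok.cart_eq j.isLt (X.S.ok.sr_lt k.isLt),
        X.S.ok.cart_eq (X.pi_spec j.isLt).1 (X.S.ok.sr_lt (X.pi_spec k.isLt).1), X.S.ok.sr_eq k.isLt,
        X.S.ok.sr_eq (X.pi_spec k.isLt).1] at hp
      rw [hc j]
      exact congrArg (fun z : ℤ => ((c (X.piF j) : K)) ^ (-z)) hp.symm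
    simp only [hc''def, X.pi_mem_iff o1.isLt k]
    by_cases hk : k ∈ X.orbF o1.val <;> simp [hk, hc k, hm]
  have hch : X.chr o0 c' = X.chr o0 c'' :=
    Units.ext ((X.chi_eq hc' e').symm.trans (X.chi_eq hc''mem e''))
  rw [hch]
  obtain ⟨a1, a2, a3, b0, b1, b2, b3, d0, d1, d2, d3⟩ := cartan_vals
  let u : Fin 4 → Kˣ := c
  have hmem : ∀ k : Fin chevD4.rank, k ∈ X.orbF o1.val ↔ k.val = 1 := by
    intro k
    rw [X.mem_orbF o1.isLt, show D4.tw.orbAt o1.val = [1] by decide +kernel, List.mem_singleton]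
  have hu : ∀ k : Fin chevD4.rank, c'' k = if k.val = 1 then c k * X.mI c k else c k := fun k => by
    by_cases hk : k.val = 1
    · simp only [hc''def, if_pos hk, if_pos ((hmem k).2 hk)]
    · simp only [hc''def, if_neg hk, if_neg fun h => hk ((hmem k).1 h)]
  have w0 : c'' (0 : Fin 4) = u 0 := (hu (0 : Fin 4)).trans (if_neg (by decide))
  have w1 : c'' (1 : Fin 4) = u 1 * X.mI c (1 : Fin 4) := (hu (1 : Fin 4)).trans (if_pos rfl)
  have w2 : c'' (2 : Fin 4) = u 2 := (hu (2 : Fin 4)).trans (if_neg (by decide))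
  have w3 : c'' (3 : Fin 4) = u 3 := (hu (3 : Fin 4)).trans (if_neg (by decide))
  have hchr : ∀ (a : Fin D4.tw.nO) (w : Fin chevD4.rank → Kˣ) (r : ℕ), D4.cert.sr ((D4.tw.orbAt a.val).headD 0) = r →
      X.chr a w = ∏ j : Fin 4, w j ^ chevD4.cartan (j : Fin 4) r := fun a w r hr => by
    subst hr; rfl
  rw [hchr o0 _ 18 a1, hchr o0 _ 18 a1, hchr o1 _ 14 a2, Fin.prod_univ_four, Fin.prod_univ_four, Fin.prod_univ_four,
    w0, w1, w2, w3, b0, b1, b2, b3, d0, d1, d2, d3]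
  have hmI : X.mI c (1 : Fin 4) = ∏ j : Fin 4, u j ^ (-chevD4.cartan (j : Fin 4) (chevD4.simple 1)) := rfl
  rw [hmI, a3, Fin.prod_univ_four, d0, d1, d2, d3]
  refine Additive.ofMul.injective ?_
  simp only [ofMul_mul, ofMul_zpow]
  module

theorem exists_chi (x z : Kˣ) (hz : (z : K) ^ X.q = z) :
    ∃ t ∈ X.Ts, X.chi o0 t = x ∧ X.chi o1 t = z := by
  classical
  have hq := X.hq
  let Z : Subgroup Kˣ := (powMonoidHom (X.q - 1) : Kˣ →* Kˣ).ker
  have hZ : ∀ w : Kˣ, w ∈ Z ↔ (w : K) ^ X.q = w := fun w => by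
    show w ^ (X.q - 1) = 1 ↔ _
    conv_rhs => rw [show X.q = X.q - 1 + 1 by omega, pow_succ, ← Units.val_pow_eq_pow_val, ← Units.val_mul,
      Units.val_inj, mul_eq_right]
  let Ψ : ↥X.Ts → Kˣ × ↥Z := fun t => (Units.mk0 _ (X.chi_ne_zero (a := o0) t.2),
    ⟨Units.mk0 _ (X.chi_ne_zero (a := o1) t.2), (hZ _).2 ((allowed1 X).1 (X.chi_mem t.2))⟩)
  have hinj : Function.Injective Ψ := fun t t' h => by
    simp only [Ψ, Prod.mk.injEq, Subtype.mk.injEq, Units.mk0_inj] at h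
    exact Subtype.ext (chi_inj X t.2 t'.2 h.1 h.2)
  have hT := X.card_T1 (card_ker X)
  have hprod : ∏ a : Fin D4.tw.nO, (X.q ^ (D4.tw.orbAt a).length - 1) = (X.q ^ 3 - 1) * (X.q - 1) := by
    show ∏ a : Fin 2, (X.q ^ (D4.tw.orbAt a).length - 1) = _
    rw [Fin.prod_univ_two]
    simp [TwDat.orbAt, D4.tw]
  rw [hprod, one_mul] at hT
  have hK : Nat.card Kˣ = X.q ^ 3 - 1 := by
    rw [Nat.card_units, X.hcard]; rfl
  have hZc : Nat.card ↥Z = X.q - 1 := by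
    rw [IsCyclic.card_powMonoidHom_ker, hK]
    refine Nat.gcd_eq_right ?_
    simpa using Nat.sub_dvd_pow_sub_pow X.q 1 3
  have hb := Function.Injective.bijective_of_nat_card_le hinj (by
    rw [Nat.card_prod, hK, hZc, X.card_Ts, hT])
  obtain ⟨t, ht⟩ := hb.2 (x, ⟨z, (hZ z).2 hz⟩)
  simp only [Ψ, Prod.mk.injEq, Subtype.mk.injEq] at ht
  exact ⟨t.1, t.2, congrArg Units.val ht.1, congrArg Units.val ht.2⟩

theorem exists_inner_mul_field {p n : ℕ} [Fact p.Prime] (hn : 1 ≤ n) (hq : X.q = p ^ n) (φ : MulAut ↥X.G1) :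
    ∃ (c : ↥X.G1) (σ : K ≃+* K), φ = MulAut.conj c * X.fld σ := by
  set A := ctx X with hA
  obtain ⟨c, hc⟩ := A.exists_std hn hq φ
  set ψ := MulAut.conj c * φ with hψ
  obtain ⟨hU0, -⟩ := Tw.AutCtx.Std.simple_fixed A hc hn hq (Nw_inj X) o0
  choose f0 hf0 hf using fun t => X.ya_cases ((hU0 (X.ya o0 t)).2 (X.ya_mem o0 t))
  have all0 := allowed0 X
  have finj : Function.Injective f0 := fun s t e => X.ya_inj (all0 _) (all0 _) (ψ.injective (by rw [hf, hf, e]))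
  have fadd : ∀ s t, f0 (s + t) = f0 s + f0 t := fun s t => X.ya_inj (all0 _) (all0 _) (by
    rw [← hf, ← X.ya_add (all0 _) (all0 _), map_mul, hf, hf, X.ya_add (all0 _) (all0 _)])
  have f00 : f0 0 = 0 := left_eq_add.1 (show f0 0 = f0 0 + f0 0 by rw [← fadd, add_zero])
  have f1 : f0 1 ≠ 0 := fun h => one_ne_zero (finj (h.trans f00.symm))
  have hpsiT : ∀ t ∈ X.Ts, ψ t ∈ X.Ts := fun t ht => Tw.AutCtx.Std.torus A hc ht
  have fmul : ∀ t ∈ X.Ts, ∀ s, f0 (X.chi o0 t * s) = X.chi o0 (ψ t) * f0 s := fun t ht s => by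
    refine X.ya_inj (all0 _) (all0 _) ?_
    rw [← hf, ← (X.conj_ya ht (all0 s)).2, map_mul, map_mul, map_inv, hf, (X.conj_ya (hpsiT t ht) (all0 _)).2]
  obtain ⟨pa, hpaT, hpa, -⟩ := exists_chi X (Units.mk0 (f0 1) f1)⁻¹ 1 (by simp)
  rw [Units.val_inv_eq_inv_val, Units.val_mk0] at hpa
  let g : K → K := fun t => X.chi o0 pa * f0 t
  have g1 : g 1 = 1 := by simp [g, hpa, f1]
  have gmul : ∀ x y, g (x * y) = g x * g y := by
    intro x y
    rcases eq_or_ne x 0 with rfl | hx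
    · simp [g, f00]
    · obtain ⟨t, ht, hxt, -⟩ := exists_chi X (Units.mk0 x hx) 1 (by simp)
      rw [Units.val_mk0] at hxt
      have h1 := fmul t ht y
      have h2 := fmul t ht 1
      rw [hxt] at h1 h2
      rw [mul_one] at h2
      simp only [g] at g1 ⊢
      rw [h1, h2]
      linear_combination (-X.chi o0 pa * X.chi o0 (ψ t) * f0 y) * g1
  let σ : K ≃+* K := RingEquiv.ofBijective
    ({ toFun := g, map_one' := g1, map_mul' := gmul, map_zero' := by simp [g, f00]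
       map_add' := fun x y => by simp [g, fadd, mul_add] } : K →+* K)
    (Finite.injective_iff_bijective.1 fun x y e => finj (mul_left_cancel₀ (X.chi_ne_zero hpaT) e))
  set ρ : MulAut ↥X.G1 := X.fld σ⁻¹ * (MulAut.conj pa * ψ) with hρdef
  have hρS : A.Std ρ := Tw.Std.fld_mul X A (Tw.Std.conj_mul X A hc hpaT) _
  have hρA : ∀ t, ρ (X.ya o0 t) = X.ya o0 t := fun t => by
    rw [hρdef, MulAut.mul_apply, MulAut.mul_apply, MulAut.conj_apply, hf, (X.conj_ya hpaT (all0 _)).2,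
      X.fld_ya _ (all0 _)]
    exact congrArg (X.ya o0) (σ.symm_apply_apply t)
  -- the torus
  have hρT : ∀ t ∈ X.Ts, ρ t ∈ X.Ts := fun t ht => Tw.AutCtx.Std.torus A hρS ht
  have ha : ∀ t ∈ X.Ts, X.chi o0 (ρ t) = X.chi o0 t := fun t ht => by
    have h := congrArg ρ (X.conj_ya ht (all0 1)).2
    rw [map_mul, map_mul, map_inv, hρA, hρA, (X.conj_ya (hρT t ht) (all0 1)).2, mul_one, mul_one] at h
    exact X.ya_inj (all0 _) (all0 _) h
  obtain ⟨hU1, τ, hτT, hτ⟩ := Tw.AutCtx.Std.simple_fixed A hρS hn hq (Nw_inj X) o1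
  have hT : ∀ t ∈ X.Ts, ρ t = t := by
    intro t ht
    refine chi_inj X (hρT t ht) ht (ha t ht) ?_
    have ht' := (X.ns_conj_Ts [o1] ht).1
    have h1 : ρ (X.ns [o1] * t * (X.ns [o1])⁻¹) = X.ns [o1] * ρ t * (X.ns [o1])⁻¹ := by
      rw [map_mul, map_mul, map_inv, hτ,
        show τ * X.ns [o1] * ρ t * (τ * X.ns [o1])⁻¹ = τ * (X.ns [o1] * ρ t * (X.ns [o1])⁻¹) * τ⁻¹ by group,
        X.Ts_comm hτT (X.ns_conj_Ts [o1] (hρT t ht)).1, mul_inv_cancel_right]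
    have h2 := ha _ ht'
    rw [h1, chi_ns X (hρT t ht), chi_ns X ht, ha t ht] at h2
    exact mul_left_cancel₀ (X.chi_ne_zero ht) h2
  -- the short root subgroup
  choose δ hδA hδ using fun t => X.ya_cases ((hU1 (X.ya o1 t)).2 (X.ya_mem o1 t))
  have hd0 : δ 1 ≠ 0 := fun h => one_ne_zero (α := K) (by
    refine X.ya_inj (X.allowed_one o1) (X.allowed_zero _) (ρ.injective ?_)
    rw [hδ, h, X.ya_zero, map_one])
  obtain ⟨pb, hpbT, hpb0, hpb1⟩ := exists_chi X 1 (Units.mk0 (δ 1) hd0)⁻¹ (by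
    rw [Units.val_inv_eq_inv_val, Units.val_mk0]
    exact (allowed1 X).1 (X.allowed_inv (hδA 1)))
  rw [Units.val_inv_eq_inv_val, Units.val_mk0] at hpb1
  set ω := MulAut.conj pb * ρ with hω
  have hωS : A.Std ω := Tw.Std.conj_mul X A hρS hpbT
  have hωT : ∀ t ∈ X.Ts, ω t = t := fun t ht => by
    rw [hω, MulAut.mul_apply, MulAut.conj_apply, hT t ht, X.Ts_comm hpbT ht, mul_inv_cancel_right]
  have hω1 : ω (X.ya o1 1) = X.ya o1 1 := by
    rw [hω, MulAut.mul_apply, MulAut.conj_apply, hδ, (X.conj_ya hpbT (hδA 1)).2, hpb1, inv_mul_cancel₀ hd0]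
  have hωU : ∀ a : Fin D4.tw.nO, ∀ u ∈ X.Ua a, ω u = u := by
    intro a u hu
    obtain ⟨s, hs, rfl⟩ := X.ya_cases hu
    rcases orb_cases a with rfl | rfl
    · rw [hω, MulAut.mul_apply, MulAut.conj_apply, hρA, (X.conj_ya hpbT hs).2, hpb0, Units.val_one, one_mul]
    · rcases eq_or_ne s 0 with rfl | hs0
      · rw [X.ya_zero, map_one]
      · obtain ⟨t, ht, -, hts⟩ := exists_chi X 1 (Units.mk0 s hs0) ((allowed1 X).1 hs)
        have e := (X.conj_ya ht (X.allowed_one o1)).2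
        rw [hts, Units.val_mk0, mul_one] at e
        rw [← e, map_mul, map_mul, map_inv, hωT t ht, hω1]
  have hωn : ∀ a : Fin D4.tw.nO, ω (X.ns [a]) = X.ns [a] := by
    intro a
    obtain ⟨-, τ', hτ'T, hτ'⟩ := Tw.AutCtx.Std.simple_fixed A hωS hn hq (Nw_inj X) a
    exact Tw.AutCtx.fix_ns A hωS hωT (hωU a) hτ'T hτ'
  have hfin : ω = 1 := X.eq_one_of_fix hωU hωn
  refine ⟨c⁻¹ * pa⁻¹ * X.fld σ pb⁻¹, σ, ?_⟩
  have e1 : φ = MulAut.conj (c⁻¹ * pa⁻¹) * X.fld σ * (MulAut.conj pb)⁻¹ := by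
    rw [hω, mul_eq_one_iff_eq_inv'] at hfin
    rw [← hfin, hρdef, hψ, map_inv, map_mul, map_inv, map_inv]
    group
  rw [e1, map_mul MulAut.conj _ (X.fld σ _), mul_assoc, mul_assoc]
  congr 1
  ext x
  simp

theorem card_out {p n : ℕ} [Fact p.Prime] [CharP K p] (hn : 1 ≤ n) (hq : X.q = p ^ n)
    (hK : Fintype.card K = p ^ (3 * n)) : Nat.card (Cfsg.Out ↥X.G1) = 3 * n := by
  rw [← (Cfsg.Lib.Known.ChevAut.ringAut_facts (F := K) p (3 * n) hK).2]
  refine (Nat.card_eq_of_bijective ((QuotientGroup.mk' (Cfsg.Inn ↥X.G1)).comp X.fld) ⟨?_, ?_⟩).symm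
  · rw [injective_iff_map_eq_one]
    intro σ hσ
    obtain ⟨c, hc⟩ : X.fld σ ∈ Cfsg.Inn ↥X.G1 := (QuotientGroup.eq_one_iff _).1 hσ
    exact X.fld_inner (ctx X) (a := o0) (allowed0 X) hc.symm
  · intro x
    obtain ⟨φ, rfl⟩ := QuotientGroup.mk'_surjective _ x
    obtain ⟨c, σ, rfl⟩ := exists_inner_mul_field X hn hq φ
    refine ⟨σ, ?_⟩
    rw [map_mul, show QuotientGroup.mk' (Cfsg.Inn ↥X.G1) (MulAut.conj c) = 1 from
      (QuotientGroup.eq_one_iff _).2 ⟨c, rfl⟩, one_mul]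
    rfl

end Cfsg.Lib.Chev.D4
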