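import Cfsg.Agent.Chev.Tw.AutBase
import Cfsg.Agent.Chev.Tw.Simple

/-! Automorphisms of a twisted group preserving two opposite radicals. -/

set_option autoImplicit false
set_option linter.unusedSectionVars false

open Cfsg.Lie

namespace Cfsg.Lib.Chev

variable {D D' : ChevalleyDatum} {C C' : Cert} {W : TwDat} {T : List (List ℤ)} {F : Type*} [Field F]

namespace Tw

/-- The data used below: relations, the opposite word, which fixes each orbit up to sign. -/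
structure AutCtx (X : Tw D D' C C' W T F) where
  /-- the Coxeter matrix -/
  M : CoxeterMatrix (Fin W.nO)
  rel : X.RelOK M
  /-- a word for the longest element -/
  K0 : List (Fin W.nO)
  opp : X.Opp K0
  cen : ∀ r : Fin D.nroots, ∀ a : Fin W.nO,
    (D.neg (X.S.wpL (X.flatW K0) r).val ∈ X.orP a ↔ r.val ∈ X.orP a)

variable {X : Tw D D' C C' W T F} (A : AutCtx X)

/-- The opposite representative. -/
noncomputable def AutCtx.n0 : ↥X.G1 := X.ns A.K0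

theorem AutCtx.n0_sq : A.n0 * A.n0 ∈ X.Ts := by
  rw [AutCtx.n0, ← X.ns_append]
  refine X.ns_one A.rel (X.S.wpL_eq_one_of_pos F _ _ rfl fun i => ?_)
  rw [show X.flatW (A.K0 ++ A.K0) = X.flatW A.K0 ++ X.flatW A.K0 by simp [flatW], X.S.wpL_app, Equiv.Perm.mul_apply]
  have h1 := (A.opp (X.S.sp i)).2 (X.S.sr_pos i.isLt)
  by_contra hc
  have h2 := (A.opp _).1 (Nat.lt_of_not_le hc)
  omega

/-- The opposite radical. -/
noncomputable def AutCtx.Vs : Subgroup ↥X.G1 := X.Us.map (MulAut.conj A.n0).toMonoidHom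

theorem AutCtx.mem_Vs {g : ↥X.G1} : g ∈ A.Vs ↔ A.n0⁻¹ * g * A.n0 ∈ X.Us := by
  constructor
  · rintro ⟨u, hu, rfl⟩
    simpa [mul_assoc] using hu
  · exact fun h => ⟨_, h, by simp [mul_assoc]⟩

theorem AutCtx.mem_Vs' {g : ↥X.G1} : g ∈ A.Vs ↔ A.n0 * g * A.n0⁻¹ ∈ X.Us := by
  rw [A.mem_Vs]
  have ht := A.n0_sq
  constructor
  · intro h
    have := X.conj_Us (X.Ts_le_Bs ht) h
    convert this using 1
    group
  · intro h
    have := X.conj_Us (inv_mem (X.Ts_le_Bs ht)) h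
    convert this using 1
    group

theorem AutCtx.Us_Vs {g : ↥X.G1} (h1 : g ∈ X.Us) (h2 : g ∈ A.Vs) : g = 1 :=
  X.Us_inf_opp A.opp h1 (A.mem_Vs'.1 h2)

theorem AutCtx.Bs_opp {g : ↥X.G1} (h1 : g ∈ X.Bs) (h2 : A.n0⁻¹ * g * A.n0 ∈ X.Bs) : g ∈ X.Ts := by
  obtain ⟨u, hu, t, ht, rfl⟩ := X.Bs_cases h1
  suffices u = 1 by rwa [this, one_mul]
  obtain ⟨u', hu', t', ht', e⟩ := X.Bs_cases h2
  refine A.Us_Vs hu (A.mem_Vs.2 ?_)
  have h3 : A.n0⁻¹ * u * A.n0 ∈ X.Bs := by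
    have h4 := mul_mem h2 (inv_mem (X.Ts_le_Bs (X.ns_conj_Ts A.K0 ht).2))
    convert h4 using 1
    simp only [AutCtx.n0]
    group
  obtain ⟨u2, hu2, t2, ht2, e2⟩ := X.Bs_cases h3
  obtain rfl : t2 = 1 := by
    have hV : A.n0⁻¹ * u * A.n0 ∈ X.Bs := h3
    have h5 : (A.n0 * A.n0) * (A.n0⁻¹ * u * A.n0) * (A.n0 * A.n0)⁻¹ ∈ X.Bs :=
      mul_mem (mul_mem (X.Ts_le_Bs A.n0_sq) hV) (inv_mem (X.Ts_le_Bs A.n0_sq))
    have h6 : (A.n0 * u * A.n0⁻¹).1 ∈ D.borelSubgroup F ⊓ D.negUnipotent F := by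
      refine Subgroup.mem_inf.2 ⟨X.B1_le_borel (show (A.n0 * u * A.n0⁻¹).1 ∈ X.B1 from ?_), ?_⟩
      · have : A.n0 * u * A.n0⁻¹ ∈ X.Bs := by convert h5 using 1; group
        exact this
      · refine X.S.conj_Neg (X.act_ns A.K0) ?_
        have hle : D.posUnipotent F ≤ X.S.UPsi F (Struct.Neg D (X.S.wpL (X.flatW A.K0))) := by
          refine (Subgroup.closure_le _).2 ?_
          rintro y ⟨r, s, hr, hy⟩
          obtain ⟨h24, hlt⟩ := X.S.isPos_iff.1 hr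
          exact Subgroup.subset_closure ⟨⟨r, hlt⟩, s, h24, (A.opp ⟨r, hlt⟩).2 h24, X.S.ok.eq_xG hy⟩
        exact hle hu
    rw [X.S.B_inf_V X.hN, Subgroup.mem_bot] at h6
    have h7 : A.n0 * u * A.n0⁻¹ = 1 := Subtype.ext h6
    rw [mul_inv_eq_one, mul_eq_left] at h7
    subst h7
    have h8 : A.n0⁻¹ * 1 * A.n0 = (1 : ↥X.G1) := by group
    rw [h8] at e2
    exact ((X.Bs_uniq hu2 (one_mem _) ht2 (one_mem _) (by rw [← e2, one_mul]))).2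
  rw [e2, mul_one]
  exact hu2

theorem AutCtx.mem_Ts_of_normalizes {c : ↥X.G1} (h1 : ∀ u ∈ X.Us, c * u * c⁻¹ ∈ X.Us)
    (h2 : ∀ v ∈ A.Vs, c * v * c⁻¹ ∈ A.Vs) : c ∈ X.Ts := by
  refine A.Bs_opp (X.mem_Bs_of_normalizes A.rel A.opp h1) (X.mem_Bs_of_normalizes A.rel A.opp fun u hu => ?_)
  have h := A.mem_Vs.1 (h2 (A.n0 * u * A.n0⁻¹) (A.mem_Vs.2 (by simpa [mul_assoc] using hu)))
  convert h using 1
  group

/-- An automorphism preserving both radicals. -/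
structure AutCtx.Std (φ : MulAut ↥X.G1) : Prop where
  unip : ∀ x, φ x ∈ X.Us ↔ x ∈ X.Us
  opp : ∀ x, φ x ∈ A.Vs ↔ x ∈ A.Vs

theorem AutCtx.ns_opp_of_trivial {K : List (Fin W.nO)}
    (h : ∀ u ∈ X.Us, X.ns K * u * (X.ns K)⁻¹ ∈ X.Us → u = 1) : ∃ t ∈ X.Ts, X.ns K = t * A.n0 := by
  refine X.ns_eq_of_Ug A.rel (le_antisymm ?_ fun u hu => ?_)
  · intro u hu
    refine (X.mem_Ug_iff A.opp A.K0).2 ⟨X.Ug_le_Us K hu, ?_⟩
    have := X.conj_Us (X.Ts_le_Bs A.n0_sq) (X.Ug_le_Us K hu)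
    convert this using 1
    simp only [AutCtx.n0]
    group
  · obtain ⟨a, ha, b, hb, rfl, hc⟩ := X.split K (X.Ug_le_Us A.K0 hu)
    rwa [h a ha hc, one_mul]

include A in
theorem AutCtx.not_dvd_index {p k : ℕ} [Fact p.Prime] (hk : 1 ≤ k) (hq : X.q = p ^ k) : ¬ p ∣ X.Us.index := by
  classical
  haveI := X.finite
  have h := Subgroup.card_mul_index X.Us
  rw [X.card_G1 A.rel, X.card_B1 A.rel, X.card_Us, mul_assoc] at h
  rw [Nat.eq_of_mul_eq_mul_left (pow_pos (by have := X.hq; omega) _) h, Nat.Prime.dvd_mul Fact.out, not_or]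
  have hpq : p ∣ X.q := by rw [hq]; exact dvd_pow_self p (by omega)
  constructor
  · intro hd
    have hT := X.card_T1 (κ := Nat.card {c : Fin D.rank → Fˣ // c ∈ X.CT ∧ Ok.tG D F c = 1}) rfl
    have h1 : p ∣ ∏ a : Fin W.nO, (X.q ^ (W.orbAt a).length - 1) := hT ▸ dvd_mul_of_dvd_right hd _
    obtain ⟨a, -, ha⟩ := (Prime.dvd_finsetProd_iff (Nat.prime_iff.1 Fact.out) _).1 h1
    have h2 : 0 < (W.orbAt a).length := List.length_pos_iff.2 (X.orbAt_ne_nil a.isLt)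
    have h3 : p ∣ X.q ^ (W.orbAt a).length := dvd_pow hpq h2.ne'
    have h4 := Nat.dvd_sub h3 ha
    rw [Nat.sub_sub_self (Nat.one_le_pow _ _ (by have := X.hq; omega))] at h4
    exact (Fact.out : p.Prime).one_lt.ne' (Nat.dvd_one.1 h4)
  · let w1 : X.W1 := ⟨1, [], by simp [flatW, Struct.wpL]⟩
    rw [← Finset.add_sum_erase _ _ (Finset.mem_univ w1)]
    have hne : ∀ w : X.W1, Struct.Nw D (w : Equiv.Perm _) = 0 → w = w1 := by
      rintro ⟨w, K, rfl⟩ hw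
      refine Subtype.ext ?_
      show X.S.wpL (X.flatW K) = 1
      have h' := Finset.card_eq_zero.1 hw
      refine X.S.wpL_eq_one_of_pos F _ _ rfl fun i => Nat.le_of_not_lt fun hlt => ?_
      exact Finset.eq_empty_iff_forall_notMem.1 h' (X.S.sp i)
        (Finset.mem_filter.2 ⟨Finset.mem_univ _, X.S.sr_pos i.isLt, hlt⟩)
    have h0 : Struct.Nw D (w1 : Equiv.Perm _) = 0 := by
      refine Finset.card_eq_zero.2 (Finset.eq_empty_iff_forall_notMem.2 fun r hr => ?_)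
      obtain ⟨-, h1, h2⟩ := Finset.mem_filter.1 hr
      have : ((1 : Equiv.Perm (Fin D.nroots)) r).val < D.nroots / 2 := h2
      simp at this
      omega
    rw [h0, pow_zero]
    intro hd
    have : p ∣ ∑ w ∈ Finset.univ.erase w1, X.q ^ Struct.Nw D (w : Equiv.Perm _) :=
      Finset.dvd_sum fun w hw => dvd_pow hpq fun hz => (Finset.mem_erase.1 hw).1 (hne w hz)
    exact (Fact.out : p.Prime).one_lt.ne' (Nat.dvd_one.1 ((Nat.dvd_add_left this).1 hd))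

theorem AutCtx.exists_std {p k : ℕ} [Fact p.Prime] (hk : 1 ≤ k) (hq : X.q = p ^ k) (φ : MulAut ↥X.G1) :
    ∃ c : ↥X.G1, A.Std (MulAut.conj c * φ) := by
  haveI := X.finite
  haveI : Finite ↥X.G1 := inferInstance
  have hp : IsPGroup p ↥X.Us := IsPGroup.of_card (n := k * (W.lv.map fun L => (L.map List.length).sum).sum) (by
    rw [X.card_Us, hq, ← pow_mul])
  have hi := A.not_dvd_index hk hq
  have hi' : ∀ θ : MulAut ↥X.G1, ¬ p ∣ (X.Us.map θ.toMonoidHom).index := fun θ => by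
    rw [Subgroup.index_map_of_bijective (f := θ.toMonoidHom) θ.bijective]; exact hi
  have hmap : ∀ θ : MulAut ↥X.G1, ∃ d : ↥X.G1, ∀ x, MulAut.conj d (θ x) ∈ X.Us ↔ x ∈ X.Us := by
    intro θ
    obtain ⟨d, hd⟩ := MulAction.exists_smul_eq ↥X.G1 ((hp.map θ.toMonoidHom).toSylow (hi' θ)) (hp.toSylow hi)
    have e : (X.Us.map θ.toMonoidHom).map (MulAut.conj d).toMonoidHom = X.Us := by
      have e' := congrArg (fun T : Sylow p ↥X.G1 => (T : Subgroup ↥X.G1)) hd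
      simp only [Sylow.coe_subgroup_smul] at e'
      exact e'
    refine ⟨d, fun x => ⟨fun hx => ?_, fun hx => ?_⟩⟩
    · rw [← e] at hx
      obtain ⟨_, ⟨y, hy, rfl⟩, hxy⟩ := hx
      exact θ.injective ((MulAut.conj d).injective hxy) ▸ hy
    · have : MulAut.conj d (θ x) ∈ (X.Us.map θ.toMonoidHom).map (MulAut.conj d).toMonoidHom :=
        ⟨θ x, ⟨x, hx, rfl⟩, rfl⟩
      rwa [e] at this
  obtain ⟨d, hd⟩ := hmap φ
  set ψ := MulAut.conj d * φ with hψ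
  have hψU : ∀ x, ψ x ∈ X.Us ↔ x ∈ X.Us := hd
  obtain ⟨g, hg⟩ := hmap (ψ * MulAut.conj A.n0)
  -- g carries the image of the opposite radical to the radical
  have hgV : ∀ x, g * ψ x * g⁻¹ ∈ X.Us ↔ x ∈ A.Vs := fun x => by
    rw [A.mem_Vs, ← hg (A.n0⁻¹ * x * A.n0)]
    simp [mul_assoc]
  obtain ⟨b, hb, K, u, hu, rfl⟩ := X.cases ⟨A.M, A.rel⟩ g
  have huU := X.Ug_le_Us K hu
  have htriv : ∀ w ∈ X.Us, X.ns K * w * (X.ns K)⁻¹ ∈ X.Us → w = 1 := by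
    intro w hw hw'
    have h1 : u⁻¹ * w * u ∈ X.Us := mul_mem (mul_mem (inv_mem huU) hw) huU
    obtain ⟨x, hx⟩ := ψ.surjective (u⁻¹ * w * u)
    have hxV : x ∈ A.Vs := by
      rw [← hgV, hx]
      have := X.conj_Us hb hw'
      convert this using 1
      group
    have h2 := A.Us_Vs ((hψU x).1 (hx ▸ h1)) hxV
    rw [h2, map_one] at hx
    calc w = u * (u⁻¹ * w * u) * u⁻¹ := by group
      _ = 1 := by rw [← hx]; group
  obtain ⟨t, ht, e⟩ := A.ns_opp_of_trivial htriv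
  refine ⟨u * d, ⟨fun x => ?_, fun x => ?_⟩⟩
  · have e2 : (MulAut.conj (u * d) * φ) x = u * ψ x * u⁻¹ := by simp [hψ, mul_assoc]
    rw [e2, ← hψU x]
    refine ⟨fun h => ?_, fun h => mul_mem (mul_mem huU h) (inv_mem huU)⟩
    have := mul_mem (mul_mem (inv_mem huU) h) huU
    convert this using 1
    group
  · have e2 : (MulAut.conj (u * d) * φ) x = u * ψ x * u⁻¹ := by simp [hψ, mul_assoc]
    rw [e2, A.mem_Vs', ← hgV x, e]
    have hbt : b * t ∈ X.Bs := mul_mem hb (X.Ts_le_Bs ht)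
    constructor
    · intro h
      have := X.conj_Us hbt h
      convert this using 1
      group
    · intro h
      have := X.conj_Us (inv_mem hbt) h
      convert this using 1
      group

/-! ### Parabolic subgroups -/

/-- The set of a minimal parabolic subgroup. -/
def AutCtx.Pset (_A : AutCtx X) (a : Fin W.nO) : Set ↥X.G1 :=
  {g | g ∈ X.Bs ∨ ∃ b ∈ X.Bs, ∃ c ∈ X.Bs, g = b * X.ns [a] * c}

theorem ns_single (a : Fin W.nO) : (X.ns [a] : GL D.Idx F) = X.nJ a := by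
  show X.nW [a] = _
  rw [X.nW_eq_prod]; simp

theorem ns_not_mem (a : Fin W.nO) : X.ns [a] ∉ X.Bs := by
  intro h
  have hd : (X.ns [a]).1 ∈ D.diagonalSubgroup F := by
    rw [← X.S.B_inf_N]
    exact Subgroup.mem_inf.2 ⟨X.B1_le_borel h, X.N1_le_mono (X.nW_mem_N1 _)⟩
  have h1 := X.S.act_unique (X.act_ns [a]) (X.S.act_diag hd)
  have h2 := (X.Neg_single a (r := X.S.sp (X.hd a.isLt)) (X.S.sr_pos (X.hd a.isLt).isLt)).2 (by
    rw [orP, kmap_eq]; exact List.mem_map.2 ⟨_, (X.mem_orbF a.isLt).1 (X.hd_mem a.isLt), rfl⟩)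
  rw [Struct.Neg, h1] at h2
  simp at h2
  have := X.S.sr_pos (X.hd a.isLt).isLt
  have e : (X.S.sp (X.hd a.isLt)).val = C.sr (X.hd a.isLt).val := rfl
  omega

theorem AutCtx.Pset_mul (a : Fin W.nO) : ∃ H : Subgroup ↥X.G1, (H : Set ↥X.G1) = A.Pset a := by
  obtain ⟨P, hB, hN, hS⟩ := X.exists_bnPair A.rel
  have hn : X.ns [a] ∈ P.N := by rw [hN]; exact X.nW_mem_N1 _
  have hnB : X.ns [a] ∉ P.B := by rw [hB]; exact ns_not_mem a
  obtain ⟨H, hH⟩ := (Cfsg.Lib.BN.union_isSubgroup_iff (P := P) hn hnB).2 ⟨X.ns [a], by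
    rw [hS]; exact ⟨a, a.isLt, ns_single a⟩, by rw [inv_mul_cancel]; exact one_mem _⟩
  refine ⟨H, hH.trans (Set.ext fun g => ?_)⟩
  simp only [AutCtx.Pset, Set.mem_union, SetLike.mem_coe, hB, Set.mem_setOf_eq, DoubleCoset.mem_doubleCoset]
  rfl

/-- A minimal parabolic subgroup. -/
noncomputable def AutCtx.P (a : Fin W.nO) : Subgroup ↥X.G1 := (A.Pset_mul a).choose

theorem AutCtx.mem_P {a : Fin W.nO} {g : ↥X.G1} :
    g ∈ A.P a ↔ g ∈ X.Bs ∨ ∃ b ∈ X.Bs, ∃ c ∈ X.Bs, g = b * X.ns [a] * c := by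
  rw [← SetLike.mem_coe, AutCtx.P, (A.Pset_mul a).choose_spec]; rfl

theorem AutCtx.Bs_le_P (a : Fin W.nO) : X.Bs ≤ A.P a := fun _ h => A.mem_P.2 (Or.inl h)

theorem AutCtx.ns_mem_P (a : Fin W.nO) : X.ns [a] ∈ A.P a :=
  A.mem_P.2 (Or.inr ⟨1, one_mem _, 1, one_mem _, by group⟩)

theorem AutCtx.map_P {θ : MulAut ↥X.G1} (hθ : ∀ x, θ x ∈ X.Bs ↔ x ∈ X.Bs) (a : Fin W.nO) :
    ∃ b, ∀ x, θ x ∈ A.P b ↔ x ∈ A.P a := by
  obtain ⟨B0, hB0, K, u, hu, e⟩ := X.cases ⟨A.M, A.rel⟩ (θ (X.ns [a]))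
  have huB := X.Us_le_Bs (X.Ug_le_Us K hu)
  obtain ⟨P, hB, hN, hS⟩ := X.exists_bnPair A.rel
  have hn : X.ns K ∈ P.N := by rw [hN]; exact X.nW_mem_N1 _
  have hnB : X.ns K ∉ P.B := by
    rw [hB]
    intro h
    refine ns_not_mem a ((hθ _).1 ?_)
    rw [e]
    exact mul_mem (mul_mem hB0 h) huB
  have hset : ((A.P a).map θ.toMonoidHom : Set ↥X.G1) =
      (P.B : Set ↥X.G1) ∪ DoubleCoset.doubleCoset (X.ns K) (P.B : Set ↥X.G1) P.B := by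
    ext g
    obtain ⟨x, rfl⟩ := θ.surjective g
    simp only [Set.mem_union, SetLike.mem_coe, hB, DoubleCoset.mem_doubleCoset]
    rw [show θ x ∈ (A.P a).map θ.toMonoidHom ↔ x ∈ A.P a from
      Subgroup.mem_map_iff_mem (f := θ.toMonoidHom) θ.injective, A.mem_P]
    refine or_congr (hθ x).symm ⟨?_, ?_⟩
    · rintro ⟨b, hb, c, hc, rfl⟩
      refine ⟨θ b * B0, mul_mem ((hθ b).2 hb) hB0, u * θ c, mul_mem huB ((hθ c).2 hc), ?_⟩
      rw [map_mul, map_mul, e]; group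
    · rintro ⟨b, hb, c, hc, hx⟩
      obtain ⟨b', hb'⟩ := θ.surjective (b * B0⁻¹)
      obtain ⟨c', hc'⟩ := θ.surjective (u⁻¹ * c)
      refine ⟨b', (hθ b').1 (hb' ▸ mul_mem hb (inv_mem hB0)), c', (hθ c').1 (hc' ▸ mul_mem (inv_mem huB) hc),
        θ.injective ?_⟩
      rw [map_mul, map_mul, hb', hc', e, hx]; group
  obtain ⟨s, hs, hsn⟩ := (Cfsg.Lib.BN.union_isSubgroup_iff (P := P) hn hnB).1 ⟨_, hset⟩
  rw [hS] at hs
  obtain ⟨b, hb, es⟩ := hs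
  obtain rfl : s = X.ns [⟨b, hb⟩] := Subtype.ext (es.trans (ns_single ⟨b, hb⟩).symm)
  rw [hB] at hsn
  refine ⟨⟨b, hb⟩, fun x => ?_⟩
  rw [← Subgroup.mem_map_iff_mem (f := θ.toMonoidHom) θ.injective (K := A.P a)]
  show θ x ∈ A.P _ ↔ θ x ∈ (A.P a).map θ.toMonoidHom
  rw [← SetLike.mem_coe (p := (A.P a).map θ.toMonoidHom), hset]
  simp only [Set.mem_union, SetLike.mem_coe, hB, DoubleCoset.mem_doubleCoset, A.mem_P]
  refine or_congr Iff.rfl ⟨?_, ?_⟩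
  · rintro ⟨p, hp, r, hr, h⟩
    refine ⟨p, hp, ((X.ns [⟨b, hb⟩])⁻¹ * X.ns K)⁻¹ * r, mul_mem (inv_mem hsn) hr, ?_⟩
    rw [h]; group
  · rintro ⟨p, hp, r, hr, h⟩
    refine ⟨p, hp, (X.ns [⟨b, hb⟩])⁻¹ * X.ns K * r, mul_mem hsn hr, ?_⟩
    rw [h]; group

theorem AutCtx.card_P_inf (a : Fin W.nO) {p k : ℕ} [Fact p.Prime] (hk : 1 ≤ k) (hq : X.q = p ^ k) :
    A.P a ⊓ A.Vs = (X.Ua a).map (MulAut.conj (X.ns [a])).toMonoidHom := by
  classical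
  haveI := X.finite
  symm
  have hle : (X.Ua a).map (MulAut.conj (X.ns [a])).toMonoidHom ≤ A.P a ⊓ A.Vs := by
    rintro _ ⟨u, hu, rfl⟩
    refine Subgroup.mem_inf.2 ⟨?_, A.mem_Vs'.2 (X.neg_conj A.opp [a] hu)⟩
    exact mul_mem (mul_mem (A.ns_mem_P a) (A.Bs_le_P a (X.Us_le_Bs (X.Ug_le_Us _ hu)))) (inv_mem (A.ns_mem_P a))
  refine Subgroup.eq_of_le_of_card_ge hle ?_
  rw [Subgroup.card_map_of_injective (MulAut.conj (X.ns [a])).injective]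
  -- the elements of the intersection have distinct cosets of the Borel subgroup
  let f : ↥(A.P a ⊓ A.Vs) → Option ↥(X.Ua a) := fun v =>
    if h : ∃ b ∈ X.Bs, ∃ u ∈ X.Ua a, v.1 = b * X.ns [a] * u then
      some ⟨h.choose_spec.2.choose, h.choose_spec.2.choose_spec.1⟩ else none
  have hshape : ∀ v : ↥(A.P a ⊓ A.Vs), v.1 = 1 ∨ ∃ b ∈ X.Bs, ∃ u ∈ X.Ua a, v.1 = b * X.ns [a] * u := by
    intro v
    obtain ⟨hP, hV⟩ := Subgroup.mem_inf.1 v.2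
    rcases A.mem_P.1 hP with hB | ⟨b, hb, c, hc, e⟩
    · left
      have hT : v.1 ∈ X.Ts := A.Bs_opp hB (X.Us_le_Bs (A.mem_Vs.1 hV))
      have h2 := X.Us_Ts (A.mem_Vs.1 hV) (X.ns_conj_Ts A.K0 hT).2
      calc v.1 = A.n0 * (A.n0⁻¹ * v.1 * A.n0) * A.n0⁻¹ := by group
        _ = 1 := by rw [h2]; group
    · right
      obtain ⟨w, hw, t, ht, rfl⟩ := X.Bs_cases hc
      have hw' : t⁻¹ * w * t ∈ X.Us := by
        have := X.conj_Us (inv_mem (X.Ts_le_Bs ht)) hw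
        simpa using this
      obtain ⟨x, hx, y, hy, exy, hxc⟩ := X.split [a] hw'
      refine ⟨b * (X.ns [a] * t * (X.ns [a])⁻¹) * (X.ns [a] * x * (X.ns [a])⁻¹),
        mul_mem (mul_mem hb (X.Ts_le_Bs (X.ns_conj_Ts [a] ht).1)) (X.Us_le_Bs hxc), y, hy, ?_⟩
      rw [e, show w = t * (t⁻¹ * w * t) * t⁻¹ by group, exy]
      group
  have hf : Function.Injective f := by
    intro v w h
    have key : ∀ v w : ↥(A.P a ⊓ A.Vs), ∀ b ∈ X.Bs, v.1 = b * w.1 → v = w := by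
      intro v w b hb e
      have hbV : b ∈ A.Vs := by
        rw [show b = v.1 * w.1⁻¹ by rw [e]; group]
        exact mul_mem (Subgroup.mem_inf.1 v.2).2 (inv_mem (Subgroup.mem_inf.1 w.2).2)
      have hT := A.Bs_opp hb (X.Us_le_Bs (A.mem_Vs.1 hbV))
      have h2 := X.Us_Ts (A.mem_Vs.1 hbV) (X.ns_conj_Ts A.K0 hT).2
      have h3 : b = 1 := by
        calc b = A.n0 * (A.n0⁻¹ * b * A.n0) * A.n0⁻¹ := by group
          _ = 1 := by rw [h2]; group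
      exact Subtype.ext (by rw [e, h3, one_mul])
    simp only [f] at h
    split_ifs at h with h1 h2 h2
    · have hu := congrArg Subtype.val (Option.some.inj h)
      obtain ⟨b1, hb1, e1⟩ : ∃ b ∈ X.Bs, v.1 = b * X.ns [a] * h1.choose_spec.2.choose :=
        ⟨_, h1.choose_spec.1, h1.choose_spec.2.choose_spec.2⟩
      obtain ⟨b2, hb2, e2⟩ : ∃ b ∈ X.Bs, w.1 = b * X.ns [a] * h2.choose_spec.2.choose :=
        ⟨_, h2.choose_spec.1, h2.choose_spec.2.choose_spec.2⟩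
      refine key v w (b1 * b2⁻¹) (mul_mem hb1 (inv_mem hb2)) ?_
      simp only at hu
      calc v.1 = b1 * X.ns [a] * h2.choose_spec.2.choose := by rw [← hu]; exact e1
        _ = b1 * b2⁻¹ * (b2 * X.ns [a] * h2.choose_spec.2.choose) := by group
        _ = _ := by rw [← e2]
    · refine Subtype.ext ?_
      rcases hshape v with hv | hv
      · rcases hshape w with hw | hw
        · rw [hv, hw]
        · exact absurd hw h2
      · exact absurd hv h1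
  have h1 : Nat.card ↥(A.P a ⊓ A.Vs) ≤ Nat.card ↥(X.Ua a) + 1 := by
    have := Nat.card_le_card_of_injective f hf
    rwa [Finite.card_option] at this
  have hp : IsPGroup p ↥(A.P a ⊓ A.Vs) := by
    refine IsPGroup.to_le ?_ inf_le_right
    refine (IsPGroup.of_card (n := k * (W.lv.map fun L => (L.map List.length).sum).sum) ?_).map _
    rw [X.card_Us, hq, ← pow_mul]
  obtain ⟨n, hn⟩ := IsPGroup.iff_card.1 hp
  rw [Ua, X.card_Ug, hq, ← pow_mul] at h1 ⊢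
  rw [hn] at h1 ⊢
  set m := k * Struct.Nw D (X.S.wpL (X.flatW [a])) with hm
  refine Nat.pow_le_pow_right (Fact.out : p.Prime).one_lt.le (Nat.le_of_not_lt fun hlt => ?_)
  have h3 : p ^ (m + 1) ≤ p ^ n := Nat.pow_le_pow_right (Fact.out : p.Prime).one_lt.le hlt
  have h4 := (Fact.out : p.Prime).two_le
  have h6 : 0 < Struct.Nw D (X.S.wpL (X.flatW [a])) := by
    refine Finset.card_pos.2 ⟨X.S.sp (X.hd a.isLt), Finset.mem_filter.2 ⟨Finset.mem_univ _,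
      X.S.sr_pos (X.hd a.isLt).isLt, (X.Neg_single a (X.S.sr_pos (X.hd a.isLt).isLt)).2 ?_⟩⟩
    rw [orP, kmap_eq]
    exact List.mem_map.2 ⟨_, (X.mem_orbF a.isLt).1 (X.hd_mem a.isLt), rfl⟩
  have hm1 : 1 ≤ m := Nat.mul_pos hk h6
  have h5 : p ^ 1 ≤ p ^ m := Nat.pow_le_pow_right (by omega) hm1
  rw [pow_succ] at h3
  nlinarith

theorem AutCtx.conj_n0_ns (a : Fin W.nO) : ∃ t ∈ X.Ts, A.n0 * X.ns [a] * A.n0⁻¹ = t * X.ns [a] := by
  have key : ∀ r : Fin D.nroots, D.nroots / 2 ≤ r.val →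
      (Struct.Neg D (X.S.wpL (X.flatW (A.K0 ++ [a] ++ A.K0))) r ↔ Struct.Neg D (X.S.wpL (X.flatW [a])) r) := by
    intro r hr
    have e : X.flatW (A.K0 ++ [a] ++ A.K0) = X.flatW A.K0 ++ X.flatW [a] ++ X.flatW A.K0 := by simp [flatW]
    rw [e, X.S.wpL_app, X.S.wpL_app, X.Neg_single a hr, ← A.cen r a]
    set s := X.S.wpL (X.flatW A.K0) r with hs
    have hsn : s.val < D.nroots / 2 := (A.opp r).2 hr
    have hlt : D.neg s.val < D.nroots := by rw [← X.S.ok.neg_eq s.isLt]; exact X.S.ok.neg_lt s.isLt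
    rw [← X.Neg_single a (r := ⟨D.neg s.val, hlt⟩) (X.S.neg_pos hsn).1]
    show (X.S.wpL (X.flatW A.K0) (X.S.wpL (X.flatW [a]) s)).val < _ ↔
      (X.S.wpL (X.flatW [a]) ⟨D.neg s.val, hlt⟩).val < _
    rw [A.opp, X.S.wp_neg _ s hlt]
    constructor
    · intro h
      exact X.S.neg_lt_half (Fin.isLt _) h
    · intro h
      by_contra hc
      have := (X.S.neg_pos (Nat.lt_of_not_le hc)).1
      omega
  obtain ⟨t, ht, e⟩ := X.ns_eq_of_perm A.rel (X.S.eq_of_Neg_iff F key)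
  rw [X.ns_append, X.ns_append] at e
  refine ⟨t * (X.ns [a] * (A.n0 * A.n0)⁻¹ * (X.ns [a])⁻¹), mul_mem ht (X.ns_conj_Ts [a] (inv_mem A.n0_sq)).1, ?_⟩
  calc A.n0 * X.ns [a] * A.n0⁻¹ = A.n0 * X.ns [a] * A.n0 * (A.n0 * A.n0)⁻¹ := by group
    _ = _ := by rw [show A.n0 * X.ns [a] * A.n0 = t * X.ns [a] from e]; group

/-- The opposite minimal parabolic subgroup. -/
noncomputable def AutCtx.Pneg (a : Fin W.nO) : Subgroup ↥X.G1 := (A.P a).map (MulAut.conj A.n0).toMonoidHom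

theorem AutCtx.mem_Pneg {a : Fin W.nO} {g : ↥X.G1} : g ∈ A.Pneg a ↔ A.n0⁻¹ * g * A.n0 ∈ A.P a := by
  constructor
  · rintro ⟨u, hu, rfl⟩
    simpa [mul_assoc] using hu
  · exact fun h => ⟨_, h, by simp [mul_assoc]⟩

theorem AutCtx.Ua_eq (a : Fin W.nO) {p k : ℕ} [Fact p.Prime] (hk : 1 ≤ k) (hq : X.q = p ^ k) :
    X.Us ⊓ A.Pneg a = X.Ua a := by
  obtain ⟨t, ht, e⟩ := A.conj_n0_ns a
  ext u
  rw [Subgroup.mem_inf, A.mem_Pneg]
  have h1 : ∀ x : ↥X.G1, x ∈ A.P a ∧ x ∈ A.Vs ↔ x ∈ (X.Ua a).map (MulAut.conj (X.ns [a])).toMonoidHom :=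
    fun x => by rw [← A.card_P_inf a hk hq, Subgroup.mem_inf]
  have hsq : X.ns [a] * X.ns [a] ∈ X.Ts := by
    obtain ⟨mask, hm⟩ := (A.rel a a).2
    have := X.rel_mem hm
    rw [A.M.diagonal, pow_one] at this
    show (X.ns [a] * X.ns [a]).1 ∈ X.T1
    rw [Subgroup.coe_mul, ns_single]
    exact this
  constructor
  · rintro ⟨hu, hP⟩
    obtain ⟨w, hw, ew⟩ := (h1 _).1 ⟨hP, A.mem_Vs'.2 (by simpa [mul_assoc] using hu)⟩
    simp only [MulEquiv.coe_toMonoidHom, MulAut.conj_apply] at ew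
    rw [Ua, X.mem_Ug_iff A.opp]
    refine ⟨hu, ?_⟩
    have e3 : u = A.n0 * X.ns [a] * w * (A.n0 * X.ns [a])⁻¹ := by
      rw [show u = A.n0 * (A.n0⁻¹ * u * A.n0) * A.n0⁻¹ by group, ← ew]; group
    have h2 := X.conj_Us (X.Ts_le_Bs (mul_mem (X.ns_conj_Ts A.K0 (X.ns_conj_Ts [a] ht).1).1
      (mul_mem (X.ns_conj_Ts A.K0 hsq).1 A.n0_sq))) (X.Ug_le_Us _ hw)
    convert h2 using 1
    rw [e3, show A.n0 * X.ns [a] = t * X.ns [a] * A.n0 by rw [← e]; group]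
    simp only [AutCtx.n0]
    group
  · intro hu
    refine ⟨X.Ug_le_Us _ hu, ?_⟩
    obtain ⟨hu1, hu2⟩ := (X.mem_Ug_iff A.opp [a]).1 hu
    have hu3 : X.ns [a] * (A.n0⁻¹ * u * A.n0) * (X.ns [a])⁻¹ ∈ X.Us := by
      obtain ⟨t', ht', e'⟩ : ∃ t' ∈ X.Ts, X.ns [a] * A.n0⁻¹ = t' * (A.n0 * X.ns [a]) := by
        refine ⟨X.ns [a] * A.n0⁻¹ * (A.n0 * X.ns [a])⁻¹, ?_, by group⟩
        have h3 : A.n0 * X.ns [a] = t * X.ns [a] * A.n0 := by rw [← e]; group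
        rw [h3, show X.ns [a] * A.n0⁻¹ * (t * X.ns [a] * A.n0)⁻¹ =
          (X.ns [a] * (A.n0 * A.n0)⁻¹ * (X.ns [a])⁻¹) * t⁻¹ by group]
        exact mul_mem (X.ns_conj_Ts [a] (inv_mem A.n0_sq)).1 (inv_mem ht)
      rw [show X.ns [a] * (A.n0⁻¹ * u * A.n0) * (X.ns [a])⁻¹ =
        (X.ns [a] * A.n0⁻¹) * u * (X.ns [a] * A.n0⁻¹)⁻¹ by group, e']
      have := X.conj_Us (X.Ts_le_Bs ht') hu2
      convert this using 1
      simp only [AutCtx.n0]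
      group
    have h3 : (X.ns [a])⁻¹ * (X.ns [a] * (A.n0⁻¹ * u * A.n0) * (X.ns [a])⁻¹) * X.ns [a] ∈ A.P a :=
      mul_mem (mul_mem (inv_mem (A.ns_mem_P a)) (A.Bs_le_P a (X.Us_le_Bs hu3))) (A.ns_mem_P a)
    convert h3 using 1
    group

variable {φ : MulAut ↥X.G1}

theorem AutCtx.Std.borel (h : A.Std φ) (x : ↥X.G1) : φ x ∈ X.Bs ↔ x ∈ X.Bs := by
  constructor
  · intro hx
    refine X.mem_Bs_of_normalizes A.rel A.opp fun u hu => (h.unip _).1 ?_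
    rw [map_mul, map_mul, map_inv]
    exact X.conj_Us hx ((h.unip u).2 hu)
  · intro hx
    refine X.mem_Bs_of_normalizes A.rel A.opp fun u hu => ?_
    obtain ⟨y, rfl⟩ := φ.surjective u
    rw [← map_inv, ← map_mul, ← map_mul, h.unip]
    exact X.conj_Us hx ((h.unip y).1 hu)

theorem AutCtx.Std.torus (h : A.Std φ) {t : ↥X.G1} (ht : t ∈ X.Ts) : φ t ∈ X.Ts := by
  have key : ∀ v ∈ A.Vs, t * v * t⁻¹ ∈ A.Vs := fun v hv => A.mem_Vs.2 (by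
    have := X.conj_Us (X.Ts_le_Bs (X.ns_conj_Ts A.K0 ht).2) (A.mem_Vs.1 hv)
    convert this using 1
    simp only [AutCtx.n0]
    group)
  refine A.mem_Ts_of_normalizes (fun u hu => ?_) fun v hv => ?_
  · obtain ⟨y, rfl⟩ := φ.surjective u
    rw [← map_inv, ← map_mul, ← map_mul, h.unip]
    exact X.conj_Us (X.Ts_le_Bs ht) ((h.unip y).1 hu)
  · obtain ⟨y, rfl⟩ := φ.surjective v
    rw [← map_inv, ← map_mul, ← map_mul, h.opp]
    exact key y ((h.opp y).1 hv)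

theorem AutCtx.not_normalizes {a : Fin W.nO} {w : ↥X.G1} (hw : w ∈ A.P a)
    (h : ∀ u ∈ X.Ua a, w * u * w⁻¹ ∈ X.Us) : w ∈ X.Bs := by
  rcases A.mem_P.1 hw with h' | ⟨b, hb, c, hc, rfl⟩
  · exact h'
  exfalso
  obtain ⟨x, hx, s, hs, rfl⟩ := X.Bs_cases hc
  obtain ⟨x', -, y, hy, rfl, hxc⟩ := X.split [a] hx
  haveI := X.finite
  have hb1 : X.Ua a ≤ ⊥ := fun z hz => by
    have hzU := X.Ug_le_Us _ hz
    have h1 : s⁻¹ * (y⁻¹ * z * y) * s ∈ X.Ua a := by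
      show _ ∈ X.Ug [a]
      have := X.conj_Ug [a] (inv_mem hs) (mul_mem (mul_mem (inv_mem hy) hz) hy)
      simpa using this
    have h2 := X.conj_Us (inv_mem (mul_mem hb (X.Us_le_Bs hxc))) (h _ h1)
    have h3 : X.ns [a] * z * (X.ns [a])⁻¹ ∈ X.Us := by
      convert h2 using 1
      group
    have h4 : X.ns [a] * z * (X.ns [a])⁻¹ = 1 := X.Us_inf_opp A.opp h3 (X.neg_conj A.opp [a] hz)
    rw [mul_inv_eq_one, mul_eq_left] at h4
    exact Subgroup.mem_bot.2 h4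
  have hc1 : Nat.card ↥(X.Ua a) ≤ 1 := (Subgroup.card_le_of_le hb1).trans Subgroup.card_bot.le
  rw [Ua, X.card_Ug] at hc1
  have h6 : Struct.Nw D (X.S.wpL (X.flatW [a])) ≠ 0 := by
    classical
    intro hz
    have h' := Finset.card_eq_zero.1 hz
    refine Finset.eq_empty_iff_forall_notMem.1 h' (X.S.sp (X.hd a.isLt)) (Finset.mem_filter.2 ⟨Finset.mem_univ _,
      X.S.sr_pos (X.hd a.isLt).isLt, (X.Neg_single a (X.S.sr_pos (X.hd a.isLt).isLt)).2 ?_⟩)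
    rw [orP, kmap_eq]
    exact List.mem_map.2 ⟨_, (X.mem_orbF a.isLt).1 (X.hd_mem a.isLt), rfl⟩
  have := Nat.one_lt_pow h6 X.hq
  omega

/-- An automorphism preserving a minimal parabolic subgroup and its opposite. -/
theorem AutCtx.Std.simple_fixed_aux (h : A.Std φ) {p k : ℕ} [Fact p.Prime] (hk : 1 ≤ k) (hq : X.q = p ^ k)
    (b : Fin W.nO) (hb : ∀ x, φ x ∈ A.P b ↔ x ∈ A.P b) (hneg : ∀ x, φ x ∈ A.Pneg b ↔ x ∈ A.Pneg b) :
    (∀ u, φ u ∈ X.Ua b ↔ u ∈ X.Ua b) ∧ ∃ t ∈ X.Ts, φ (X.ns [b]) = t * X.ns [b] := by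
  haveI := X.finite
  have hp2 := (Fact.out : p.Prime).two_le
  have hU : ∀ u, φ u ∈ X.Ua b ↔ u ∈ X.Ua b := fun u => by
    rw [← A.Ua_eq b hk hq, Subgroup.mem_inf, Subgroup.mem_inf, h.unip, hneg]
  have hV : ∀ u, φ u ∈ A.P b ⊓ A.Vs ↔ u ∈ A.P b ⊓ A.Vs := fun u => by
    rw [Subgroup.mem_inf, Subgroup.mem_inf, hb, h.opp]
  refine ⟨hU, ?_⟩
  -- the image of the Weyl representative
  have hx := (hb _).2 (A.ns_mem_P b)
  have hsq : X.ns [b] * X.ns [b] ∈ X.Ts := by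
    obtain ⟨mask, hm⟩ := (A.rel b b).2
    have := X.rel_mem hm
    rw [A.M.diagonal, pow_one] at this
    show (X.ns [b] * X.ns [b]).1 ∈ X.T1
    rw [Subgroup.coe_mul, ns_single]
    exact this
  have hswap : ∀ u ∈ X.Ua b, φ (X.ns [b]) * u * (φ (X.ns [b]))⁻¹ ∈ A.P b ⊓ A.Vs ∧
      (φ (X.ns [b]))⁻¹ * u * φ (X.ns [b]) ∈ A.P b ⊓ A.Vs := by
    intro u hu
    obtain ⟨v, rfl⟩ := φ.surjective u
    have hv := (hU v).1 hu
    rw [← map_inv, ← map_mul, ← map_mul, ← map_mul, ← map_mul, hV, hV, A.card_P_inf b hk hq]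
    refine ⟨⟨v, hv, rfl⟩, ⟨(X.ns [b] * X.ns [b])⁻¹ * v * (X.ns [b] * X.ns [b]), ?_, ?_⟩⟩
    · have := X.conj_Ug [b] (inv_mem hsq) hv
      rw [inv_inv] at this
      exact this
    · simp only [MulEquiv.coe_toMonoidHom, MulAut.conj_apply]
      group
  set x := φ (X.ns [b]) with hxdef
  rcases A.mem_P.1 hx with hB | ⟨b1, hb1, c1, hc1, e⟩
  · exact absurd ((AutCtx.Std.borel A h _).1 hB) (ns_not_mem b)
  obtain ⟨w, hw, s, hs, rfl⟩ := X.Bs_cases hc1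
  obtain ⟨w', -, y, hy, rfl, hwc⟩ := X.split [b] hw
  obtain ⟨u0, hu0, t0, ht0, e0⟩ := X.Bs_cases
    (g := b1 * (X.ns [b] * w' * (X.ns [b])⁻¹)) (mul_mem hb1 (X.Us_le_Bs hwc))
  have ex : x = u0 * (t0 * (X.ns [b] * s * (X.ns [b])⁻¹)) * X.ns [b] * (s⁻¹ * y * s) := by
    rw [e, show u0 * (t0 * (X.ns [b] * s * (X.ns [b])⁻¹)) = u0 * t0 * (X.ns [b] * s * (X.ns [b])⁻¹) by group,
      ← e0]
    group
  set t1 := t0 * (X.ns [b] * s * (X.ns [b])⁻¹)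
  set z := s⁻¹ * y * s
  have ht1 : t1 ∈ X.Ts := mul_mem ht0 (X.ns_conj_Ts [b] hs).1
  have hz : z ∈ X.Ua b := by
    have := X.conj_Ug [b] (inv_mem hs) hy
    rw [inv_inv] at this
    exact this
  have hu0P : u0 ∈ X.Ua b := by
    rw [← A.Ua_eq b hk hq, Subgroup.mem_inf]
    refine ⟨hu0, ?_⟩
    have hxN : x ∈ A.Pneg b := (hneg _).2 (by
      rw [A.mem_Pneg]
      obtain ⟨t, ht, et⟩ := A.conj_n0_ns b
      have et' : A.n0⁻¹ * X.ns [b] * A.n0 = (A.n0⁻¹ * t⁻¹ * A.n0) * X.ns [b] := by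
        calc A.n0⁻¹ * X.ns [b] * A.n0 = A.n0⁻¹ * (t⁻¹ * (t * X.ns [b])) * A.n0 := by group
          _ = _ := by rw [← et]; group
      rw [et']
      exact mul_mem (A.Bs_le_P b (X.Ts_le_Bs (X.ns_conj_Ts A.K0 (inv_mem ht)).2)) (A.ns_mem_P b))
    have hT : ∀ t ∈ X.Ts, t ∈ A.Pneg b := fun t ht => A.mem_Pneg.2 (A.Bs_le_P b (X.Ts_le_Bs (X.ns_conj_Ts A.K0 ht).2))
    have hUa : ∀ v ∈ X.Ua b, v ∈ A.Pneg b := fun v hv => by
      rw [← A.Ua_eq b hk hq] at hv; exact (Subgroup.mem_inf.1 hv).2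
    have hn : X.ns [b] ∈ A.Pneg b := A.mem_Pneg.2 (by
      obtain ⟨t, ht, et⟩ := A.conj_n0_ns b
      rw [show A.n0⁻¹ * X.ns [b] * A.n0 = (A.n0⁻¹ * t⁻¹ * A.n0) * X.ns [b] by
        calc A.n0⁻¹ * X.ns [b] * A.n0 = A.n0⁻¹ * (t⁻¹ * (t * X.ns [b])) * A.n0 := by group
          _ = _ := by rw [← et]; group]
      exact mul_mem (A.Bs_le_P b (X.Ts_le_Bs (X.ns_conj_Ts A.K0 (inv_mem ht)).2)) (A.ns_mem_P b))
    have e2 : u0 = x * z⁻¹ * (X.ns [b])⁻¹ * t1⁻¹ := by rw [ex]; group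
    rw [e2]
    exact mul_mem (mul_mem (mul_mem hxN (inv_mem (hUa z hz))) (inv_mem hn)) (inv_mem (hT t1 ht1))
  have hnorm : ∀ v ∈ X.Ua b, ∀ w ∈ X.Ua b,
      (∀ u ∈ X.Ua b, v * (X.ns [b] * u * (X.ns [b])⁻¹) * v⁻¹ ∈ A.P b ⊓ A.Vs) → v = 1 := by
    intro v hv _ _ hvn
    have h1 : (X.ns [b])⁻¹ * v * X.ns [b] ∈ X.Bs := by
      refine A.not_normalizes (mul_mem (mul_mem (inv_mem (A.ns_mem_P b)) (A.Bs_le_P b (X.Us_le_Bs (X.Ug_le_Us _ hv))))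
        (A.ns_mem_P b)) fun u hu => ?_
      have h2 := hvn u hu
      rw [A.card_P_inf b hk hq] at h2
      obtain ⟨u', hu', eu⟩ := h2
      simp only [MulEquiv.coe_toMonoidHom, MulAut.conj_apply] at eu
      have h3 : (X.ns [b])⁻¹ * v * X.ns [b] * u * ((X.ns [b])⁻¹ * v * X.ns [b])⁻¹ = u' := by
        calc _ = (X.ns [b])⁻¹ * (v * (X.ns [b] * u * (X.ns [b])⁻¹) * v⁻¹) * X.ns [b] := by group
          _ = _ := by rw [← eu]; group
      rw [h3]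
      exact X.Ug_le_Us _ hu'
    have h3 : X.ns [b] * v * (X.ns [b])⁻¹ ∈ X.Bs := by
      have := mul_mem (mul_mem (X.Ts_le_Bs hsq) h1) (inv_mem (X.Ts_le_Bs hsq))
      convert this using 1
      group
    have h4 : X.ns [b] * v * (X.ns [b])⁻¹ ∈ A.P b ⊓ A.Vs := by
      rw [A.card_P_inf b hk hq]; exact ⟨v, hv, rfl⟩
    have hT := A.Bs_opp h3 (X.Us_le_Bs (A.mem_Vs.1 (Subgroup.mem_inf.1 h4).2))
    have h5 := X.Us_Ts (A.mem_Vs.1 (Subgroup.mem_inf.1 h4).2) (X.ns_conj_Ts A.K0 hT).2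
    calc v = (X.ns [b])⁻¹ * (A.n0 * (A.n0⁻¹ * (X.ns [b] * v * (X.ns [b])⁻¹) * A.n0) * A.n0⁻¹) * X.ns [b] := by group
      _ = 1 := by rw [h5]; group
  have hz1 : z⁻¹ = 1 := by
    refine hnorm _ (inv_mem hz) 1 (one_mem _) fun u hu => ?_
    -- push through the first factor
    set v := (X.ns [b] * X.ns [b]) * u * (X.ns [b] * X.ns [b])⁻¹ with hv
    have hvU : v ∈ X.Ua b := X.conj_Ug [b] hsq hu
    have hv2 : u0 * (t1 * v * t1⁻¹) * u0⁻¹ ∈ X.Ua b :=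
      mul_mem (mul_mem hu0P (X.conj_Ug [b] ht1 hvU)) (inv_mem hu0P)
    have h2 := (hswap _ hv2).2
    convert h2 using 1
    rw [ex, hv]
    group
  rw [inv_eq_one] at hz1
  have hu01 : u0 = 1 := by
    refine hnorm _ hu0P 1 (one_mem _) fun u hu => ?_
    have h1 : (X.ns [b])⁻¹ * t1⁻¹ * (X.ns [b] * u * (X.ns [b])⁻¹) * t1 * X.ns [b] ∈ X.Ua b := by
      show _ ∈ X.Ug [b]
      have := X.conj_Ug [b] (inv_mem (X.ns_conj_Ts [b] ht1).2) hu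
      convert this using 1
      group
    have h2 := (hswap _ h1).1
    convert h2 using 1
    rw [ex, hz1]
    group
  exact ⟨t1, ht1, by rw [ex, hu01, hz1, one_mul, mul_one]⟩

theorem AutCtx.Std.simple_fixed (h : A.Std φ) {p k : ℕ} [Fact p.Prime] (hk : 1 ≤ k) (hq : X.q = p ^ k)
    (hinj : ∀ a b : Fin W.nO, Struct.Nw D (X.S.wpL (X.flatW [a])) = Struct.Nw D (X.S.wpL (X.flatW [b])) → a = b)
    (a : Fin W.nO) :
    (∀ u, φ u ∈ X.Ua a ↔ u ∈ X.Ua a) ∧ ∃ t ∈ X.Ts, φ (X.ns [a]) = t * X.ns [a] := by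
  haveI := X.finite
  have hp2 := (Fact.out : p.Prime).two_le
  obtain ⟨b, hb⟩ := A.map_P (θ := φ) (AutCtx.Std.borel A h) a
  let θ : MulAut ↥X.G1 := MulAut.conj A.n0⁻¹ * φ * MulAut.conj A.n0
  have hθval : ∀ x, θ x = A.n0⁻¹ * φ (A.n0 * x * A.n0⁻¹) * A.n0 := fun x => by simp [θ]
  have hθB : ∀ x, θ x ∈ X.Bs ↔ x ∈ X.Bs := by
    intro x
    have hVn : ∀ y, y ∈ X.Us ↔ A.n0 * y * A.n0⁻¹ ∈ A.Vs := fun y => by
      rw [A.mem_Vs]; simp [mul_assoc]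
    have hθU : ∀ y, θ y ∈ X.Us ↔ y ∈ X.Us := fun y => by
      rw [hVn (θ y), hθval, hVn y, ← h.opp (A.n0 * y * A.n0⁻¹)]
      simp [mul_assoc]
    constructor
    · intro hx
      refine X.mem_Bs_of_normalizes A.rel A.opp fun u hu => (hθU _).1 ?_
      rw [map_mul, map_mul, map_inv]
      exact X.conj_Us hx ((hθU u).2 hu)
    · intro hx
      refine X.mem_Bs_of_normalizes A.rel A.opp fun u hu => ?_
      obtain ⟨y, rfl⟩ := θ.surjective u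
      rw [← map_inv, ← map_mul, ← map_mul, hθU]
      exact X.conj_Us hx ((hθU y).1 hu)
  obtain ⟨c, hc⟩ := A.map_P hθB a
  have hneg : ∀ x, φ x ∈ A.Pneg c ↔ x ∈ A.Pneg a := fun x => by
    rw [A.mem_Pneg, A.mem_Pneg, ← hc, hθval]
    simp [mul_assoc]
  have hU : ∀ u, φ u ∈ X.Ua c ↔ u ∈ X.Ua a := fun u => by
    rw [← A.Ua_eq c hk hq, ← A.Ua_eq a hk hq, Subgroup.mem_inf, Subgroup.mem_inf, h.unip, hneg]
  have hV : ∀ u, φ u ∈ A.P b ⊓ A.Vs ↔ u ∈ A.P a ⊓ A.Vs := fun u => by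
    rw [Subgroup.mem_inf, Subgroup.mem_inf, hb, h.opp]
  obtain rfl : c = a := by
    refine hinj c a ?_
    have hcd : Nat.card ↥(X.Ua a) = Nat.card ↥(X.Ua c) :=
      Nat.card_congr (φ.toEquiv.subtypeEquiv fun u => (hU u).symm)
    rw [Ua, Ua, X.card_Ug, X.card_Ug] at hcd
    exact (Nat.pow_right_injective X.hq hcd).symm
  obtain rfl : b = c := by
    refine hinj b c ?_
    have hcd : Nat.card ↥(A.P c ⊓ A.Vs) = Nat.card ↥(A.P b ⊓ A.Vs) :=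
      Nat.card_congr (φ.toEquiv.subtypeEquiv fun u => (hV u).symm)
    rw [A.card_P_inf c hk hq, A.card_P_inf b hk hq, Subgroup.card_map_of_injective (MulAut.conj _).injective,
      Subgroup.card_map_of_injective (MulAut.conj _).injective, Ua, Ua, X.card_Ug, X.card_Ug] at hcd
    exact (Nat.pow_right_injective X.hq hcd).symm
  exact AutCtx.Std.simple_fixed_aux A h hk hq b hb hneg

theorem AutCtx.fix_ns (h : A.Std φ) (hT : ∀ t ∈ X.Ts, φ t = t) {a : Fin W.nO}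
    (hU : ∀ u ∈ X.Ua a, φ u = u) {τ : ↥X.G1} (hτ : τ ∈ X.Ts) (e : φ (X.ns [a]) = τ * X.ns [a]) :
    φ (X.ns [a]) = X.ns [a] := by
  haveI := X.finite
  obtain ⟨u, hu, hne⟩ : ∃ u ∈ X.Ua a, u ≠ 1 := by
    by_contra hc
    simp only [not_exists, not_and, not_not] at hc
    exact ns_not_mem a (A.not_normalizes (A.ns_mem_P a) fun v hv => by
      rw [hc v hv, mul_one, mul_inv_cancel]; exact one_mem _)
  have hvP : X.ns [a] * u * (X.ns [a])⁻¹ ∈ A.P a :=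
    mul_mem (mul_mem (A.ns_mem_P a) (A.Bs_le_P a (X.Us_le_Bs (X.Ug_le_Us _ hu)))) (inv_mem (A.ns_mem_P a))
  rcases A.mem_P.1 hvP with hB | ⟨b, hb, c, hc, ev⟩
  · exfalso
    have hV : X.ns [a] * u * (X.ns [a])⁻¹ ∈ A.Vs := A.mem_Vs'.2 (X.neg_conj A.opp [a] hu)
    have hT' := A.Bs_opp hB (X.Us_le_Bs (A.mem_Vs.1 hV))
    have h5 := X.Us_Ts (A.mem_Vs.1 hV) (X.ns_conj_Ts A.K0 hT').2
    refine hne ?_
    calc u = (X.ns [a])⁻¹ * (A.n0 * (A.n0⁻¹ * (X.ns [a] * u * (X.ns [a])⁻¹) * A.n0) * A.n0⁻¹) * X.ns [a] := by group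
      _ = 1 := by rw [h5]; group
  obtain ⟨w, hw, s, hs, rfl⟩ := X.Bs_cases hc
  obtain ⟨w', -, y, hy, rfl, hwc⟩ := X.split [a] hw
  set B1' := b * (X.ns [a] * w' * (X.ns [a])⁻¹) * (X.ns [a] * s * (X.ns [a])⁻¹) with hB1
  have hB1B : B1' ∈ X.Bs := mul_mem (mul_mem hb (X.Us_le_Bs hwc)) (X.Ts_le_Bs (X.ns_conj_Ts [a] hs).1)
  set z := s⁻¹ * y * s
  have hz : z ∈ X.Ua a := by
    have := X.conj_Ug [a] (inv_mem hs) hy
    rw [inv_inv] at this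
    exact this
  have eq0 : X.ns [a] * u * (X.ns [a])⁻¹ = B1' * X.ns [a] * z := by rw [ev, hB1]; simp only [z]; group
  obtain ⟨u1, hu1, t1, ht1, eB⟩ := X.Bs_cases hB1B
  rw [eB] at eq0
  have h1 := congrArg φ eq0
  simp only [map_mul, map_inv, e, hU u hu, hU z hz, hT t1 ht1] at h1
  rw [show τ * X.ns [a] * u * (τ * X.ns [a])⁻¹ = τ * (X.ns [a] * u * (X.ns [a])⁻¹) * τ⁻¹ by group, eq0,
    show τ * (u1 * t1 * X.ns [a] * z) * τ⁻¹ = (τ * u1 * τ⁻¹) * (τ * t1 * (X.ns [a] * τ⁻¹ * (X.ns [a])⁻¹)) *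
      X.ns [a] * (τ * z * τ⁻¹) by group,
    show φ u1 * t1 * (τ * X.ns [a]) * z = φ u1 * (t1 * τ) * X.ns [a] * z by group] at h1
  have hq := (X.ns_conj_Ts [a] (inv_mem hτ)).1
  have hu1' : τ * u1 * τ⁻¹ ∈ X.Us := X.conj_Us (X.Ts_le_Bs hτ) hu1
  have htt := mul_mem (mul_mem hτ ht1) hq
  obtain ⟨h2, -⟩ := X.uniq (mul_mem (X.Us_le_Bs hu1') (X.Ts_le_Bs htt))
    (mul_mem (X.Us_le_Bs ((h.unip u1).2 hu1)) (X.Ts_le_Bs (mul_mem ht1 hτ))) (X.conj_Ug [a] hτ hz) hz h1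
  obtain ⟨-, h3⟩ := X.Bs_uniq hu1' ((h.unip u1).2 hu1) htt (mul_mem ht1 hτ) h2
  have hcomm : τ * t1 = t1 * τ := by
    obtain ⟨c1, -, e1⟩ := (show τ.1 ∈ X.T1 from hτ)
    obtain ⟨c2, -, e2⟩ := (show t1.1 ∈ X.T1 from ht1)
    exact Subtype.ext (by rw [Subgroup.coe_mul, Subgroup.coe_mul, ← e1, ← e2, ← map_mul, ← map_mul, mul_comm])
  rw [hcomm, mul_eq_left, mul_inv_eq_one, mul_eq_left, inv_eq_one] at h3
  rw [e, h3, one_mul]

end Tw

end Cfsg.Lib.Chev
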