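import Cfsg.Agent.Chev.Tw.Weyl
import Cfsg.Agent.Chev.BNP
import Cfsg.Agent.BN.Extra
import Cfsg.Agent.Chev.Bruhat

/-! The Tits system of a twisted group. -/

set_option autoImplicit false

open Cfsg.Lie

namespace Cfsg.Lib.Chev

theorem list_prod_mulSingle {ι : Type*} [DecidableEq ι] {M : Type*} [CommMonoid M] (c : ι → M) :
    ∀ L : List ι, L.Nodup →
      (L.map fun i => Pi.mulSingle i (c i)).prod = fun k => if k ∈ L then c k else 1
  | [], _ => by funext k; simp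
  | a :: L, h => by
    rw [List.nodup_cons] at h
    funext k
    rw [List.map_cons, List.prod_cons, list_prod_mulSingle c L h.2, Pi.mul_apply]
    by_cases e : k = a
    · subst e; simp [h.1]
    · simp [Pi.mulSingle_eq_of_ne e, e]

theorem kcyc_iff_head {p : ℕ → ℕ} {Q : ℕ → Prop} : ∀ (L : List ℕ) (h : ℕ), kcyc p h L = true →
    (∀ a ∈ L, (Q (p a) ↔ Q a)) → ∀ a ∈ L, (Q a ↔ Q h)
  | [], _, _, _ => fun _ ha => absurd ha List.not_mem_nil
  | a :: M, h, hc, hQ => by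
    simp only [kcyc, Bool.and_eq_true] at hc
    have ih := kcyc_iff_head M h hc.2 fun b hb => hQ b (List.mem_cons_of_mem _ hb)
    intro b hb
    rcases List.mem_cons.1 hb with rfl | hb
    · rw [← hQ b List.mem_cons_self, Nat.eq_of_beq_eq_true hc.1]
      cases M with
      | nil => rfl
      | cons c M => exact ih c List.mem_cons_self
    · exact ih b hb

variable {D D' : ChevalleyDatum} {C C' : Cert} {W : TwDat} {T : List (List ℤ)} {F : Type*} [Field F]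

namespace Tw

variable (X : Tw D D' C C' W T F)
include X

/-- A product over an orbit of root elements at fundamental roots. -/
noncomputable def gP (a : ℕ) (v : Fin D.rank → F) : GL D.Idx F :=
  X.S.ok.wG ((X.orbF a).map fun i => (C.sr i.val, v i))

/-- A product over an orbit of root elements at negatives of fundamental roots. -/
noncomputable def gN (a : ℕ) (v : Fin D.rank → F) : GL D.Idx F :=
  X.S.ok.wG ((X.orbF a).map fun i => (C.neg (C.sr i.val), v i))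

theorem gP_eq (a : ℕ) (v : Fin D.rank → F) :
    X.gP a v = ((X.orbF a).map fun i => X.S.ok.xG (C.sr i.val) (v i)).prod := by
  simp [gP, Ok.wG, Function.comp_def]

theorem gN_eq (a : ℕ) (v : Fin D.rank → F) :
    X.gN a v = ((X.orbF a).map fun i => X.S.ok.xG (C.neg (C.sr i.val)) (v i)).prod := by
  simp [gN, Ok.wG, Function.comp_def]

/-- The head of an orbit. -/
noncomputable def hd {a : ℕ} (ha : a < W.nO) : Fin D.rank :=
  ⟨(W.orbAt a).headD 0, (X.orb_spec ha).1 _ (X.headD_mem (X.orbAt_ne_nil ha))⟩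

theorem hd_mem {a : ℕ} (ha : a < W.nO) : X.hd ha ∈ X.orbF a :=
  (X.mem_orbF ha).2 (X.headD_mem (X.orbAt_ne_nil ha))

/-- Coordinates compatible with the twisting. -/
def Compat (v : Fin D.rank → F) : Prop := ∀ i, X.f (v i) = v (X.piF i)

theorem orb_y_eq {a : ℕ} (ha : a < W.nO) {v : Fin D.rank → F} (hv : X.Compat v) :
    (X.y (X.orP a) (v (X.hd ha)) = X.gP a v ∧ v (X.hd ha) ∈ X.Allowed (X.orP a)) ∧
    (X.y (X.orN a) (v (X.hd ha)) = X.gN a v ∧ v (X.hd ha) ∈ X.Allowed (X.orN a)) := by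
  let u : ℕ → F := fun i => if h : i < D.rank then v ⟨i, h⟩ else 1
  have hu : ∀ i : Fin D.rank, u i.val = v i := fun i => dif_pos i.isLt
  obtain ⟨hlt, -, hcyc, -⟩ := X.orb_spec ha
  have hne := X.orbAt_ne_nil ha
  have hfu : ∀ i ∈ W.orbAt a, X.f (u i) = u (W.piAt i) := fun i hi => by
    rw [hu ⟨i, hlt i hi⟩]
    exact (hv ⟨i, hlt i hi⟩).trans (hu (X.piF ⟨i, hlt i hi⟩)).symm
  have hhd : (W.orbAt a).headD ((W.orbAt a).headD 0) = (W.orbAt a).headD 0 := by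
    obtain ⟨x, L, e⟩ := List.exists_cons_of_ne_nil hne
    rw [e]; rfl
  obtain ⟨p1, p2⟩ := X.orbW_compat (g := C.sr) (u := u) _ _ hcyc
    fun i hi => ⟨(X.pi_spec (hlt i hi)).2.2.1, hfu i hi⟩
  obtain ⟨m1, m2⟩ := X.orbW_compat (g := fun i => C.neg (C.sr i)) (u := u) _ _ hcyc
    fun i hi => ⟨(X.pi_spec (hlt i hi)).2.2.2.1, hfu i hi⟩
  simp only [hhd, hne, if_false] at p1 p2 m1 m2
  have e : u ((W.orbAt a).headD 0) = v (X.hd ha) := hu (X.hd ha)
  rw [e] at p1 p2 m1 m2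
  refine ⟨⟨?_, p2⟩, ?_, m2⟩
  · rw [y, orP, p1, gP, ← X.orbF_val ha, List.map_map]
    exact congrArg _ (List.map_congr_left fun i _ => Prod.ext rfl (hu i))
  · rw [y, orN, m1, gN, ← X.orbF_val ha, List.map_map]
    exact congrArg _ (List.map_congr_left fun i _ => Prod.ext rfl (hu i))

theorem gP_mem_G1 {a : ℕ} (ha : a < W.nO) {v : Fin D.rank → F} (hv : X.Compat v) : X.gP a v ∈ X.G1 := by
  rw [← (X.orb_y_eq ha hv).1.1]
  exact X.y_mem_G1 ha (Or.inl rfl) (X.orb_y_eq ha hv).1.2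

theorem orP_mem_lev {a : ℕ} (ha : a < W.nO) : X.orP a ∈ X.lev 0 := by
  rw [X.lev_zero]
  exact List.mem_map.2 ⟨a, List.mem_range.2 ha, rfl⟩

theorem gP_mem_U {a : ℕ} (v : Fin D.rank → F) : X.gP a v ∈ D.posUnipotent F := by
  rw [X.gP_eq]
  refine list_prod_mem fun g hg => ?_
  obtain ⟨i, -, rfl⟩ := List.mem_map.1 hg
  exact X.S.xG_mem_U (X.S.sr_pos i.isLt) (X.S.ok.sr_lt i.isLt) _

theorem gN_mem_V {a : ℕ} (v : Fin D.rank → F) : X.gN a v ∈ D.negUnipotent F := by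
  rw [X.gN_eq]
  refine list_prod_mem fun g hg => ?_
  obtain ⟨i, -, rfl⟩ := List.mem_map.1 hg
  have hn : C.neg (C.sr i.val) < D.nroots / 2 := by
    rw [X.S.ok.neg_eq (X.S.ok.sr_lt i.isLt)]
    exact X.S.neg_lt_half (X.S.ok.sr_lt i.isLt) (X.S.sr_pos i.isLt)
  exact Subgroup.subset_closure ⟨_, _, X.S.isNeg_iff.2 hn,
    X.S.ok.val_xG _ _⟩

theorem nJ_conj_gP {a : ℕ} (ha : a < W.nO) (v : Fin D.rank → F) :
    X.nJ a * X.gP a v * (X.nJ a)⁻¹ = X.gN a (fun i => -v i) := by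
  rw [gP, nJ, X.S.nL_conj_wG _ _ (fun p hp => by
    obtain ⟨i, -, rfl⟩ := List.mem_map.1 hp
    exact X.S.ok.sr_lt i.isLt), X.orbF_val ha, List.map_map, gN]
  refine congrArg _ (List.map_congr_left fun i hi => ?_)
  obtain ⟨e1, e2, -, -⟩ := (X.orb_spec ha).2.2.2.2.1 i.val ((X.mem_orbF ha).1 hi)
  simp [e1, e2]

theorem nJ_conj_gN {a : ℕ} (ha : a < W.nO) (v : Fin D.rank → F) :
    X.nJ a * X.gN a v * (X.nJ a)⁻¹ = X.gP a (fun i => -v i) := by
  rw [gN, nJ, X.S.nL_conj_wG _ _ (fun p hp => by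
    obtain ⟨i, -, rfl⟩ := List.mem_map.1 hp
    exact X.S.ok.neg_lt (X.S.ok.sr_lt i.isLt)), X.orbF_val ha, List.map_map, gP]
  refine congrArg _ (List.map_congr_left fun i hi => ?_)
  obtain ⟨-, -, e3, e4⟩ := (X.orb_spec ha).2.2.2.2.1 i.val ((X.mem_orbF ha).1 hi)
  simp [e3, e4]

theorem gN_mem_G1 {a : ℕ} (ha : a < W.nO) {v : Fin D.rank → F} (hv : X.Compat v) : X.gN a v ∈ X.G1 := by
  rw [← (X.orb_y_eq ha hv).2.1]
  exact X.y_mem_G1 ha (Or.inr rfl) (X.orb_y_eq ha hv).2.2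

theorem compat_neg {v : Fin D.rank → F} (hv : X.Compat v) : X.Compat (fun i => -v i) :=
  fun i => by simp only [map_neg, hv i]

/-- The torus part of a product over an orbit. -/
theorem zP_eq {a : ℕ} (ha : a < W.nO) {c : Fin D.rank → Fˣ} (hc : c ∈ X.CT) :
    ∃ t ∈ X.T1, X.zP a c = t * X.nJ a := by
  classical
  refine ⟨((X.orbF a).map fun i => Ok.tG D F (Pi.mulSingle i (c i))).prod, ?_, ?_⟩
  · refine ⟨((X.orbF a).map fun i => Pi.mulSingle i (c i)).prod, fun k => ?_, by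
      rw [map_list_prod, List.map_map]; rfl⟩
    rw [list_prod_mulSingle c _ (X.orbF_nodup ha)]
    simp only [X.pi_mem_iff ha k]
    by_cases hk : k ∈ X.orbF a <;> simp [hk, hc k]
  · rw [nJ, Struct.nL, ← prod_map_mul_of_commute _ _ _ (X.orbF_nodup ha)]
    · refine congrArg List.prod (List.map_congr_left fun i _ => ?_)
      show X.S.ok.nG (D.simple i.val) (c i : F) = _
      rw [X.S.ok.nG_eq_hG_mul i.isLt (c i).ne_zero, X.S.ok.hG_simple_eq_tG]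
    · intro i hi j hj hij
      rw [← X.S.ok.hG_simple_eq_tG]
      have hx := fun t => (X.commute_nG ha hi hj hij t).1
      have hy := fun t => (X.commute_nG ha hi hj hij t).2.1
      exact (((hx _).mul_left (hy _)).mul_left (hx _)).mul_left (((hx _).mul_left (hy _)).mul_left (hx _))

theorem gN_decomp {a : ℕ} (ha : a < W.nO) {v : Fin D.rank → F} (hv : X.Compat v)
    (hv0 : ∀ i ∈ X.orbF a, v i ≠ 0) :
    ∃ c ∈ X.CT, X.gN a v = X.gP a (fun i => (v i)⁻¹) * X.zP a c * X.gP a (fun i => (v i)⁻¹) := by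
  classical
  let c : Fin D.rank → Fˣ := fun i => if h : v i = 0 then 1 else Units.mk0 (-(v i)⁻¹) (by simp [h])
  have hval : ∀ i, v i ≠ 0 → (c i : F) = -(v i)⁻¹ := fun i h => by simp only [c, dif_neg h, Units.val_mk0]
  refine ⟨c, fun i => ?_, ?_⟩
  · by_cases h : v i = 0
    · have h' : v (X.piF i) = 0 := by rw [← hv i, h, map_zero]
      simp [c, h, h']
    · have h' : v (X.piF i) ≠ 0 := by rw [← hv i]; exact (map_ne_zero X.f).2 h
      rw [hval i h, hval _ h', map_neg, map_inv₀, hv i]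
  rw [X.gP_eq, X.gN_eq, zP, ← prod_map_mul_of_commute _ _ _ (X.orbF_nodup ha),
    ← prod_map_mul_of_commute _ _ _ (X.orbF_nodup ha)]
  · refine congrArg List.prod (List.map_congr_left fun i hi => ?_)
    rw [hval i (hv0 i hi), X.S.ok.neg_eq (X.S.ok.sr_lt i.isLt), X.S.ok.sr_eq i.isLt, Ok.nG,
      show (-(-(v i)⁻¹)⁻¹ : F) = v i by rw [inv_neg, inv_inv, neg_neg], ← X.S.ok.xG_inv (D.simple i.val)]
    group
  · intro i hi j hj hij
    rw [X.S.ok.sr_eq j.isLt]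
    have e1 := fun t => ((X.commute_nG ha hi hj hij t).2.2 (v j)⁻¹).1
    have e2 := fun t => ((X.commute_nG ha hi hj hij t).2.2 (v j)⁻¹).2.2.1
    rw [X.S.ok.sr_eq i.isLt]
    exact (e1 _).mul_left (((e1 _).mul_left (e2 _)).mul_left (e1 _))
  · intro i hi j hj hij
    rw [X.S.ok.sr_eq i.isLt]
    exact ((((X.commute_nG ha hi hj hij _).2.2 _).1).mul_right (((X.commute_nG ha hi hj hij _).2.2 _).2.1)).mul_right
      (((X.commute_nG ha hi hj hij _).2.2 _).1)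

/-- The twisted Borel subgroup. -/
noncomputable def B1 : Subgroup (GL D.Idx F) := (D.posUnipotent F ⊓ X.G1) ⊔ X.T1

theorem T1_normalizes_U1 :
    X.T1 ≤ Subgroup.normalizer ((D.posUnipotent F ⊓ X.G1 : Subgroup (GL D.Idx F)) : Set (GL D.Idx F)) := by
  intro t ht
  rw [Subgroup.mem_normalizer_iff]
  intro x
  have h1 := Subgroup.mem_normalizer_iff.1 (X.S.diag_normalises_U (X.T1_le_diag ht)) x
  have h2 : x ∈ X.G1 ↔ t * x * t⁻¹ ∈ X.G1 := by
    rw [Subgroup.mul_mem_cancel_right _ (inv_mem (X.T1_le_G1 ht)), Subgroup.mul_mem_cancel_left _ (X.T1_le_G1 ht)]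
  simp only [Subgroup.mem_inf, h1, h2]

theorem B1_decomp {b : GL D.Idx F} (hb : b ∈ X.B1) :
    ∃ u ∈ D.posUnipotent F ⊓ X.G1, ∃ t ∈ X.T1, b = u * t := by
  have h1 : b ∈ (((D.posUnipotent F ⊓ X.G1) ⊔ X.T1 : Subgroup (GL D.Idx F)) : Set (GL D.Idx F)) := hb
  rw [Subgroup.coe_mul_of_right_le_normalizer_left _ _ X.T1_normalizes_U1] at h1
  obtain ⟨u, hu, t, ht, rfl⟩ := Set.mem_mul.1 h1
  exact ⟨u, hu, t, ht, rfl⟩

theorem B1_le_G1 : X.B1 ≤ X.G1 := sup_le inf_le_right X.T1_le_G1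

theorem B1_le_borel : X.B1 ≤ D.borelSubgroup F :=
  sup_le (fun _ h => X.S.B_le_of h.1) (fun _ h => Subgroup.mem_sup_right (X.T1_le_diag h))

theorem U1_mem {u : GL D.Idx F} (h1 : u ∈ D.posUnipotent F) (h2 : u ∈ X.G1) : u ∈ X.B1 :=
  Subgroup.mem_sup_left (Subgroup.mem_inf.2 ⟨h1, h2⟩)

theorem wpL_rho : ∀ (K : List (Fin W.nO)) (r q : Fin D.nroots), q.val = X.rho r.val →
    (X.S.wpL (X.flatW K) q).val = X.rho (X.S.wpL (X.flatW K) r).val
  | [], r, q, h => by simpa [flatW, Struct.wpL] using h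
  | a :: K, r, q, h => by
    have ih := wpL_rho K r q h
    have hsplit : ∀ x, X.S.wpL (X.flatW (a :: K)) x = X.S.wpL (X.orbF a.val) (X.S.wpL (X.flatW K) x) := fun x => by
      simp [flatW, Struct.wpL]
    rw [hsplit, hsplit, X.S.wpL_val (X.orbF a.val), X.S.wpL_val (X.orbF a.val), X.orbF_val a.isLt, ih]
    exact ((X.orb_spec a.isLt).2.2.2.2.2 _ (Fin.isLt _)).1

theorem orb_pos_iff {a : ℕ} (ha : a < W.nO) (K : List (Fin W.nO)) :
    ∀ i ∈ X.orbF a, (D.nroots / 2 ≤ (X.S.wpL (X.flatW K) (X.S.sp i)).val ↔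
      D.nroots / 2 ≤ (X.S.wpL (X.flatW K) (X.S.sp (X.hd ha))).val) := by
  obtain ⟨hlt, -, hcyc, -⟩ := X.orb_spec ha
  let Q : ℕ → Prop := fun n => ∀ h : n < D.rank, D.nroots / 2 ≤ (X.S.wpL (X.flatW K) (X.S.sp ⟨n, h⟩)).val
  have hQ : ∀ (i : Fin D.rank), Q i.val ↔ D.nroots / 2 ≤ (X.S.wpL (X.flatW K) (X.S.sp i)).val :=
    fun i => ⟨fun h => h i.isLt, fun h _ => h⟩
  have key := kcyc_iff_head (Q := Q) _ _ hcyc fun n hn => by
    show Q (X.piF ⟨n, hlt n hn⟩).val ↔ Q (⟨n, hlt n hn⟩ : Fin D.rank).val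
    rw [hQ, hQ,
      X.wpL_rho K (X.S.sp ⟨n, hlt n hn⟩) (X.S.sp (X.piF ⟨n, hlt n hn⟩)) (X.pi_spec (hlt n hn)).2.1.symm,
      (X.rho_pos (Fin.isLt _)).1]
  intro i hi
  rw [← hQ, ← hQ]
  exact key i.val ((X.mem_orbF ha).1 hi)

theorem act_N1 {M : CoxeterMatrix (Fin W.nO)} (hM : X.RelOK M) {n : GL D.Idx F} (hn : n ∈ X.N1) :
    ∃ K, ∃ t ∈ X.T1, n = t * X.nW K ∧ Act X.S.ok n (X.S.wpL (X.flatW K)) ∧
      (X.S.wpL (X.flatW K) = 1 → n ∈ X.T1) := by
  obtain ⟨φ, -, hker, hgen, hT⟩ := X.weyl hM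
  obtain ⟨L, hL⟩ := M.toCoxeterSystem.wordProd_surjective (φ ⟨n, hn⟩)
  have hK : ∀ L : List (Fin W.nO), φ ⟨X.nW L, X.nW_mem_N1 L⟩ = M.toCoxeterSystem.wordProd L := by
    intro L
    induction L with
    | nil =>
      rw [CoxeterSystem.wordProd_nil, ← map_one φ]
      exact congrArg φ (Subtype.ext (by simp [nW, flatW, Struct.nL]))
    | cons a L ih =>
      rw [CoxeterSystem.wordProd_cons, ← ih, CoxeterMatrix.toCoxeterSystem_simple, ← hgen, ← map_mul]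
      exact congrArg φ (Subtype.ext (X.nW_cons a L))
  have hm : (⟨n, hn⟩ * ⟨X.nW L, X.nW_mem_N1 L⟩⁻¹ : ↥X.N1) ∈ φ.ker := by
    rw [MonoidHom.mem_ker, map_mul, map_inv, hK, hL, mul_inv_cancel]
  rw [hker, Subgroup.mem_subgroupOf] at hm
  have e : n = n * (X.nW L)⁻¹ * X.nW L := (inv_mul_cancel_right _ _).symm
  refine ⟨L, _, hm, e, ?_, fun h1 => ?_⟩
  · have := X.S.act_mul (X.S.act_diag (X.T1_le_diag hm)) (X.S.act_nL (F := F) (X.flatW L))
    rw [one_mul] at this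
    rwa [show (⟨n, hn⟩ * ⟨X.nW L, X.nW_mem_N1 L⟩⁻¹ : ↥X.N1).1 * X.S.nL F (X.flatW L) = n from e.symm] at this
  · rw [e]; exact mul_mem hm (hT L h1)

theorem conj_wG_pos {n : GL D.Idx F} {w : Equiv.Perm (Fin D.nroots)} (ha : Act X.S.ok n w)
    (L : List (ℕ × F)) (hlt : ∀ p ∈ L, p.1 < D.nroots)
    (hpos : ∀ p ∈ L, ∀ h : p.1 < D.nroots, D.nroots / 2 ≤ (w ⟨p.1, h⟩).val) :
    n * X.S.ok.wG L * n⁻¹ ∈ D.posUnipotent F := by
  have : X.S.ok.wG L ∈ (D.posUnipotent F).comap (MulAut.conj n).toMonoidHom := by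
    refine list_prod_mem fun g hg => ?_
    obtain ⟨p, hp, rfl⟩ := List.mem_map.1 hg
    obtain ⟨-, c, -, e⟩ := ha ⟨p.1, hlt p hp⟩
    show n * X.S.ok.xG p.1 p.2 * n⁻¹ ∈ D.posUnipotent F
    rw [(e p.2).1]
    exact X.S.xG_mem_U (hpos p hp (hlt p hp)) (Fin.isLt _) _
  exact this

theorem U1_split {a : ℕ} (ha : a < W.nO) {u : GL D.Idx F} (hu : u ∈ D.posUnipotent F ⊓ X.G1) :
    ∃ v, X.Compat v ∧ X.nJ a * (u * (X.gP a v)⁻¹) * (X.nJ a)⁻¹ ∈ D.posUnipotent F := by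
  classical
  obtain ⟨huU, huG⟩ := hu
  have hm : (1 : ℤ) ≤ 1 := le_rfl
  have hU1 : u ∈ X.S.Uh T F 1 := by rw [X.S.Uh_one X.hT]; exact huU
  have hfix : X.sig u = u := X.G1_le_Fx huG
  let v : Fin D.rank → F := fun i => X.cf u (C.sr i.val)
  have hs1 : ∀ b, b < W.nO → ∀ i ∈ X.orbF b, hgt D T (C.sr i.val) = 1 := fun b hb i hi => by
    have := ((X.lev_spec (X.orP_mem_lev hb)).1 (C.sr i.val) (by
      rw [orP, kmap_eq]; exact List.mem_map.2 ⟨i.val, (X.mem_orbF hb).1 hi, rfl⟩)).2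
    simpa using this
  have hv : X.Compat v := fun i => by
    obtain ⟨b, hb, hib⟩ := X.orb_flat.2 i i.isLt
    have hi : i ∈ X.orbF b := (X.mem_orbF hb).2 hib
    have h := (X.coef_sig hm hU1).2 ⟨C.sr i.val, X.S.ok.sr_lt i.isLt⟩
      ⟨C.sr (X.piF i).val, X.S.ok.sr_lt (X.piF i).isLt⟩ (X.pi_spec i.isLt).2.1.symm (hs1 b hb i hi).le
    rw [hfix, (X.pi_spec i.isLt).2.2.1, one_mul, ← X.cf_val, ← X.cf_val] at h
    exact h.symm
  refine ⟨v, hv, ?_⟩
  let L1 : List ℕ := (X.orbF a).map fun i => C.sr i.val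
  let L2 : List ℕ := (Struct.lvl D T 1).filter fun r => decide (r ∉ L1)
  have hL1 : ∀ r ∈ L1, r < D.nroots ∧ hgt D T r = 1 := fun r hr => by
    obtain ⟨i, hi, rfl⟩ := List.mem_map.1 hr
    exact ⟨X.S.ok.sr_lt i.isLt, hs1 a ha i hi⟩
  have hL2 : ∀ r ∈ L2, r < D.nroots ∧ hgt D T r = 1 ∧ r ∉ L1 := fun r hr => by
    simp only [L2, List.mem_filter, decide_eq_true_iff] at hr
    exact ⟨(Struct.mem_lvl.1 hr.1).1, (Struct.mem_lvl.1 hr.1).2, hr.2⟩
  have hnd1 : L1.Nodup := by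
    refine (X.orbF_nodup ha).map fun i j h => ?_
    by_contra hne
    exact X.S.simple_ne X.hN i j hne h
  have hnd : (L1 ++ L2).Nodup := by
    refine List.nodup_append'.2 ⟨hnd1, List.Nodup.filter _ (List.Nodup.filter _ List.nodup_range),
      fun r h1 h2 => (hL2 r h2).2.2 h1⟩
  have hall : ∀ r ∈ L1 ++ L2, r < D.nroots ∧ hgt D T r = 1 := fun r hr => by
    rcases List.mem_append.1 hr with h | h
    · exact hL1 r h
    · exact ⟨(hL2 r h).1, (hL2 r h).2.1⟩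
  have hgU : X.gP a v ∈ X.S.Uh T F 1 := by rw [X.S.Uh_one X.hT]; exact X.gP_mem_U v
  have hmem : u * (X.gP a v)⁻¹ ∈ X.S.Us T F 1 (L1 ++ L2) := by
    rw [X.S.Us_lvl (fun r => ⟨fun h => Struct.mem_lvl.2 (hall r h), fun h => by
      by_cases h1 : r ∈ L1
      · exact List.mem_append_left _ h1
      · exact List.mem_append_right _ (List.mem_filter.2 ⟨h, by simpa using h1⟩)⟩)]
    exact mul_mem hU1 (inv_mem hgU)
  have h2 := X.S.mem_Us_of_coef X.hT hm L1 L2 hnd hall _ hmem fun r hr => by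
    have hrh := (hL1 r.val hr).2
    rw [X.S.coef_mul X.hT hm r hrh.le hU1 (inv_mem hgU), X.S.coef_inv X.hT hm r hrh.le hgU]
    obtain ⟨i, hi, e⟩ := List.mem_map.1 hr
    have : X.S.coef r (X.gP a v) = v i := by
      refine X.coef_wG_mem hm ?_ (fun p hp => ?_) r hrh.le
        (p := (C.sr i.val, v i)) (List.mem_map.2 ⟨i, hi, rfl⟩) e
      · rw [List.map_map]; exact hnd1
      · obtain ⟨j, hj, rfl⟩ := List.mem_map.1 hp
        exact ⟨X.S.ok.sr_lt j.isLt, (hs1 a ha j hj).ge⟩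
    rw [this, show X.S.coef r u = v i by simp only [v]; rw [e, X.cf_val], add_neg_cancel]
  have hle : X.S.Us T F 1 L2 ≤ (D.posUnipotent F).comap (MulAut.conj (X.nJ a)).toMonoidHom := by
    have hgen : ∀ r, r < D.nroots → 1 ≤ hgt D T r → r ∉ L1 → ∀ t : F,
        X.nJ a * X.S.ok.xG r t * (X.nJ a)⁻¹ ∈ D.posUnipotent F := fun r hr hh hr1 t => by
      rw [nJ, X.S.nL_conj _ hr, X.orbF_val ha]
      have hpos := (X.S.hgt_pos_iff X.hT hr).1 hh
      rcases ((X.orb_spec ha).2.2.2.2.2 r hr).2 with h | ⟨i, hi, rfl⟩ | h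
      · omega
      · exact absurd (List.mem_map.2 ⟨⟨i, (X.orb_spec ha).1 i hi⟩, (X.mem_orbF ha).2 hi, rfl⟩) hr1
      · refine X.S.xG_mem_U h ?_ _
        have := X.S.wpL_val (X.orbF a) ⟨r, hr⟩
        rw [X.orbF_val ha] at this
        exact this ▸ Fin.isLt _
    refine sup_le ((Subgroup.closure_le _).2 ?_) ((Subgroup.closure_le _).2 ?_)
    · rintro x ⟨r, t, hr, rfl⟩
      exact hgen r (hL2 r hr).1 (hL2 r hr).2.1.ge (hL2 r hr).2.2 t
    · rintro x ⟨r, t, hr, hh, rfl⟩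
      exact hgen r hr (by omega) (fun h => by have := (hL1 r h).2; omega) t
  exact hle h2

theorem bn_axiom {M : CoxeterMatrix (Fin W.nO)} (hM : X.RelOK M) {a : ℕ} (ha : a < W.nO)
    {n b : GL D.Idx F} (hn : n ∈ X.N1) (hb : b ∈ X.B1) :
    ∃ x ∈ X.B1, ∃ z ∈ X.B1,
      X.nJ a * b * n = x * (X.nJ a * n) * z ∨ X.nJ a * b * n = x * n * z := by
  obtain ⟨u, hu, t, ht, rfl⟩ := X.B1_decomp hb
  obtain ⟨v, hv, hu'⟩ := X.U1_split ha hu
  set s := X.nJ a with hsdef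
  set g := X.gP a v with hgdef
  set u' := s * (u * g⁻¹) * s⁻¹ with hu'def
  have hsG := X.nJ_mem_G1 ha
  have hgG := X.gP_mem_G1 ha hv
  have hnG := X.N1_le_G1 hn
  have hu1 : u' ∈ X.B1 := X.U1_mem hu' (mul_mem (mul_mem hsG (mul_mem hu.2 (inv_mem hgG))) (inv_mem hsG))
  have ht' : n⁻¹ * t * n ∈ X.B1 := Subgroup.mem_sup_right (by
    have := (Subgroup.mem_normalizer_iff.1 (X.N1_normalizes (inv_mem hn)) t).1 ht
    rwa [inv_inv] at this)
  obtain ⟨K, -, -, -, hact, -⟩ := X.act_N1 hM (inv_mem hn)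
  have hiff := X.orb_pos_iff ha K
  by_cases hA : D.nroots / 2 ≤ (X.S.wpL (X.flatW K) (X.S.sp (X.hd ha))).val
  · refine ⟨u', hu1, n⁻¹ * g * n * (n⁻¹ * t * n), mul_mem (X.U1_mem ?_ ?_) ht', Or.inl (by
      rw [hu'def]; group)⟩
    · have := X.conj_wG_pos hact ((X.orbF a).map fun i => (C.sr i.val, v i))
        (fun p hp => by
          obtain ⟨i, -, rfl⟩ := List.mem_map.1 hp
          exact X.S.ok.sr_lt i.isLt)
        (fun p hp h => by
          obtain ⟨i, hi, rfl⟩ := List.mem_map.1 hp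
          exact (hiff i hi).2 hA)
      rwa [inv_inv] at this
    · exact mul_mem (mul_mem (inv_mem hnG) hgG) hnG
  by_cases h0 : v (X.hd ha) = 0
  · have hg1 : g = 1 := by rw [hgdef, ← (X.orb_y_eq ha hv).1.1, h0, X.y_zero]
    refine ⟨u', hu1, n⁻¹ * t * n, ht', Or.inl ?_⟩
    rw [hu'def, hg1]; group
  have hv0 : ∀ i ∈ X.orbF a, v i ≠ 0 := by
    intro i hi
    let u0 : ℕ → F := fun n => if h : n < D.rank then v ⟨n, h⟩ else 1
    have key := kcyc_iff_head (Q := fun n => u0 n = 0) _ _ (X.orb_spec ha).2.2.1 fun n hn => by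
      have hl := (X.orb_spec ha).1 n hn
      simp only [u0, dif_pos hl, dif_pos (X.pi_spec hl).1]
      rw [show v ⟨W.piAt n, (X.pi_spec hl).1⟩ = X.f (v ⟨n, hl⟩) from (hv ⟨n, hl⟩).symm, map_eq_zero]
    have := key i.val ((X.mem_orbF ha).1 hi)
    simp only [u0, dif_pos i.isLt, dif_pos (X.hd ha).isLt] at this
    exact fun e => h0 ((dif_pos (X.hd ha).isLt).symm.trans (this.1 e))
  set r : Fin D.rank → F := fun i => (-v i)⁻¹ with hrdef
  have hr : X.Compat r := fun i => by simp only [hrdef, map_inv₀, map_neg, hv i]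
  obtain ⟨c, hc, hdec⟩ := X.gN_decomp ha (X.compat_neg hv) fun i hi => neg_ne_zero.2 (hv0 i hi)
  obtain ⟨τ, hτ, hz⟩ := X.zP_eq ha hc
  set P := X.gP a r
  have hsg : s * g = P * τ * s * P * s := by
    have e := X.nJ_conj_gP ha v
    rw [hdec, hz] at e
    calc s * g = s * g * s⁻¹ * s := by group
      _ = _ := by rw [hsdef, hgdef, e]; group
  have hQ : s⁻¹ * P * s = X.gN a (fun i => -r i) := by
    have e := X.nJ_conj_gN ha (fun i => -r i)
    simp only [neg_neg] at e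
    rw [show P = X.gP a r from rfl, ← e, hsdef]; group
  obtain ⟨-, -, hM11⟩ : True ∧ True ∧ s * s ∈ X.T1 := by
    obtain ⟨mask, hm⟩ := (hM ⟨a, ha⟩ ⟨a, ha⟩).2
    have := X.rel_mem hm
    rw [M.diagonal, pow_one] at this
    exact ⟨trivial, trivial, this⟩
  refine ⟨u' * P * τ * (s * s), ?_, n⁻¹ * (s⁻¹ * P * s) * n * (n⁻¹ * t * n), mul_mem (X.U1_mem ?_ ?_) ht',
    Or.inr ?_⟩
  · exact mul_mem (mul_mem (mul_mem hu1 (X.U1_mem (X.gP_mem_U r) (X.gP_mem_G1 ha hr)))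
      (Subgroup.mem_sup_right hτ)) (Subgroup.mem_sup_right hM11)
  · rw [hQ]
    have := X.conj_wG_pos hact ((X.orbF a).map fun i => (C.neg (C.sr i.val), -r i))
      (fun p hp => by
        obtain ⟨i, -, rfl⟩ := List.mem_map.1 hp
        exact X.S.ok.neg_lt (X.S.ok.sr_lt i.isLt))
      (fun p hp h => by
        obtain ⟨i, hi, rfl⟩ := List.mem_map.1 hp
        have hlt : D.neg (C.sr i.val) < D.nroots := by
          rw [← X.S.ok.neg_eq (X.S.ok.sr_lt i.isLt)]; exact h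
        have e : (⟨C.neg (C.sr i.val), h⟩ : Fin D.nroots) = ⟨D.neg (X.S.sp i).val, hlt⟩ :=
          Fin.ext (X.S.ok.neg_eq (X.S.ok.sr_lt i.isLt))
        rw [e]
        refine le_of_le_of_eq ?_ (X.S.wp_neg (X.flatW K) (X.S.sp i) hlt).symm
        exact (X.S.neg_pos (Nat.lt_of_not_le fun hh => hA ((hiff i hi).1 hh))).1)
    rwa [inv_inv] at this
  · exact mul_mem (mul_mem (inv_mem hnG) (mul_mem (mul_mem (inv_mem hsG) (X.gP_mem_G1 ha hr)) hsG)) hnG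
  · calc s * (u * t) * n = u' * (s * g) * t * n := by rw [hu'def]; group
      _ = u' * (P * τ * s * P * s) * t * n := by rw [hsg]
      _ = _ := by group

theorem nJ_conj_B1_ne {a : ℕ} (ha : a < W.nO) (hs : X.nJ a * X.nJ a ∈ X.T1) :
    ∃ b ∈ X.B1, X.nJ a * b * X.nJ a ∉ X.B1 := by
  have h1 : X.Compat (fun _ => (1 : F)) := fun i => map_one _
  refine ⟨X.gP a fun _ => 1, X.U1_mem (X.gP_mem_U _) (X.gP_mem_G1 ha h1), fun hB => ?_⟩
  have h2 : X.gN a (fun _ => -1) ∈ D.borelSubgroup F ⊓ D.negUnipotent F := by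
    refine Subgroup.mem_inf.2 ⟨?_, X.gN_mem_V _⟩
    have := X.B1_le_borel (mul_mem hB (inv_mem (Subgroup.mem_sup_right hs : X.nJ a * X.nJ a ∈ X.B1)))
    rw [mul_inv_rev, show X.nJ a * X.gP a (fun _ => 1) * X.nJ a * ((X.nJ a)⁻¹ * (X.nJ a)⁻¹) =
      X.nJ a * X.gP a (fun _ => 1) * (X.nJ a)⁻¹ by group, X.nJ_conj_gP ha] at this
    exact this
  rw [X.S.B_inf_V X.hN, Subgroup.mem_bot] at h2
  have h3 : X.gP a (fun _ => (1 : F)) = 1 := by
    have e := X.nJ_conj_gP ha (fun _ => 1)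
    rwa [h2, mul_inv_eq_one, mul_eq_left] at e
  obtain ⟨e1, -⟩ := (X.orb_y_eq ha h1).1
  have := (X.cf_y (X.orP_mem_lev ha) (X.orP_mem_lev ha) (1 : F)).1 rfl
  rw [e1, h3, X.cf_one_lev (X.orP_mem_lev ha)] at this
  exact zero_ne_one this

theorem B1_inf_mono {M : CoxeterMatrix (Fin W.nO)} (hM : X.RelOK M) {g : GL D.Idx F} (hg : g ∈ X.N1)
    (hB : g ∈ D.borelSubgroup F) : g ∈ X.T1 := by
  have hd : g ∈ D.diagonalSubgroup F := by
    rw [← X.S.B_inf_N]; exact Subgroup.mem_inf.2 ⟨hB, X.N1_le_mono hg⟩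
  obtain ⟨K, -, -, -, hact, h1⟩ := X.act_N1 hM hg
  exact h1 (X.S.act_unique hact (X.S.act_diag hd))

theorem nJ_inj {a b : ℕ} (ha : a < W.nO) (hb : b < W.nO)
    (h : (X.nJ a)⁻¹ * X.nJ b ∈ D.borelSubgroup F) : a = b := by
  by_contra hne
  have hd : (X.nJ a)⁻¹ * X.nJ b ∈ D.diagonalSubgroup F := by
    rw [← X.S.B_inf_N]
    exact Subgroup.mem_inf.2 ⟨h, mul_mem (inv_mem (X.S.nL_mem_mono _)) (X.S.nL_mem_mono _)⟩
  have e : X.S.wpL (X.orbF b) = X.S.wpL (X.orbF a) := by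
    have h2 := X.S.act_mul (X.S.act_nL (F := F) (X.orbF a)) (X.S.act_diag hd)
    rw [nJ, nJ, mul_inv_cancel_left, mul_one] at h2
    exact X.S.act_unique (X.S.act_nL _) h2
  have hi := X.hd_mem hb
  set i := X.hd hb
  have e1 := congrArg (fun w : Equiv.Perm (Fin D.nroots) => (w (X.S.sp i)).val) e
  simp only [X.S.wpL_val, X.orbF_val ha, X.orbF_val hb] at e1
  rw [show (X.S.sp i).val = C.sr i.val from rfl, ((X.orb_spec hb).2.2.2.2.1 i.val ((X.mem_orbF hb).1 hi)).1] at e1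
  have hsr := X.S.ok.sr_lt i.isLt
  have hneg : C.neg (C.sr i.val) < D.nroots / 2 := by
    rw [X.S.ok.neg_eq hsr]; exact X.S.neg_lt_half hsr (X.S.sr_pos i.isLt)
  rcases ((X.orb_spec ha).2.2.2.2.2 _ hsr).2 with h' | ⟨j, hj, hje⟩ | h'
  · have := X.S.sr_pos i.isLt; omega
  · have : i.val ∈ W.orbAt a := by
      have hij : (⟨j, (X.orb_spec ha).1 j hj⟩ : Fin D.rank) = i := by
        by_contra hne'; exact X.S.simple_ne X.hN _ _ hne' hje
      rw [← hij]; exact hj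
    have hp := (List.nodup_flatMap.1 X.orb_flat.1).2
    have hib := (X.mem_orbF hb).1 hi
    simp only [TwDat.orbAt, List.getD_eq_getElem _ _ ha, List.getD_eq_getElem _ _ hb] at this hib
    rcases Nat.lt_or_gt_of_ne hne with hl | hl
    · exact List.pairwise_iff_getElem.1 hp a b ha hb hl this hib
    · exact List.pairwise_iff_getElem.1 hp b a hb ha hl hib this
  · omega

theorem G1_le_sup : X.G1 ≤ X.B1 ⊔ X.N1 := by
  refine (Subgroup.closure_le _).2 ?_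
  rintro g ⟨a, ha, c, hc, t, ht, rfl⟩
  have hy : X.y c t ∈ X.G1 := X.y_mem_G1 ha hc ht
  rcases hc with rfl | rfl
  · refine Subgroup.mem_sup_left (X.U1_mem ?_ hy)
    rw [X.U_eq]
    exact (X.y_mem_lev (X.orP_mem_lev ha) ht).1
  · have hN : X.nJ a ∈ X.B1 ⊔ X.N1 := Subgroup.mem_sup_right (X.nJ_mem_N1 ha)
    have hlt : ∀ p ∈ X.orbW (X.orN a) t, p.1 < D.nroots :=
      fun p hp => (X.orb_cls ha (Or.inr rfl)).1 _ (X.mem_orbW hp)
    have hU : X.nJ a * X.y (X.orN a) t * (X.nJ a)⁻¹ ∈ D.posUnipotent F := by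
      rw [y, nJ, X.S.nL_conj_wG _ _ hlt, X.orbF_val ha]
      refine list_prod_mem fun z hz => ?_
      rw [List.map_map] at hz
      obtain ⟨p, hp, rfl⟩ := List.mem_map.1 hz
      have hp1 := X.mem_orbW hp
      rw [orN, kmap_eq, List.mem_map] at hp1
      obtain ⟨i, hi, e⟩ := hp1
      simp only [Function.comp_apply]
      rw [← e, ((X.orb_spec ha).2.2.2.2.1 i hi).2.2.1]
      exact X.S.xG_mem_U (X.S.sr_pos ((X.orb_spec ha).1 i hi)) (X.S.ok.sr_lt ((X.orb_spec ha).1 i hi)) _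
    have h1 : X.nJ a * X.y (X.orN a) t * (X.nJ a)⁻¹ ∈ X.B1 ⊔ X.N1 := Subgroup.mem_sup_left
      (X.U1_mem hU (mul_mem (mul_mem (X.nJ_mem_G1 ha) hy) (inv_mem (X.nJ_mem_G1 ha))))
    have h2 := mul_mem (mul_mem (inv_mem hN) h1) hN
    simpa [mul_assoc] using h2

/-- The elements `n_J` of the twisted group. -/
noncomputable def tS {a : ℕ} (ha : a < W.nO) : ↥X.G1 := ⟨X.nJ a, X.nJ_mem_G1 ha⟩

theorem exists_bnPair {M : CoxeterMatrix (Fin W.nO)} (hM : X.RelOK M) :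
    ∃ P : Cfsg.BNPair ↥X.G1, P.B = X.B1.subgroupOf X.G1 ∧ P.N = X.N1.subgroupOf X.G1 ∧
      P.S = {n : ↥X.G1 | ∃ a < W.nO, (n : GL D.Idx F) = X.nJ a} := by
  have hsq : ∀ a, a < W.nO → X.nJ a * X.nJ a ∈ X.T1 := fun a ha => by
    obtain ⟨mask, hm⟩ := (hM ⟨a, ha⟩ ⟨a, ha⟩).2
    have := X.rel_mem hm
    rwa [M.diagonal, pow_one] at this
  refine ⟨{
    B := X.B1.subgroupOf X.G1
    N := X.N1.subgroupOf X.G1
    S := {n : ↥X.G1 | ∃ a < W.nO, (n : GL D.Idx F) = X.nJ a}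
    sup_eq_top := ?_
    conj_mem := ?_
    subset := ?_
    sq_mem := ?_
    inj := ?_
    closure_sup := ?_
    mul_mem_union := ?_
    conj_ne := ?_ }, rfl, rfl, rfl⟩
  · rw [← Subgroup.subgroupOf_sup X.B1_le_G1 X.N1_le_G1, Subgroup.subgroupOf_eq_top]
    exact X.G1_le_sup
  · intro n hn t ht
    simp only [Subgroup.mem_inf, Subgroup.mem_subgroupOf] at hn ht ⊢
    have : (t : GL D.Idx F) ∈ X.T1 := X.B1_inf_mono hM ht.2 (X.B1_le_borel ht.1)
    exact Subgroup.mem_sup_right ((Subgroup.mem_normalizer_iff.1 (X.N1_normalizes hn) _).1 this)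
  · rintro n ⟨a, ha, e⟩
    simp only [SetLike.mem_coe, Subgroup.mem_subgroupOf, e]
    exact X.nJ_mem_N1 ha
  · rintro n ⟨a, ha, e⟩
    simp only [Subgroup.mem_subgroupOf, Subgroup.coe_mul, e]
    exact Subgroup.mem_sup_right (hsq a ha)
  · rintro s ⟨a, ha, e⟩ s' ⟨b, hb, e'⟩ h
    simp only [Subgroup.mem_subgroupOf, Subgroup.coe_mul, Subgroup.coe_inv, e, e'] at h
    exact Subtype.ext (by rw [e, e', X.nJ_inj ha hb (X.B1_le_borel h)])
  · apply le_antisymm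
    · refine sup_le ((Subgroup.closure_le _).2 ?_) inf_le_right
      rintro n ⟨a, ha, e⟩
      simp only [SetLike.mem_coe, Subgroup.mem_subgroupOf, e]
      exact X.nJ_mem_N1 ha
    · intro n hn
      simp only [Subgroup.mem_subgroupOf] at hn
      obtain ⟨K, t, ht, e, -, -⟩ := X.act_N1 hM hn
      have : n = (⟨t, X.T1_le_G1 ht⟩ : ↥X.G1) * (K.map fun a => X.tS a.isLt).prod := by
        refine Subtype.ext ?_
        rw [e, X.nW_eq_prod]
        simp [tS, Function.comp_def]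
      rw [this]
      refine mul_mem (Subgroup.mem_sup_right ?_) (Subgroup.mem_sup_left ?_)
      · simp only [Subgroup.mem_inf, Subgroup.mem_subgroupOf]
        exact ⟨Subgroup.mem_sup_right ht, X.T1_le_N1 ht⟩
      · refine list_prod_mem fun g hg => ?_
        obtain ⟨a, -, rfl⟩ := List.mem_map.1 hg
        exact Subgroup.subset_closure ⟨a, a.isLt, rfl⟩
  · rintro s ⟨a, ha, e⟩ n hn b hb
    simp only [Subgroup.mem_subgroupOf] at hn hb
    obtain ⟨x, hx, z, hz, h⟩ := X.bn_axiom hM ha hn hb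
    simp only [Set.mem_union, DoubleCoset.mem_doubleCoset, SetLike.mem_coe, Subgroup.mem_subgroupOf]
    rcases h with h | h
    · exact Or.inl ⟨⟨x, X.B1_le_G1 hx⟩, hx, ⟨z, X.B1_le_G1 hz⟩, hz, Subtype.ext (by simp [e, h])⟩
    · exact Or.inr ⟨⟨x, X.B1_le_G1 hx⟩, hx, ⟨z, X.B1_le_G1 hz⟩, hz, Subtype.ext (by simp [e, h])⟩
  · rintro s ⟨a, ha, e⟩ h
    obtain ⟨b, hb, hnb⟩ := X.nJ_conj_B1_ne ha (hsq a ha)
    have hbm : (⟨b, X.B1_le_G1 hb⟩ : ↥X.G1) ∈ (X.B1.subgroupOf X.G1 : Set ↥X.G1) := hb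
    have := Set.mem_image_of_mem (fun b : ↥X.G1 => s * b * s) hbm
    rw [h] at this
    apply hnb
    simpa [Subgroup.mem_subgroupOf, e] using this

theorem borel_inf_G1 {M : CoxeterMatrix (Fin W.nO)} (hM : X.RelOK M) :
    D.borelSubgroup F ⊓ X.G1 = X.B1 := by
  refine le_antisymm ?_ (le_inf X.B1_le_borel X.B1_le_G1)
  rintro g ⟨hgB, hgG⟩
  obtain ⟨P, hPB, hPN, -⟩ := X.exists_bnPair hM
  obtain ⟨n, hn, hgn⟩ := Cfsg.Lib.BN.bruhat P ⟨g, hgG⟩
  obtain ⟨b, hb, c, hc, e⟩ := Cfsg.Lib.BN.mem_dc.1 hgn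
  rw [hPB, Subgroup.mem_subgroupOf] at hb hc
  rw [hPN, Subgroup.mem_subgroupOf] at hn
  have e' : g = (b : GL D.Idx F) * (n : GL D.Idx F) * c := by simpa using congrArg Subtype.val e
  have hnB : (n : GL D.Idx F) ∈ D.borelSubgroup F := by
    rw [show (n : GL D.Idx F) = (b : GL D.Idx F)⁻¹ * g * (c : GL D.Idx F)⁻¹ by rw [e']; group]
    exact mul_mem (mul_mem (inv_mem (X.B1_le_borel hb)) hgB) (inv_mem (X.B1_le_borel hc))
  rw [e']
  exact mul_mem (mul_mem hb (Subgroup.mem_sup_right (X.B1_inf_mono hM hn hnB))) hc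

theorem diag_inf_G1 {M : CoxeterMatrix (Fin W.nO)} (hM : X.RelOK M) :
    D.diagonalSubgroup F ⊓ X.G1 = X.T1 := by
  refine le_antisymm ?_ (le_inf X.T1_le_diag X.T1_le_G1)
  intro g hgm
  obtain ⟨hd, hg⟩ : g ∈ D.diagonalSubgroup F ∧ g ∈ X.G1 := Subgroup.mem_inf.1 hgm
  have hB : g ∈ X.B1 := by
    rw [← X.borel_inf_G1 hM]
    exact Subgroup.mem_inf.2 ⟨Subgroup.mem_sup_right hd, hg⟩
  obtain ⟨u, hu, t, ht, rfl⟩ := X.B1_decomp hB
  have h1 : u ∈ D.posUnipotent F ⊓ D.diagonalSubgroup F := by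
    refine Subgroup.mem_inf.2 ⟨hu.1, ?_⟩
    simpa using mul_mem hd (inv_mem (X.T1_le_diag ht))
  rw [X.S.U_inf_H, Subgroup.mem_bot] at h1
  rw [h1, one_mul]
  exact ht

theorem mono_inf_G1 {M : CoxeterMatrix (Fin W.nO)} (hM : X.RelOK M) :
    D.monomialSubgroup F ⊓ X.G1 = X.N1 := by
  refine le_antisymm ?_ (le_inf X.N1_le_mono X.N1_le_G1)
  rintro g ⟨hgN, hgG⟩
  obtain ⟨P, hPB, hPN, -⟩ := X.exists_bnPair hM
  obtain ⟨n, hn, hgn⟩ := Cfsg.Lib.BN.bruhat P ⟨g, hgG⟩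
  obtain ⟨b, hb, c, hc, e⟩ := Cfsg.Lib.BN.mem_dc.1 hgn
  rw [hPB, Subgroup.mem_subgroupOf] at hb hc
  rw [hPN, Subgroup.mem_subgroupOf] at hn
  have e' : g = (b : GL D.Idx F) * (n : GL D.Idx F) * c := by simpa using congrArg Subtype.val e
  obtain ⟨u, hu, t, ht, ec⟩ := X.B1_decomp hc
  have hmove : g = (b : GL D.Idx F) * ((n : GL D.Idx F) * t) * (t⁻¹ * u * t) := by rw [e', ec]; group
  have hU : t⁻¹ * u * t ∈ D.posUnipotent F := by
    have := (Subgroup.mem_normalizer_iff.1 (X.S.diag_normalises_U (inv_mem (X.T1_le_diag ht))) u).1 hu.1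
    rwa [inv_inv] at this
  have hnt : (n : GL D.Idx F) * t ∈ X.N1 := mul_mem hn (X.T1_le_N1 ht)
  have hd := X.S.normal_form_cong (F := F) X.hN (one_mem _) (X.B1_le_borel hb) hgN (X.N1_le_mono hnt)
    (one_mem _) hU (by rw [one_mul, mul_one]; exact hmove)
  have hmem : g⁻¹ * ((n : GL D.Idx F) * t) ∈ X.T1 := by
    rw [← X.diag_inf_G1 hM]
    exact Subgroup.mem_inf.2 ⟨hd, mul_mem (inv_mem hgG) (X.N1_le_G1 hnt)⟩
  rw [show g = ((n : GL D.Idx F) * t) * (g⁻¹ * ((n : GL D.Idx F) * t))⁻¹ by group]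
  exact mul_mem hnt (inv_mem (X.T1_le_N1 hmem))

end Tw

end Cfsg.Lib.Chev
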