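import Cfsg.Agent.Chev.Tw.AutRoot

/-! Root subgroups and representatives inside a subgroup of a twisted group. -/

set_option autoImplicit false
set_option linter.unusedSectionVars false

open Cfsg.Lie

namespace Cfsg.Lib.Chev

variable {D D' : ChevalleyDatum} {C C' : Cert} {W : TwDat} {T : List (List ℤ)} {F : Type*} [Field F]

namespace Tw

variable (X : Tw D D' C C' W T F)

/-- The word carries the orbit `a` into the orbit `b`. -/
def Maps (W : TwDat) (C : Cert) (L : List ℕ) (a b : ℕ) : Prop :=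
  ∀ r ∈ kmap C.sr (W.orbAt a), C.wL (W.flat L) r ∈ kmap C.sr (W.orbAt b)

/-- The conjugated root subgroup lies in `M`. -/
def ConjIn (M : Subgroup ↥X.G1) (K : List (Fin W.nO)) (a : Fin W.nO) : Prop :=
  ∀ u ∈ X.Ua a, X.ns K * u * (X.ns K)⁻¹ ∈ M

/-- Some representative of the word lies in `M`. -/
def RepIn (M : Subgroup ↥X.G1) (K : List (Fin W.nO)) : Prop := ∃ t ∈ X.Ts, t * X.ns K ∈ M

theorem conj_maps {L : List (Fin W.nO)} {a b : Fin W.nO} (h : Maps W C (L.map Fin.val) a.val b.val)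
    {u : ↥X.G1} (hu : u ∈ X.Ua a) : X.ns L * u * (X.ns L)⁻¹ ∈ X.Ua b := by
  have hle : X.S.UPsi F (Struct.Neg D (X.S.wpL (X.flatW [a]))) ≤
      (X.S.UPsi F (Struct.Neg D (X.S.wpL (X.flatW [b])))).comap (MulAut.conj (X.ns L).1).toMonoidHom := by
    refine (Subgroup.closure_le _).2 ?_
    rintro x ⟨r, t, hr, hn, rfl⟩
    have h1 := (X.Neg_single a hr).1 hn
    obtain ⟨-, c, -, e⟩ := X.S.act_nL (F := F) (X.flatW L) r
    show X.S.nL F (X.flatW L) * X.S.ok.xG r.val t * (X.S.nL F (X.flatW L))⁻¹ ∈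
      X.S.UPsi F (Struct.Neg D (X.S.wpL (X.flatW [b])))
    rw [(e t).1]
    have h2 : (X.S.wpL (X.flatW L) r).val ∈ X.orP b := by
      rw [X.S.wpL_val, X.flatW_val]
      exact h r.val h1
    have hpos : D.nroots / 2 ≤ (X.S.wpL (X.flatW L) r).val := by
      obtain ⟨hl, hh⟩ := (X.lev_spec (X.orP_mem_lev b.isLt)).1 _ h2
      exact (X.S.hgt_pos_iff X.hT hl).1 (by omega)
    exact Subgroup.subset_closure ⟨_, _, hpos, (X.Neg_single b hpos).2 h2, rfl⟩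
  exact hle hu

variable {M : Subgroup ↥X.G1} {Mx : CoxeterMatrix (Fin W.nO)} (hM : X.RelOK Mx)
include hM

theorem ns_reverse (K : List (Fin W.nO))
    (h : X.S.wpL (X.flatW (K.reverse ++ K)) = 1) : ∃ t ∈ X.Ts, X.ns K.reverse = t * (X.ns K)⁻¹ := by
  refine ⟨X.ns K.reverse * X.ns K, ?_, by group⟩
  rw [← X.ns_append]
  exact X.ns_one hM h

omit hM in
theorem wpL_flatW_reverse (K : List (Fin W.nO))
    (h : ∀ a : Fin W.nO, X.S.wpL (X.flatW [a]) * X.S.wpL (X.flatW [a]) = 1) :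
    X.S.wpL (X.flatW (K.reverse ++ K)) = 1 := by
  induction K with
  | nil => simp [flatW, Struct.wpL]
  | cons b K ih =>
    have e : X.flatW ((b :: K).reverse ++ b :: K) =
        X.flatW K.reverse ++ X.flatW [b] ++ X.flatW [b] ++ X.flatW K := by simp [flatW]
    rw [e, X.S.wpL_app, X.S.wpL_app, X.S.wpL_app, mul_assoc (X.S.wpL (X.flatW K.reverse)), h, mul_one,
      ← X.S.wpL_app]
    rwa [show X.flatW K.reverse ++ X.flatW K = X.flatW (K.reverse ++ K) by simp [flatW]]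

theorem wp_sq (a : Fin W.nO) : X.S.wpL (X.flatW [a]) * X.S.wpL (X.flatW [a]) = 1 := by
  obtain ⟨mask, hm⟩ := (hM a a).2
  have h1 := X.rel_mem hm
  rw [Mx.diagonal, pow_one] at h1
  have hd : ((X.ns [a]) * (X.ns [a])).1 ∈ D.diagonalSubgroup F := by
    rw [Subgroup.coe_mul, ns_single]
    exact X.T1_le_diag h1
  exact X.S.act_unique (X.S.act_mul (X.act_ns [a]) (X.act_ns [a])) (X.S.act_diag hd)

theorem ns_reverse' (K : List (Fin W.nO)) : ∃ t ∈ X.Ts, X.ns K.reverse = t * (X.ns K)⁻¹ :=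
  X.ns_reverse hM K (X.wpL_flatW_reverse K (X.wp_sq hM))

theorem ConjIn.congr {K K' : List (Fin W.nO)} {a b : Fin W.nO} (h : X.ConjIn M K' b)
    (hm : Maps W C ((K'.reverse ++ K).map Fin.val) a.val b.val) : X.ConjIn M K a := by
  intro u hu
  obtain ⟨t, ht, e⟩ := X.ns_reverse' hM K'
  have h1 := X.conj_maps hm hu
  have h3 := h _ (X.conj_Ug [b] (inv_mem ht) h1)
  convert h3 using 1
  rw [X.ns_append, e]
  group

theorem ConjIn.mul {L K : List (Fin W.nO)} {a : Fin W.nO} (hL : X.RepIn M L) (hK : X.ConjIn M K a) :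
    X.ConjIn M (L ++ K) a := by
  intro u hu
  obtain ⟨t, ht, hg⟩ := hL
  obtain ⟨c, hc, ec⟩ : ∃ c ∈ X.Ts, (X.ns (L ++ K))⁻¹ * t⁻¹ * X.ns (L ++ K) = c :=
    ⟨_, (X.ns_conj_Ts (L ++ K) (inv_mem ht)).2, rfl⟩
  have h1 := mul_mem (mul_mem hg (hK _ (X.conj_Ug [a] hc hu))) (inv_mem hg)
  convert h1 using 1
  rw [← ec, X.ns_append]
  group

theorem RepIn.nil : X.RepIn M [] := ⟨1, one_mem _, by
  rw [one_mul, show X.ns [] = 1 from Subtype.ext (by show X.nW [] = 1; simp [nW_eq_prod])]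
  exact one_mem _⟩

theorem RepIn.append {L K : List (Fin W.nO)} (hL : X.RepIn M L) (hK : X.RepIn M K) : X.RepIn M (L ++ K) := by
  obtain ⟨t, ht, hg⟩ := hL
  obtain ⟨s, hs, hh⟩ := hK
  refine ⟨t * (X.ns L * s * (X.ns L)⁻¹), mul_mem ht (X.ns_conj_Ts L hs).1, ?_⟩
  have := mul_mem hg hh
  convert this using 1
  rw [X.ns_append]
  group

theorem RepIn.of_perm {L K : List (Fin W.nO)} (hL : X.RepIn M L)
    (h : ∀ r < D.nroots, C.wL (W.flat (L.map Fin.val)) r = C.wL (W.flat (K.map Fin.val)) r) : X.RepIn M K := by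
  obtain ⟨t, ht, hg⟩ := hL
  have e : X.S.wpL (X.flatW L) = X.S.wpL (X.flatW K) := Equiv.ext fun r => Fin.ext (by
    rw [X.S.wpL_val, X.S.wpL_val, X.flatW_val, X.flatW_val]
    exact h r.val r.isLt)
  obtain ⟨s, hs, es⟩ := X.ns_eq_of_perm hM e
  exact ⟨t * s, mul_mem ht hs, by rwa [mul_assoc, ← es]⟩

omit hM in
/-- A representative of a reflection as a product from the two root subgroups. -/
theorem exists_rep (a : Fin W.nO) : ∃ t ∈ X.Ts, ∃ x ∈ X.Ua a, ∃ w ∈ X.Ua a, ∃ y ∈ X.Ua a,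
    t * X.ns [a] = x * (X.ns [a] * w * (X.ns [a])⁻¹) * y := by
  have hv : X.Compat (fun _ : Fin D.rank => (-1 : F)) := fun i => by rw [map_neg, map_one]
  have hi : X.Compat (fun i : Fin D.rank => ((-1 : F))⁻¹) := fun i => by rw [map_inv₀, map_neg, map_one]
  obtain ⟨c, hc, he⟩ := X.gN_decomp a.isLt hv fun i _ => neg_ne_zero.2 one_ne_zero
  obtain ⟨t1, ht1, hz⟩ := X.zP_eq a.isLt hc
  have hP : ∀ v, X.Compat v → ∃ h : X.gP a.val v ∈ X.G1, (⟨_, h⟩ : ↥X.G1) ∈ X.Ua a := fun v hv => by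
    refine ⟨X.gP_mem_G1 a.isLt hv, ?_⟩
    obtain ⟨h1, -⟩ := X.orb_y_eq a.isLt hv
    convert X.ya_mem a (v (X.hd a.isLt)) using 1
    exact Subtype.ext ((X.ya_val h1.2).trans h1.1).symm
  obtain ⟨hgi, hgiU⟩ := hP _ hi
  obtain ⟨hgn, hgnU⟩ := hP _ (X.compat_neg hv)
  refine ⟨⟨t1, X.T1_le_G1 ht1⟩, ht1, _, inv_mem hgiU, _, hgnU, _, inv_mem hgiU, Subtype.ext ?_⟩
  simp only [Subgroup.coe_mul, Subgroup.coe_inv, ns_single]
  rw [X.nJ_conj_gP a.isLt]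
  simp only [neg_neg]
  rw [he, hz]
  group

theorem RepIn.refl {K : List (Fin W.nO)} {a : Fin W.nO} (h1 : X.ConjIn M K a)
    (h2 : X.ConjIn M (K ++ [a]) a) : X.RepIn M (K ++ [a] ++ K.reverse) := by
  obtain ⟨t, ht, x, hx, w, hw, y, hy, e⟩ := X.exists_rep a
  have hmem : X.ns K * (t * X.ns [a]) * (X.ns K)⁻¹ ∈ M := by
    have := mul_mem (mul_mem (h1 x hx) (h2 w hw)) (h1 y hy)
    convert this using 1
    rw [e, X.ns_append]
    group
  obtain ⟨s, hs, er⟩ := X.ns_reverse' hM K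
  obtain ⟨c, hc, ec⟩ : ∃ c ∈ X.Ts, X.ns (K ++ [a]) * s⁻¹ * (X.ns (K ++ [a]))⁻¹ = c :=
    ⟨_, (X.ns_conj_Ts (K ++ [a]) (inv_mem hs)).1, rfl⟩
  refine ⟨X.ns K * t * (X.ns K)⁻¹ * c, mul_mem (X.ns_conj_Ts K ht).1 hc, ?_⟩
  convert hmem using 1
  rw [X.ns_append (K ++ [a]) K.reverse, er, ← ec, X.ns_append]
  group

theorem RepIn.conj_torus {L : List (Fin W.nO)} (hL : X.RepIn M L) {k : ↥X.G1} (hk : k ∈ X.Ts) (hkM : k ∈ M) :
    X.ns L * k * (X.ns L)⁻¹ ∈ M := by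
  obtain ⟨t, ht, hg⟩ := hL
  have h1 := mul_mem (mul_mem hg hkM) (inv_mem hg)
  rwa [show t * X.ns L * k * (t * X.ns L)⁻¹ = t * (X.ns L * k * (X.ns L)⁻¹) * t⁻¹ by group,
    X.Ts_comm ht (X.ns_conj_Ts L hk).1, mul_inv_cancel_right] at h1

end Tw

end Cfsg.Lib.Chev
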