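import Cfsg.Agent.Chev.Poincare

/-! The weighted length generating function of the Weyl group along a chain of parabolic subgroups. -/

set_option autoImplicit false

open Cfsg.Lie

namespace Cfsg.Lib.Chev

/-- Weighted sum of the elements satisfying a test, by the raw recursor. -/
noncomputable def kwsum (wt : ℕ → ℕ) (p : ℕ → Bool) (L : List ℕ) : ℕ :=
  @List.rec ℕ (fun _ => ℕ) 0 (fun a _ ih => Bool.rec ih (Nat.add (wt a) ih) (p a)) L

theorem kwsum_eq (wt : ℕ → ℕ) (p : ℕ → Bool) : ∀ L : List ℕ, kwsum wt p L = ((L.filter p).map wt).sum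
  | [] => rfl
  | a :: L => by
    have e : kwsum wt p (a :: L) = Bool.rec (kwsum wt p L) (Nat.add (wt a) (kwsum wt p L)) (p a) := rfl
    rw [e, List.filter_cons]
    cases p a <;> simp [kwsum_eq wt p L]

/-- Weighted number of positive roots made negative by a representative. -/
noncomputable def Lev.cntW (C : Cert) (wt : ℕ → ℕ) (V : Lev) (a : ℕ) : ℕ :=
  kwsum wt (fun r => Nat.blt (V.im a r) (Nat.div C.n 2)) (krange (Nat.div C.n 2) (Nat.div C.n 2))

variable {D : ChevalleyDatum} {C : Cert}

/-- Weighted number of positive roots made negative. -/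
noncomputable def NwW (D : ChevalleyDatum) (wt : ℕ → ℕ) (w : Equiv.Perm (Fin D.nroots)) : ℕ :=
  ∑ r ∈ Finset.univ.filter fun r : Fin D.nroots => D.nroots / 2 ≤ r.val ∧ (w r).val < D.nroots / 2, wt r.val

namespace Struct

open scoped Classical in
/-- The weighted length generating function of a parabolic subgroup, at `q`. -/
noncomputable def PsumW (S : Struct D C) (wt : ℕ → ℕ) (k q : ℕ) : ℕ :=
  ∑ w : ↥(S.WJ k), q ^ NwW D wt (w : Equiv.Perm _)

theorem PsumW_zero (S : Struct D C) (wt : ℕ → ℕ) (q : ℕ) : S.PsumW wt 0 q = 1 := by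
  classical
  have h : S.WJ 0 = ⊥ := by simp [WJ]
  haveI : Unique ↥(S.WJ 0) :=
    { default := 1
      uniq := fun a => Subtype.ext (Subgroup.mem_bot.1 (h.le a.2)) }
  rw [PsumW, Fintype.sum_unique]
  have hv : ((default : ↥(S.WJ 0)) : Equiv.Perm (Fin D.nroots)) = 1 := Subgroup.mem_bot.1 (h.le (Subtype.prop _))
  rw [hv]
  have : NwW D wt (1 : Equiv.Perm (Fin D.nroots)) = 0 := by
    rw [NwW, Finset.sum_eq_zero]
    intro r hr
    have h' := (Finset.mem_filter.1 hr).2
    have h1 : r.val < D.nroots / 2 := h'.2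
    omega
  rw [this, pow_zero]

theorem PsumW_succ (S : Struct D C) (wt : ℕ → ℕ) (hwt : ∀ i < D.rank, ∀ r < D.nroots, wt (C.w i r) = wt r)
    {k : ℕ} {V : Lev} (hV : V.okAll C k = true) (q : ℕ) :
    S.PsumW wt (k + 1) q = S.PsumW wt k q * ((List.range V.num).map fun a => q ^ V.cntW C wt a).sum := by
  classical
  simp only [Lev.okAll, Lev.okSub, Lev.okImg, Lev.okSign, Lev.okNext, Lev.okDist, Bool.and_eq_true,
    kall_iff, krange_eq, List.mem_range'_1, Nat.zero_add, Nat.zero_le, true_and, Nat.blt, Nat.ble_eq,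
    Nat.succ_le_iff, beq_iff_eq, Bool.not_eq_true'] at hV
  obtain ⟨⟨⟨⟨⟨hk, hsubj, hsubn⟩, hnum, himg⟩, hsign⟩, hnext⟩, hdist⟩ := hV
  rw [S.ok.n_eq] at hsubn himg
  have hkl : k < D.rank := S.ok.l_eq ▸ hk
  -- the representatives as permutations
  have hu : ∀ a, a < V.num → ∃ u, u ∈ S.WJ (k + 1) ∧ ∀ s : Fin D.nroots, V.im a s = (u s).val := by
    intro a
    induction a using Nat.strong_induction_on with
    | _ a ih =>
      intro ha
      have h1 := himg a ha
      rcases eq_or_ne a 0 with rfl | ha0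
      · refine ⟨1, one_mem _, fun s => ?_⟩
        simp only [Nat.beq_refl, kall_iff, krange_eq, List.mem_range'_1] at h1
        exact Nat.eq_of_beq_eq_true (h1 s.val ⟨Nat.zero_le _, by omega⟩)
      · have hb : Nat.beq a 0 = false := by
          cases hq : Nat.beq a 0
          · rfl
          · exact absurd (Nat.eq_of_beq_eq_true hq) ha0
        simp only [hb, Bool.and_eq_true, kall_iff, krange_eq, List.mem_range'_1, Nat.blt, Nat.ble_eq] at h1
        obtain ⟨⟨h2, h3⟩, h4⟩ := h1
        obtain ⟨u, hu, hus⟩ := ih (V.par.getD a (0, 0)).2 h2 (lt_trans h2 ha)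
        refine ⟨S.wp ⟨(V.par.getD a (0, 0)).1, by omega⟩ * u,
          mul_mem (Subgroup.subset_closure ⟨_, Nat.lt_succ_of_le h3, rfl⟩) hu, fun s => ?_⟩
        rw [Equiv.Perm.mul_apply, wp_val, ← hus s]
        exact Nat.eq_of_beq_eq_true (h4 s.val ⟨Nat.zero_le _, by omega⟩)
  choose u hu husem using hu
  -- the subsystem
  let Sub : Fin D.nroots → Prop := fun r => V.inSub r.val = true
  have hsub_w : ∀ (i : Fin D.rank), i.val < k → ∀ r, Sub (S.wp i r) ↔ Sub r := by
    intro i hi r
    have := (hsubj i.val hi).2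
    rw [S.ok.n_eq] at this
    show V.inSub (C.w i.val r.val) = true ↔ _
    rw [this r.val r.isLt]
  have hsub_v : ∀ v ∈ S.WJ k, ∀ r, (Sub (v r) ↔ Sub r) ∧
      (D.nroots / 2 ≤ r.val → ¬ Sub r → D.nroots / 2 ≤ (v r).val) := by
    intro v hv
    obtain ⟨L, hL, rfl⟩ := S.exists_word_WJ hv
    induction L with
    | nil => exact fun r => ⟨Iff.rfl, fun h _ => h⟩
    | cons i L ih =>
      intro r
      have hi := hL i List.mem_cons_self
      obtain ⟨ih1, ih2⟩ := ih (fun x hx => hL x (List.mem_cons_of_mem _ hx))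
        (S.wpL_mem_WJ fun x hx => hL x (List.mem_cons_of_mem _ hx)) r
      have e : S.wpL (i :: L) r = S.wp i (S.wpL L r) := by simp [wpL]
      rw [e, hsub_w i hi, ih1]
      refine ⟨Iff.rfl, fun hr hns => ?_⟩
      rw [wp_val]
      refine S.pos_w i.isLt (ih2 hr hns) (Fin.isLt _) fun hcon => hns (ih1.1 ?_)
      show V.inSub (S.wpL L r).val = true
      rw [hcon]
      exact (hsubj i.val hi).1
  have hsub_neg : ∀ (r : Fin D.nroots) (hr : D.neg r.val < D.nroots), Sub ⟨D.neg r.val, hr⟩ ↔ Sub r := by
    intro r hr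
    show V.inSub (D.neg r.val) = true ↔ _
    rw [← S.ok.neg_eq r.isLt, hsubn r.val r.isLt]
  have hW : ∀ w, w ∈ S.WJ (k + 1) → ∀ (r : Fin D.nroots) (hr : D.neg r.val < D.nroots),
      (w ⟨D.neg r.val, hr⟩).val = D.neg (w r).val := by
    intro w hw r hr
    obtain ⟨L, -, rfl⟩ := S.exists_word_WJ hw
    exact S.wp_neg L r hr
  have hs := S.hsum
  have hneg_flip : ∀ r : Fin D.nroots, r.val < D.nroots / 2 ↔ D.nroots / 2 ≤ D.neg r.val := fun r => by
    have := (S.order_row r.isLt).1; omega
  have hupos : ∀ a (ha : a < V.num), ∀ r : Fin D.nroots, Sub r →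
      ((u a ha r).val < D.nroots / 2 ↔ r.val < D.nroots / 2) := by
    intro a ha r hr
    have hpos : ∀ r : Fin D.nroots, Sub r → D.nroots / 2 ≤ r.val → D.nroots / 2 ≤ (u a ha r).val := by
      intro r hr hge
      have e : Nat.div C.n 2 = D.nroots / 2 := by rw [S.ok.n_eq]; rfl
      have h1 := hsign a ha r.val (by rw [e]; omega)
      rw [e] at h1
      simp only [Bool.or_eq_true, Bool.not_eq_true', Nat.ble_eq] at h1
      rcases h1 with h1 | h1
      · have hr' : V.inSub r.val = true := hr
        rw [h1] at hr'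
        exact Bool.noConfusion hr'
      · rw [← husem a ha r]; exact h1
    refine ⟨fun h => ?_, fun h => ?_⟩
    · by_contra hge
      have := hpos r hr (Nat.le_of_not_lt hge)
      omega
    · have hn : D.neg r.val < D.nroots := by have := (S.order_row r.isLt).1; omega
      have h1 := hpos ⟨D.neg r.val, hn⟩ ((hsub_neg r hn).2 hr) ((hneg_flip r).1 h)
      rw [hW _ (hu a ha) r hn] at h1
      exact (hneg_flip _).2 h1
  have hwv : ∀ v ∈ S.WJ k, ∀ r : Fin D.nroots, wt (v r).val = wt r.val := by
    intro v hv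
    obtain ⟨L, -, rfl⟩ := S.exists_word_WJ hv
    clear hv
    induction L with
    | nil => exact fun r => rfl
    | cons i L ih =>
      intro r
      rw [show S.wpL (i :: L) r = S.wp i (S.wpL L r) by simp [wpL], wp_val, hwt i i.isLt _ (Fin.isLt _), ih r]
  have hadd : ∀ a (ha : a < V.num), ∀ v ∈ S.WJ k, NwW D wt (u a ha * v) = NwW D wt (u a ha) + NwW D wt v := by
    intro a ha v hv
    let P0 : Finset (Fin D.nroots) := Finset.univ.filter fun r => D.nroots / 2 ≤ r.val
    have hN : ∀ w : Equiv.Perm (Fin D.nroots),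
        NwW D wt w = ((P0.filter fun r => Sub r).filter fun r => (w r).val < D.nroots / 2).sum (fun r => wt r.val) +
          ((P0.filter fun r => ¬ Sub r).filter fun r => (w r).val < D.nroots / 2).sum (fun r => wt r.val) := by
      intro w
      rw [← Finset.sum_union (by
        rw [Finset.disjoint_left]; intro r; simp only [Finset.mem_filter]; tauto)]
      unfold NwW
      refine Finset.sum_congr ?_ fun _ _ => rfl
      ext r
      simp only [P0, Finset.mem_union, Finset.mem_filter, Finset.mem_univ, true_and]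
      tauto
    rw [hN (u a ha * v), hN (u a ha), hN v]
    have e1 : ((P0.filter fun r => Sub r).filter fun r => (u a ha r).val < D.nroots / 2) = ∅ := by
      rw [Finset.filter_eq_empty_iff]
      intro r hr
      simp only [P0, Finset.mem_filter, Finset.mem_univ, true_and] at hr
      rw [hupos a ha r hr.2]
      omega
    have e2 : ((P0.filter fun r => ¬ Sub r).filter fun r => (v r).val < D.nroots / 2) = ∅ := by
      rw [Finset.filter_eq_empty_iff]
      intro r hr
      simp only [P0, Finset.mem_filter, Finset.mem_univ, true_and] at hr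
      have := (hsub_v v hv r).2 hr.1 hr.2
      omega
    have e3 : ((P0.filter fun r => Sub r).filter fun r => ((u a ha * v) r).val < D.nroots / 2) =
        ((P0.filter fun r => Sub r).filter fun r => (v r).val < D.nroots / 2) := by
      refine Finset.filter_congr fun r hr => ?_
      simp only [P0, Finset.mem_filter, Finset.mem_univ, true_and] at hr
      rw [Equiv.Perm.mul_apply]
      exact hupos a ha _ ((hsub_v v hv r).1.2 hr.2)
    have e4 : ((P0.filter fun r => ¬ Sub r).filter fun r => ((u a ha * v) r).val < D.nroots / 2).sum (fun r => wt r.val) =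
        ((P0.filter fun r => ¬ Sub r).filter fun r => (u a ha r).val < D.nroots / 2).sum (fun r => wt r.val) := by
      refine Finset.sum_bij' (fun r _ => v r) (fun r _ => v⁻¹ r) ?_ ?_ ?_ ?_ ?_
      · intro r hr
        simp only [P0, Finset.mem_filter, Finset.mem_univ, true_and] at hr ⊢
        exact ⟨⟨(hsub_v v hv r).2 hr.1.1 hr.1.2, fun h => hr.1.2 ((hsub_v v hv r).1.1 h)⟩, hr.2⟩
      · intro r hr
        simp only [P0, Finset.mem_filter, Finset.mem_univ, true_and] at hr ⊢
        refine ⟨⟨(hsub_v _ (inv_mem hv) r).2 hr.1.1 hr.1.2,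
          fun h => hr.1.2 ((hsub_v _ (inv_mem hv) r).1.1 h)⟩, ?_⟩
        rw [Equiv.Perm.mul_apply, Equiv.Perm.inv_def, Equiv.apply_symm_apply]
        exact hr.2
      · intro r _; simp
      · intro r _; simp
      · intro r _; exact (hwv v hv r).symm
    rw [e1, e2, e3, e4, Finset.sum_empty]
    ring
  have hcnt : ∀ a (ha : a < V.num), NwW D wt (u a ha) = V.cntW C wt a := by
    intro a ha
    have e : Nat.div C.n 2 = D.nroots / 2 := by rw [S.ok.n_eq]; rfl
    have hz : ∀ L : List ℕ, kwsum wt (fun r => Nat.blt (V.im a r) (D.nroots / 2)) L =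
        ((L.filter fun r => Nat.blt (V.im a r) (D.nroots / 2)).map wt).sum := fun L => kwsum_eq _ _ L
    rw [Lev.cntW, e, hz, krange_eq, ← List.sum_toFinset _ (List.Nodup.filter _ List.nodup_range'), NwW]
    refine Finset.sum_bij (fun r _ => r.val) ?_ (fun r _ s _ h => Fin.ext h) ?_ (fun r _ => rfl)
    · intro r hr
      simp only [Finset.mem_filter, Finset.mem_univ, true_and] at hr
      simp only [List.mem_toFinset, List.mem_filter, List.mem_range'_1, Nat.blt, Nat.ble_eq, husem a ha r]
      exact ⟨⟨hr.1, by omega⟩, hr.2⟩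
    · intro b hb
      simp only [List.mem_toFinset, List.mem_filter, List.mem_range'_1, Nat.blt, Nat.ble_eq] at hb
      refine ⟨⟨b, by omega⟩, ?_, rfl⟩
      simp only [Finset.mem_filter, Finset.mem_univ, true_and, ← husem a ha ⟨b, by omega⟩]
      exact ⟨hb.1.1, hb.2⟩
  have hle : S.WJ k ≤ S.WJ (k + 1) := Subgroup.closure_mono fun g ⟨i, hi, e⟩ => ⟨i, by omega, e⟩
  let f : ↥(S.WJ k) × Fin V.num → ↥(S.WJ (k + 1)) :=
    fun p => ⟨u p.2.val p.2.isLt * p.1.1, mul_mem (hu _ _) (hle p.1.2)⟩
  have hf : Function.Bijective f := by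
    constructor
    · rintro ⟨⟨v, hv⟩, ⟨a, ha⟩⟩ ⟨⟨v', hv'⟩, ⟨b, hb⟩⟩ e
      have e' : u a ha * v = u b hb * v' := congrArg Subtype.val e
      have hx : u b hb = u a ha * (v * v'⁻¹) := by rw [← mul_assoc, e', mul_inv_cancel_right]
      obtain ⟨L, hL, hLx⟩ := S.exists_word_WJ (mul_mem hv (inv_mem hv'))
      have hx1 : v * v'⁻¹ = 1 := by
        rw [hLx]
        refine S.eq_one_of_simple_pos k _ L rfl hL fun j hj => ?_
        rw [← hLx]
        by_contra hcon
        have hsubj' : Sub (S.sp j) := (hsubj j.val hj).1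
        have h1 := (hupos a ha _ ((hsub_v _ (mul_mem hv (inv_mem hv')) (S.sp j)).1.2 hsubj')).2
          (Nat.lt_of_not_le hcon)
        have h2 := hupos b hb _ hsubj'
        rw [hx, Equiv.Perm.mul_apply] at h2
        have h3 : (S.sp j).val < D.nroots / 2 := h2.1 h1
        have : D.nroots / 2 ≤ (S.sp j).val := S.sr_pos j.isLt
        omega
      have hvv : v = v' := mul_inv_eq_one.1 hx1
      subst hvv
      have hab : u a ha = u b hb := mul_right_cancel e'
      have heq : a = b := by
        by_contra hne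
        have key : ∀ a b (ha : a < V.num) (hb : b < V.num), b < a → u a ha ≠ u b hb := by
          intro a b ha hb hlt hab
          have h5 : ∀ j < C.l, Nat.beq (V.im a (C.sr j)) (V.im b (C.sr j)) = true := fun j hj => by
            have hj' : j < D.rank := S.ok.l_eq ▸ hj
            have e1 := husem a ha (S.sp ⟨j, hj'⟩)
            have e2 := husem b hb (S.sp ⟨j, hj'⟩)
            rw [show (S.sp ⟨j, hj'⟩).val = C.sr j from rfl] at e1 e2
            rw [e1, e2, hab, Nat.beq_refl]
          have h4 := hdist a ha b hlt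
          rw [(kall_iff _ _).2 fun j hj => h5 j (by rw [List.mem_range'_1] at hj; omega)] at h4
          exact Bool.noConfusion h4
        rcases Nat.lt_or_gt_of_ne hne with h | h
        · exact key b a hb ha h hab.symm
        · exact key a b ha hb h hab
      subst heq
      rfl
    · intro w
      have key : ∀ w ∈ S.WJ (k + 1), ∃ (v : ↥(S.WJ k)) (a : ℕ) (ha : a < V.num), u a ha * v.1 = w := by
        intro w hw
        obtain ⟨L, hL, rfl⟩ := S.exists_word_WJ hw
        clear hw
        induction L with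
        | nil =>
          refine ⟨1, 0, hnum, ?_⟩
          have h1 := himg 0 hnum
          simp only [Nat.beq_refl, kall_iff, krange_eq, List.mem_range'_1] at h1
          have : u 0 hnum = 1 := Equiv.ext fun s => Fin.ext (by
            rw [← husem 0 hnum s]
            exact Nat.eq_of_beq_eq_true (h1 s.val ⟨Nat.zero_le _, by omega⟩))
          simp [this, wpL]
        | cons i L ih =>
          obtain ⟨v, a, ha, e⟩ := ih fun x hx => hL x (List.mem_cons_of_mem _ hx)
          have hi : i.val < k + 1 := hL i List.mem_cons_self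
          obtain ⟨⟨hb, hq2⟩, hj⟩ := hnext a ha i.val hi
          rw [S.ok.l_eq] at hj
          set qq := (V.nx.getD a []).getD i.val (0, 0)
          obtain ⟨x, hx, hxs⟩ : ∃ x ∈ S.WJ k, ∀ j : Fin D.rank, (x (S.sp j)).val =
              Bool.rec (C.w qq.2 (C.sr j)) (C.sr j) (Nat.beq qq.2 k) := by
            cases hq : Nat.beq qq.2 k with
            | true => exact ⟨1, one_mem _, fun j => rfl⟩
            | false =>
              have hlt : qq.2 < k := lt_of_le_of_ne hq2 (Nat.ne_of_beq_eq_false hq)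
              exact ⟨S.wp ⟨qq.2, by omega⟩, Subgroup.subset_closure ⟨_, hlt, rfl⟩, fun j => rfl⟩
          have heq : S.wp i * u a ha = u qq.1 hb * x := by
            refine S.ext_simple (mul_mem (Subgroup.subset_closure ⟨i, rfl⟩) (S.WJ_le_WG _ (hu a ha)))
              (mul_mem (S.WJ_le_WG _ (hu _ hb)) (S.WJ_le_WG _ hx)) fun j => Fin.ext ?_
            have h6 := Nat.eq_of_beq_eq_true (hj j.val j.isLt)
            rw [← hxs j, husem qq.1 hb, show C.sr j.val = (S.sp j).val from rfl, husem a ha] at h6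
            rw [Equiv.Perm.mul_apply, Equiv.Perm.mul_apply, wp_val]
            exact h6
          refine ⟨⟨x * v.1, mul_mem hx v.2⟩, qq.1, hb, ?_⟩
          show u qq.1 hb * (x * v.1) = _
          rw [← mul_assoc, ← heq, mul_assoc, e]
          simp [wpL]
      obtain ⟨v, a, ha, e⟩ := key w.1 w.2
      exact ⟨(v, ⟨a, ha⟩), Subtype.ext e⟩
  have hbij := (Equiv.ofBijective f hf).sum_comp fun w : ↥(S.WJ (k + 1)) => q ^ NwW D wt (w : Equiv.Perm _)
  rw [PsumW, ← hbij, Fintype.sum_prod_type, PsumW, Finset.sum_mul]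
  refine Finset.sum_congr rfl fun v _ => ?_
  rw [show ((List.range V.num).map fun a => q ^ V.cntW C wt a).sum = ∑ a : Fin V.num, q ^ V.cntW C wt a.val by
    rw [← List.map_coe_finRange_eq_range, List.map_map, ← List.sum_ofFn, List.ofFn_eq_map]; rfl,
    Finset.mul_sum]
  refine Finset.sum_congr rfl fun a _ => ?_
  show q ^ NwW D wt (u a.val a.isLt * v.1) = _
  rw [hadd a.val a.isLt v.1 v.2, pow_add, hcnt a.val a.isLt, mul_comm]

end Struct

end Cfsg.Lib.Chev
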