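import Cfsg.Agent.Chev.Tw.BN
import Cfsg.Agent.Chev.Tw.PsumW
import Cfsg.Agent.Chev.Orders

/-! The order of a twisted group. -/

set_option autoImplicit false

open Cfsg.Lie

namespace Cfsg.Lib.Chev

namespace TwDat

/-- The size of the fibre of a target root. -/
noncomputable def wt (W : TwDat) (n s : ℕ) : ℕ := kcount (fun r => Nat.beq (W.prAt r) s) (krange 0 n)

/-- The projection respects positivity. -/
noncomputable def okSgn (W : TwDat) (n n' : ℕ) : Bool :=
  kall (fun r => Nat.ble (Nat.div n 2) r == Nat.ble (Nat.div n' 2) (W.prAt r)) (krange 0 n)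

end TwDat

/-- The product of the weighted generating functions. -/
noncomputable def levsPolyW (C : Cert) (wt : ℕ → ℕ) (Ls : List Lev) : List ℤ :=
  @List.rec Lev (fun _ => List ℤ) [1] (fun V _ ih =>
    pmul (@List.rec ℕ (fun _ => List ℤ) [] (fun a _ r => padd (pmono (V.cntW C wt a)) r) (krange 0 V.num)) ih) Ls

variable {D D' : ChevalleyDatum} {C C' : Cert} {W : TwDat} {T : List (List ℤ)} {F : Type*} [Field F]

namespace Struct

theorem PsumW_levs (S : Struct D C) (wt : ℕ → ℕ) (hwt : ∀ i < D.rank, ∀ r < D.nroots, wt (C.w i r) = wt r)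
    (q : ℕ) : ∀ (Ls : List Lev) (k : ℕ), okLevs C Ls k = true →
    (S.PsumW wt (k + Ls.length) q : ℤ) = S.PsumW wt k q * peval (levsPolyW C wt Ls) (q : ℤ)
  | [], k, _ => by simp [levsPolyW, peval]
  | V :: Ls, k, h => by
    have h' : (V.okAll C k && okLevs C Ls (Nat.add k 1)) = true := h
    rw [Bool.and_eq_true] at h'
    have key : ∀ L : List ℕ,
        peval (@List.rec ℕ (fun _ => List ℤ) [] (fun a _ r => padd (pmono (V.cntW C wt a)) r) L) (q : ℤ) =
          (((L.map fun a => q ^ V.cntW C wt a).sum : ℕ) : ℤ) := by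
      intro L
      induction L with
      | nil => simp [peval]
      | cons a L ih =>
        rw [List.map_cons, List.sum_cons, Nat.cast_add, Nat.cast_pow, ← ih, ← peval_pmono, ← peval_padd]
    have e : levsPolyW C wt (V :: Ls) = pmul (@List.rec ℕ (fun _ => List ℤ) []
        (fun a _ r => padd (pmono (V.cntW C wt a)) r) (krange 0 V.num)) (levsPolyW C wt Ls) := rfl
    rw [List.length_cons, show k + (Ls.length + 1) = (k + 1) + Ls.length by omega,
      PsumW_levs S wt hwt q Ls (k + 1) h'.2, S.PsumW_succ wt hwt h'.1, e, peval_pmul, key, krange_eq,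
      ← List.range_eq_range', Nat.cast_mul, mul_assoc]

theorem PsumW_eval (S : Struct D C) (wt : ℕ → ℕ) (hwt : ∀ i < D.rank, ∀ r < D.nroots, wt (C.w i r) = wt r)
    {Ls : List Lev} {ds : List ℕ} (h : okPoincare C Ls ds = true) (q : ℕ) :
    (S.PsumW wt D.rank q : ℤ) = peval (levsPolyW C wt Ls) (q : ℤ) := by
  simp only [okPoincare, Bool.and_eq_true] at h
  have hlen : Ls.length = D.rank := (Nat.eq_of_beq_eq_true h.1.2).trans S.ok.l_eq
  have hP := S.PsumW_levs wt hwt q Ls 0 h.1.1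
  rwa [Nat.zero_add, hlen, S.PsumW_zero, Nat.cast_one, one_mul] at hP

end Struct

namespace Tw

variable (X : Tw D D' C C' W T F)
include X

theorem sum_pos_eq (P : Fin D.nroots → Prop) [DecidablePred P] :
    (Finset.univ.filter fun r : Fin D.nroots => D.nroots / 2 ≤ r.val ∧ P r).card =
      ∑ k ∈ Finset.range W.lv.length,
        (Finset.univ.filter fun r : Fin D.nroots => hgt D T r.val = (k : ℤ) + 1 ∧ P r).card := by
  classical
  rw [← Finset.card_biUnion]
  · congr 1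
    ext r
    simp only [Finset.mem_filter, Finset.mem_univ, true_and, Finset.mem_biUnion, Finset.mem_range]
    constructor
    · rintro ⟨hr, hP⟩
      have h1 := (X.S.hgt_pos_iff X.hT r.isLt).2 hr
      refine ⟨(hgt D T r.val - 1).toNat, ?_, by omega, hP⟩
      have := X.hgt_le r.isLt
      omega
    · rintro ⟨k, -, hk, hP⟩
      exact ⟨(X.S.hgt_pos_iff X.hT r.isLt).1 (by omega), hP⟩
  · intro a _ b _ hab
    rw [Function.onFun, Finset.disjoint_left]
    intro r h1 h2
    simp only [Finset.mem_filter] at h1 h2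
    omega

theorem lev_count (k : ℕ) (P : Fin D.nroots → Prop) [DecidablePred P]
    (hinv : ∀ r q : Fin D.nroots, q.val = X.rho r.val → (P q ↔ P r)) :
    (Finset.univ.filter fun r : Fin D.nroots => hgt D T r.val = (k : ℤ) + 1 ∧ P r).card =
      ∑ i : Fin (X.lev k).length,
        if ∃ h : ((X.lev k).get i).headD 0 < D.nroots, P ⟨_, h⟩ then ((X.lev k).get i).length else 0 := by
  classical
  let Q : ℕ → Prop := fun n => ∃ h : n < D.nroots, P ⟨n, h⟩
  have hQc : ∀ c ∈ X.lev k, ∀ r ∈ c, Q r ↔ Q (c.headD 0) := fun c hc =>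
    kcyc_iff_head (Q := Q) c _ (X.lev_spec hc).2.2.1 fun a ha => by
      have ha' := ((X.lev_spec hc).1 a ha).1
      exact ⟨fun ⟨h, hp⟩ => ⟨ha', (hinv ⟨a, ha'⟩ ⟨_, h⟩ rfl).1 hp⟩,
        fun ⟨h, hp⟩ => ⟨X.rho_lt h, (hinv ⟨a, h⟩ ⟨_, X.rho_lt h⟩ rfl).2 hp⟩⟩
  have e1 : (Finset.univ.filter fun r : Fin D.nroots => hgt D T r.val = (k : ℤ) + 1 ∧ P r).card =
      (((X.lev k).flatMap fun c => c).filter fun r => decide (Q r)).length := by
    rw [← List.toFinset_card_of_nodup (List.Nodup.filter _ (X.lev_nodup k))]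
    refine Finset.card_bij (fun r _ => r.val) ?_ (fun r _ s _ h => Fin.ext h) ?_
    · intro r hr
      simp only [Finset.mem_filter, Finset.mem_univ, true_and] at hr
      obtain ⟨c, hc, hrc⟩ := X.lev_cover r.isLt hr.1
      simp only [List.mem_toFinset, List.mem_filter, decide_eq_true_iff, List.mem_flatMap]
      exact ⟨⟨c, hc, hrc⟩, r.isLt, hr.2⟩
    · intro b hb
      simp only [List.mem_toFinset, List.mem_filter, decide_eq_true_iff, List.mem_flatMap] at hb
      obtain ⟨⟨c, hc, hbc⟩, hb', hP⟩ := hb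
      exact ⟨⟨b, hb'⟩, by
        simp only [Finset.mem_filter, Finset.mem_univ, true_and]
        exact ⟨((X.lev_spec hc).1 b hbc).2, hP⟩, rfl⟩
  rw [e1, List.filter_flatMap, List.length_flatMap, ← List.sum_ofFn]
  congr 1
  conv_lhs => rw [← List.ofFn_get (X.lev k)]
  rw [List.map_ofFn]
  refine congrArg List.ofFn (funext fun i => ?_)
  simp only [Function.comp_apply]
  have hc := List.get_mem (X.lev k) i
  by_cases h : Q (((X.lev k).get i).headD 0)
  · rw [if_pos h, List.filter_eq_self.2 fun r hr => decide_eq_true ((hQc _ hc r hr).2 h)]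
  · rw [if_neg h, List.filter_eq_nil_iff.2 fun r hr => by
      simpa using fun hr' => h ((hQc _ hc r hr).1 hr')]
    rfl

theorem pow_le_card_fix (P : Fin D.nroots → Prop) [DecidablePred P]
    (hinv : ∀ r q : Fin D.nroots, q.val = X.rho r.val → (P q ↔ P r)) :
    X.q ^ (Finset.univ.filter fun r : Fin D.nroots => D.nroots / 2 ≤ r.val ∧ P r).card ≤
      Nat.card ↥(X.S.UPsi F P ⊓ X.Fx) := by
  classical
  haveI := X.finite
  let H : ℕ → Subgroup (GL D.Idx F) := fun k => X.S.UPsi F P ⊓ (X.S.Uh T F ((k : ℤ) + 1) ⊓ X.Fx)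
  suffices key : ∀ n k, W.lv.length ≤ n + k → X.q ^ ((List.range' k n).map fun j : ℕ =>
      (Finset.univ.filter fun r : Fin D.nroots => hgt D T r.val = (j : ℤ) + 1 ∧ P r).card).sum ≤
        Nat.card ↥(H k) by
    refine le_trans ?_ (le_trans (key W.lv.length 0 le_rfl) (Subgroup.card_le_of_le ?_))
    · refine le_of_eq (congrArg _ ?_)
      rw [X.sum_pos_eq P, ← List.range_eq_range', ← List.sum_toFinset _ List.nodup_range, List.toFinset_range]
    · exact inf_le_inf_left _ inf_le_right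
  intro n
  induction n with
  | zero => intro k hk; simp only [List.range'_zero, List.map_nil, List.sum_nil, pow_zero]; exact Nat.card_pos
  | succ n ih =>
    intro k hk
    let φ : ↥(H k) →* Multiplicative (Fin (X.lev k).length → F) :=
      (X.piK k).comp (Subgroup.inclusion inf_le_right)
    have hkk : ((k + 1 : ℕ) : ℤ) + 1 = (k : ℤ) + 2 := by push_cast; ring
    have hf1 : ∀ g : ↥(H k), g ∈ φ.ker → g.1 ∈ H (k + 1) := fun g hg => by
      obtain ⟨g1, g2⟩ := Subgroup.mem_inf.1 g.2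
      refine Subgroup.mem_inf.2 ⟨g1, Subgroup.mem_inf.2 ⟨?_, (Subgroup.mem_inf.1 g2).2⟩⟩
      rw [hkk]
      have h' : φ g = 1 := MonoidHom.mem_ker.1 hg
      rw [MonoidHom.comp_apply] at h'
      exact (X.piK_ker ⟨g.1, g2⟩).1 h'
    have hf2 : ∀ g : GL D.Idx F, g ∈ H (k + 1) → ∃ h : g ∈ H k, (⟨g, h⟩ : ↥(H k)) ∈ φ.ker := fun g hg => by
      obtain ⟨g1, g2⟩ := Subgroup.mem_inf.1 hg
      obtain ⟨g3, g4⟩ := Subgroup.mem_inf.1 g2
      rw [hkk] at g3
      have hle : (k : ℤ) + 1 ≤ (k : ℤ) + 2 := by omega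
      have hg' : g ∈ X.S.Uh T F ((k : ℤ) + 1) ⊓ X.Fx := Subgroup.mem_inf.2 ⟨X.S.Uh_mono hle g3, g4⟩
      refine ⟨Subgroup.mem_inf.2 ⟨g1, hg'⟩, MonoidHom.mem_ker.2 ?_⟩
      rw [MonoidHom.comp_apply]
      exact (X.piK_ker ⟨g, hg'⟩).2 g3
    have hker : Nat.card φ.ker = Nat.card ↥(H (k + 1)) :=
      Nat.card_congr ⟨fun g => ⟨g.1.1, hf1 g.1 g.2⟩, fun g => ⟨⟨g.1, (hf2 g.1 g.2).1⟩, (hf2 g.1 g.2).2⟩,
        fun _ => rfl, fun _ => rfl⟩
    let Q : Fin (X.lev k).length → Prop := fun i => ∃ h : ((X.lev k).get i).headD 0 < D.nroots, P ⟨_, h⟩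
    let Ti : Fin (X.lev k).length → Set F := fun i =>
      {t | t ∈ X.Allowed ((X.lev k).get i) ∧ (¬ Q i → t = 0)}
    have hTi : ∀ i, X.q ^ (if Q i then ((X.lev k).get i).length else 0) ≤ Nat.card (Ti i) := by
      intro i
      by_cases h : Q i
      · rw [if_pos h, ← X.card_allowed (List.get_mem (X.lev k) i)]
        refine le_of_eq (congrArg (fun s : Set F => Nat.card s) ?_)
        ext t; simp [Ti, h]
      · rw [if_neg h, pow_zero]
        haveI : Nonempty (Ti i) := ⟨⟨0, by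
          refine ⟨?_, fun _ => rfl⟩
          show X.nxt _ 0 = 0
          have := X.nxt_add ((X.lev k).get i) 0 0
          simpa using this⟩⟩
        exact Nat.card_pos
    have hrange : ∀ t : ∀ i, Ti i, Multiplicative.ofAdd (fun i => (t i).1) ∈ φ.range := by
      intro t
      have hsingle : ∀ i, Multiplicative.ofAdd (Pi.single i (t i).1) ∈ φ.range := by
        intro i
        by_cases h : Q i
        · have hi := List.get_mem (X.lev k) i
          have hy := X.y_mem_lev hi (t i).2.1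
          have hyP : X.y ((X.lev k).get i) (t i).1 ∈ X.S.UPsi F P := by
            refine list_prod_mem fun g hg => ?_
            obtain ⟨p, hp, rfl⟩ := List.mem_map.1 hg
            have hp1 := X.mem_orbW hp
            obtain ⟨h1, h2⟩ := (X.lev_spec hi).1 p.1 hp1
            have hQ := (kcyc_iff_head (Q := fun n => ∃ h : n < D.nroots, P ⟨n, h⟩) _ _
              (X.lev_spec hi).2.2.1 (fun a ha => by
                have ha' := ((X.lev_spec hi).1 a ha).1
                exact ⟨fun ⟨h, hp⟩ => ⟨ha', (hinv ⟨a, ha'⟩ ⟨_, h⟩ rfl).1 hp⟩,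
                  fun ⟨h, hp⟩ => ⟨X.rho_lt h, (hinv ⟨a, h⟩ ⟨_, X.rho_lt h⟩ rfl).2 hp⟩⟩) p.1 hp1).2 h
            obtain ⟨_, hP⟩ := hQ
            exact Subgroup.subset_closure ⟨⟨p.1, h1⟩, p.2, (X.S.hgt_pos_iff X.hT h1).1 (by omega), hP, rfl⟩
          refine ⟨⟨X.y _ (t i).1, hyP, hy⟩, ?_⟩
          refine Multiplicative.toAdd.injective (funext fun j => ?_)
          show X.cf (X.y _ _) _ = _
          have hj := List.get_mem (X.lev k) j
          rw [toAdd_ofAdd]
          by_cases e : i = j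
          · subst e
            rw [Pi.single_eq_same]
            exact (X.cf_y hj hj _).1 rfl
          · rw [Pi.single_eq_of_ne (Ne.symm e)]
            exact (X.cf_y hj (List.get_mem _ i) _).2
              (X.cls_ne (Ne.symm e) (X.headD_mem (X.lev_ne_nil hj)))
        · rw [(t i).2.2 h, Pi.single_zero, ofAdd_zero]
          exact one_mem _
      rw [← Finset.univ_sum_single (fun i => (t i).1), ofAdd_sum]
      exact Subgroup.prod_mem _ fun i _ => hsingle i
    have hr : ∏ i, X.q ^ (if Q i then ((X.lev k).get i).length else 0) ≤ Nat.card φ.range := by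
      refine le_trans (Finset.prod_le_prod (fun _ _ => Nat.zero_le _) fun i _ => hTi i) ?_
      rw [← Nat.card_pi]
      refine Nat.card_le_card_of_injective (fun t => (⟨_, hrange t⟩ : φ.range)) fun t t' h => ?_
      funext i
      exact Subtype.ext (congrFun (Multiplicative.ofAdd.injective (congrArg Subtype.val h)) i)
    rw [Finset.prod_pow_eq_pow_sum, ← X.lev_count k P hinv] at hr
    rw [← Subgroup.index_mul_card φ.ker, Subgroup.index_ker, hker, List.range'_succ, List.map_cons,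
      List.sum_cons, pow_add]
    exact Nat.mul_le_mul hr (ih (k + 1) (by omega))

theorem sig_UPsi (P : Fin D.nroots → Prop)
    (hinv : ∀ r q : Fin D.nroots, q.val = X.rho r.val → (P q ↔ P r)) {g : GL D.Idx F}
    (hg : g ∈ X.S.UPsi F P) : X.sig g ∈ X.S.UPsi F P := by
  have hle : X.S.UPsi F P ≤ (X.S.UPsi F P).comap X.sig := by
    refine (Subgroup.closure_le _).2 ?_
    rintro x ⟨r, t, hr, hP, rfl⟩
    show X.sig (X.S.ok.xG r.val t) ∈ X.S.UPsi F P
    rw [X.sig_xG r.isLt]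
    exact Subgroup.subset_closure ⟨⟨X.rho r.val, X.rho_lt r.isLt⟩, _, (X.rho_pos r.isLt).1.2 hr,
      (hinv r ⟨_, X.rho_lt r.isLt⟩ rfl).2 hP, rfl⟩
  exact hle hg

theorem Neg_inv (K : List (Fin W.nO)) : ∀ r q : Fin D.nroots, q.val = X.rho r.val →
    (Struct.Neg D (X.S.wpL (X.flatW K)) q ↔ Struct.Neg D (X.S.wpL (X.flatW K)) r) := by
  intro r q h
  show (X.S.wpL (X.flatW K) q).val < _ ↔ (X.S.wpL (X.flatW K) r).val < _
  rw [X.wpL_rho K r q h, ← not_le, ← not_le, not_iff_not]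
  exact (X.rho_pos (Fin.isLt _)).1

theorem fix_split {n : GL D.Idx F} (K : List (Fin W.nO)) (ha : Act X.S.ok n (X.S.wpL (X.flatW K)))
    {u : GL D.Idx F} (hu : u ∈ D.posUnipotent F ⊓ X.Fx) :
    ∃ a ∈ X.S.UPsi F (fun r => ¬ Struct.Neg D (X.S.wpL (X.flatW K)) r) ⊓ X.Fx,
      ∃ b ∈ X.S.UPsi F (Struct.Neg D (X.S.wpL (X.flatW K))) ⊓ X.Fx, u = a * b := by
  obtain ⟨huU, hfix⟩ := hu
  rw [SetLike.mem_coe, X.S.posUnipotent_eq] at huU
  have hs := X.S.hsum
  obtain ⟨a, ha', b, hb, rfl⟩ := X.S.split_Ugen (Struct.Neg D (X.S.wpL (X.flatW K)))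
    (D.nroots - D.nroots / 2) (D.nroots / 2) (by omega) le_rfl u huU
  have hfix' : X.sig (a * b) = a * b := hfix
  have e : X.sig a * X.sig b = a * b := by rw [← map_mul, hfix']
  have hsa := X.sig_UPsi _ (fun r q h => not_congr (X.Neg_inv K r q h)) ha'
  have hsb := X.sig_UPsi _ (X.Neg_inv K) hb
  have he : a⁻¹ * X.sig a = b * (X.sig b)⁻¹ := by
    rw [eq_mul_inv_iff_mul_eq, mul_assoc, e, inv_mul_cancel_left]
  have h1 := X.S.Neg_inter X.hN ha (mul_mem (inv_mem ha') hsa) (he ▸ mul_mem hb (inv_mem hsb))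
  have ea : X.sig a = a := (inv_mul_eq_one.1 h1).symm
  refine ⟨a, ⟨ha', ea⟩, b, ⟨hb, ?_⟩, rfl⟩
  rw [ea] at e
  exact mul_left_cancel e

theorem card_Vw {n : GL D.Idx F} (K : List (Fin W.nO)) (ha : Act X.S.ok n (X.S.wpL (X.flatW K))) :
    Nat.card ↥(X.S.UPsi F (Struct.Neg D (X.S.wpL (X.flatW K))) ⊓ X.Fx) =
      X.q ^ Struct.Nw D (X.S.wpL (X.flatW K)) := by
  classical
  haveI := X.finite
  set w := X.S.wpL (X.flatW K)
  let A := X.S.UPsi F (fun r => ¬ Struct.Neg D w r) ⊓ X.Fx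
  let B := X.S.UPsi F (Struct.Neg D w) ⊓ X.Fx
  let f : ↥A × ↥B → ↥(D.posUnipotent F ⊓ X.Fx) := fun p =>
    ⟨p.1.1 * p.2.1, mul_mem (X.S.UPsi_le _ p.1.2.1) (X.S.UPsi_le _ p.2.2.1), mul_mem p.1.2.2 p.2.2.2⟩
  have hf : Function.Bijective f := by
    constructor
    · rintro ⟨⟨a, ha'⟩, b, hb⟩ ⟨⟨a', ha''⟩, b', hb'⟩ e
      have e' : a * b = a' * b' := congrArg Subtype.val e
      have he : a'⁻¹ * a = b' * b⁻¹ := by
        rw [eq_mul_inv_iff_mul_eq, mul_assoc, e', inv_mul_cancel_left]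
      have h1 := X.S.Neg_inter X.hN ha (mul_mem (inv_mem ha''.1) ha'.1) (he ▸ mul_mem hb'.1 (inv_mem hb.1))
      have ea : a = a' := (inv_mul_eq_one.1 h1).symm
      subst ea
      have eb := mul_left_cancel e'
      subst eb
      rfl
    · rintro ⟨g, hg⟩
      obtain ⟨a, ha', b, hb, rfl⟩ := X.fix_split K ha hg
      exact ⟨⟨⟨a, ha'⟩, b, hb⟩, rfl⟩
  have hcard := Nat.card_eq_of_bijective f hf
  rw [Nat.card_prod, X.card_U_fix] at hcard
  have h1 := X.pow_le_card_fix (fun r => ¬ Struct.Neg D w r) (fun r q h => not_congr (X.Neg_inv K r q h))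
  have h2 := X.pow_le_card_fix (Struct.Neg D w) (X.Neg_inv K)
  have hsum : (W.lv.map fun L => (L.map List.length).sum).sum =
      (Finset.univ.filter fun r : Fin D.nroots => D.nroots / 2 ≤ r.val ∧ ¬ Struct.Neg D w r).card +
      (Finset.univ.filter fun r : Fin D.nroots => D.nroots / 2 ≤ r.val ∧ Struct.Neg D w r).card := by
    have e : ∀ j : ℕ, (Finset.univ.filter fun r : Fin D.nroots => hgt D T r.val = (j : ℤ) + 1 ∧ True).card =
        ((X.lev j).map List.length).sum := fun j => by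
      rw [X.lev_count j (fun _ => True) (fun _ _ _ => Iff.rfl), ← List.sum_ofFn]
      conv_rhs => rw [← List.ofFn_get (X.lev j), List.map_ofFn]
      refine congrArg List.sum (congrArg List.ofFn (funext fun i => ?_))
      have hi := List.get_mem (X.lev j) i
      rw [if_pos ⟨((X.lev_spec hi).1 _ (X.headD_mem (X.lev_ne_nil hi))).1, trivial⟩]
      rfl
    have hall : (Finset.univ.filter fun r : Fin D.nroots => D.nroots / 2 ≤ r.val ∧ True).card =
        (W.lv.map fun L => (L.map List.length).sum).sum := by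
      rw [X.sum_pos_eq (fun _ => True), ← List.toFinset_range, List.sum_toFinset _ List.nodup_range]
      refine congrArg List.sum (List.ext_getElem (by simp) fun i h1 h2 => ?_)
      have : i < W.lv.length := by simpa using h2
      rw [List.getElem_map, List.getElem_map, List.getElem_range, e, lev, List.getD_eq_getElem _ _ this]
    rw [← hall, ← Finset.card_union_of_disjoint (by rw [Finset.disjoint_left]; intro r; simp; tauto)]
    congr 1
    ext r
    simp
    tauto
  have hB : (Finset.univ.filter fun r : Fin D.nroots => D.nroots / 2 ≤ r.val ∧ Struct.Neg D w r).card =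
      Struct.Nw D w := by
    unfold Struct.Nw
    congr 1
    ext r
    refine Iff.trans Finset.mem_filter (Iff.trans ?_ Finset.mem_filter.symm)
    simp [Struct.Neg]
  rw [hsum, pow_add] at hcard
  rw [← hB]
  have hq : 0 < X.q := by have := X.hq; omega
  have hApos : 0 < X.q ^ (Finset.univ.filter fun r : Fin D.nroots =>
      D.nroots / 2 ≤ r.val ∧ ¬ Struct.Neg D w r).card := pow_pos hq _
  nlinarith [Nat.mul_le_mul h1 h2,
    Nat.mul_le_mul_right (X.q ^ (Finset.univ.filter fun r : Fin D.nroots =>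
      D.nroots / 2 ≤ r.val ∧ Struct.Neg D w r).card) h1,
    Nat.mul_le_mul_left (Nat.card ↥A) h2]

/-- The permutations of the twisted Weyl group. -/
def W1 : Set (Equiv.Perm (Fin D.nroots)) := {w | ∃ K, X.S.wpL (X.flatW K) = w}

theorem normal_form1 {M : CoxeterMatrix (Fin W.nO)} (hM : X.RelOK M) {g : GL D.Idx F} (hg : g ∈ X.G1) :
    ∃ b ∈ X.B1, ∃ n ∈ X.N1, ∃ K, Act X.S.ok n (X.S.wpL (X.flatW K)) ∧
      ∃ u ∈ X.S.UPsi F (Struct.Neg D (X.S.wpL (X.flatW K))) ⊓ X.Fx, g = b * n * u := by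
  obtain ⟨P, hPB, hPN, -⟩ := X.exists_bnPair hM
  obtain ⟨n, hn, hgn⟩ := Cfsg.Lib.BN.bruhat P ⟨g, hg⟩
  obtain ⟨b, hb, c, hc, e⟩ := Cfsg.Lib.BN.mem_dc.1 hgn
  rw [hPB, Subgroup.mem_subgroupOf] at hb hc
  rw [hPN, Subgroup.mem_subgroupOf] at hn
  have e' : g = (b : GL D.Idx F) * (n : GL D.Idx F) * c := by simpa using congrArg Subtype.val e
  obtain ⟨u, hu, t, ht, ec⟩ := X.B1_decomp hc
  obtain ⟨K, -, -, -, hact, -⟩ := X.act_N1 hM hn
  have hu' : t⁻¹ * u * t ∈ D.posUnipotent F ⊓ X.Fx := by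
    refine Subgroup.mem_inf.2 ⟨?_, mul_mem (mul_mem (inv_mem (X.G1_le_Fx (X.T1_le_G1 ht))) (X.G1_le_Fx hu.2))
      (X.G1_le_Fx (X.T1_le_G1 ht))⟩
    have := (Subgroup.mem_normalizer_iff.1 (X.S.diag_normalises_U (inv_mem (X.T1_le_diag ht))) u).1 hu.1
    rwa [inv_inv] at this
  obtain ⟨a, ha, v, hv, e2⟩ := X.fix_split K hact hu'
  have haG : a ∈ X.G1 := by
    have := X.U_fix_le X.cls_mem_G1 (Subgroup.mem_inf.2 ⟨X.S.UPsi_le _ ha.1, ha.2⟩)
    exact this
  refine ⟨(b : GL D.Idx F) * ((n : GL D.Idx F) * t * (n : GL D.Idx F)⁻¹) *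
    ((n : GL D.Idx F) * a * (n : GL D.Idx F)⁻¹), ?_, n, hn, K, hact, v, hv, ?_⟩
  · refine mul_mem (mul_mem hb (Subgroup.mem_sup_right ?_)) (X.U1_mem (X.S.conj_Pos hact ha.1)
      (mul_mem (mul_mem (X.N1_le_G1 hn) haG) (inv_mem (X.N1_le_G1 hn))))
    exact (Subgroup.mem_normalizer_iff.1 (X.N1_normalizes hn) _).1 ht
  · have e3 : (c : GL D.Idx F) = t * a * v := by
      rw [ec, mul_assoc t a v, ← e2]; group
    rw [e', e3]
    group

open scoped Classical in
theorem card_G1 {M : CoxeterMatrix (Fin W.nO)} (hM : X.RelOK M) :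
    Nat.card ↥X.G1 = Nat.card ↥X.B1 * ∑ w : X.W1, X.q ^ Struct.Nw D (w : Equiv.Perm _) := by
  haveI := X.finite
  choose K hK using fun w : X.W1 => w.2
  have hact : ∀ w : X.W1, Act X.S.ok (X.nW (K w)) (w : Equiv.Perm _) := fun w => by
    have h := X.S.act_nL (F := F) (X.flatW (K w))
    rw [hK w] at h
    exact h
  have hVG : ∀ (w : X.W1) (u : GL D.Idx F), u ∈ X.S.UPsi F (Struct.Neg D (w : Equiv.Perm _)) ⊓ X.Fx →
      u ∈ X.G1 := fun w u hu => X.U_fix_le X.cls_mem_G1 (Subgroup.mem_inf.2 ⟨X.S.UPsi_le _ hu.1, hu.2⟩)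
  let f : (Σ w : X.W1, ↥X.B1 × ↥(X.S.UPsi F (Struct.Neg D (w : Equiv.Perm _)) ⊓ X.Fx)) → ↥X.G1 :=
    fun x => ⟨x.2.1.1 * X.nW (K x.1) * x.2.2.1, mul_mem (mul_mem (X.B1_le_G1 x.2.1.2)
      (X.N1_le_G1 (X.nW_mem_N1 _))) (hVG _ _ x.2.2.2)⟩
  have hf : Function.Bijective f := by
    constructor
    · rintro ⟨w, ⟨b, hb⟩, u, hu⟩ ⟨w', ⟨b', hb'⟩, u', hu'⟩ e
      have e' : b * X.nW (K w) * u = b' * X.nW (K w') * u' := congrArg Subtype.val e
      have hd := X.S.normal_form_cong (F := F) X.hN (X.B1_le_borel hb) (X.B1_le_borel hb')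
        (X.N1_le_mono (X.nW_mem_N1 _)) (X.N1_le_mono (X.nW_mem_N1 _))
        (X.S.UPsi_le _ hu.1) (X.S.UPsi_le _ hu'.1) e'
      have hw : w = w' := by
        refine Subtype.ext ?_
        have h1 := X.S.act_mul (hact w) (X.S.act_diag hd)
        rw [mul_inv_cancel_left, mul_one] at h1
        exact (X.S.act_unique (hact w') h1).symm
      subst hw
      obtain ⟨rfl, rfl⟩ := X.S.normal_form_unique X.hN (X.B1_le_borel hb) (X.B1_le_borel hb') (hact w)
        hu.1 hu'.1 e'
      rfl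
    · rintro ⟨g, hg⟩
      obtain ⟨b, hb, n, hn, L, hL, u, hu, rfl⟩ := X.normal_form1 hM hg
      let w : X.W1 := ⟨X.S.wpL (X.flatW L), L, rfl⟩
      have hm : n * (X.nW (K w))⁻¹ ∈ X.N1 := mul_mem hn (inv_mem (X.nW_mem_N1 _))
      obtain ⟨L', -, -, -, hL', h1⟩ := X.act_N1 hM hm
      have ht : n * (X.nW (K w))⁻¹ ∈ X.T1 := by
        refine h1 ?_
        have h2 := X.S.act_mul hL' (hact w)
        rw [inv_mul_cancel_right] at h2
        exact mul_eq_right.1 (X.S.act_unique h2 hL)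
      refine ⟨⟨w, ⟨b * (n * (X.nW (K w))⁻¹), mul_mem hb (Subgroup.mem_sup_right ht)⟩, u, hu⟩,
        Subtype.ext ?_⟩
      show b * (n * (X.nW (K w))⁻¹) * X.nW (K w) * u = b * n * u
      group
  rw [← Nat.card_eq_of_bijective f hf, Nat.card_sigma, Finset.mul_sum]
  refine Finset.sum_congr rfl fun w _ => ?_
  rw [Nat.card_prod]
  congr 1
  have := X.card_Vw (n := X.nW (K w)) (K w) (X.S.act_nL _)
  rwa [hK w] at this

theorem wt_w (i : ℕ) (hi : i < W.nO) {s : ℕ} (hs : s < D'.nroots) :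
    W.wt D.nroots (C'.w i s) = W.wt D.nroots s := by
  classical
  simp only [TwDat.wt, kcount_eq, krange_eq, ← List.range_eq_range']
  have hc : ∀ s : ℕ, ((List.range D.nroots).filter fun r => Nat.beq (W.prAt r) s).length =
      (Finset.univ.filter fun r : Fin D.nroots => W.prAt r.val = s).card := fun s => by
    rw [← List.toFinset_card_of_nodup (List.Nodup.filter _ List.nodup_range)]
    refine (Finset.card_bij (fun r _ => r.val) ?_ (fun r _ t _ h => Fin.ext h) ?_).symm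
    · intro r hr
      simp only [Finset.mem_filter] at hr
      simp [hr.2]
    · intro b hb
      simp only [List.mem_toFinset, List.mem_filter, List.mem_range] at hb
      exact ⟨⟨b, hb.1⟩, by simp [Nat.eq_of_beq_eq_true hb.2], rfl⟩
  have hi' : i < D'.rank := by rw [← X.rank_target]; exact hi
  have hproj : ∀ r : Fin D.nroots, W.prAt (X.S.wpL (X.orbF i) r).val = C'.w i (W.prAt r.val) := fun r => by
    rw [X.S.wpL_val, X.orbF_val hi]
    exact (X.proj_spec.2.1 r.val r.isLt).2 i hi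
  rw [hc, hc]
  refine (Finset.card_equiv (X.S.wpL (X.orbF i)) fun r => ?_).symm
  simp only [Finset.mem_filter, Finset.mem_univ, true_and, hproj]
  exact ⟨fun h => by rw [h], fun h => by
    have := congrArg (C'.w i) h
    rwa [X.S'.ok.w_w hi' (X.proj_spec.2.1 r.val r.isLt).1, X.S'.ok.w_w hi' hs] at this⟩

open scoped Classical in
theorem sum_W1 {M : CoxeterMatrix (Fin W.nO)} (hM : X.RelOK M)
    (hsgn : W.okSgn D.nroots D'.nroots = true) (q : ℕ) :
    ∑ w : X.W1, q ^ Struct.Nw D (w : Equiv.Perm _) = X.S'.PsumW (W.wt D.nroots) D'.rank q := by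
  let g : X.W1 → ↥(X.S'.WJ D'.rank) := fun w =>
    ⟨X.S'.wpL (w.2.choose.map X.toT), X.S'.wpL_mem_WJ fun x _ => x.isLt⟩
  have hg : ∀ w : X.W1, ∀ r : Fin D.nroots,
      W.prAt ((w : Equiv.Perm (Fin D.nroots)) r).val =
        ((g w : Equiv.Perm (Fin D'.nroots)) ⟨W.prAt r.val, (X.proj_spec.2.1 r r.isLt).1⟩).val := fun w r => by
    have h := X.wpL_proj w.2.choose r
    rw [w.2.choose_spec] at h
    exact h
  have hbij : Function.Bijective g := by
    constructor
    · intro w w' h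
      obtain ⟨K, hK⟩ := w
      obtain ⟨K', hK'⟩ := w'
      apply Subtype.ext
      have h' := congrArg Subtype.val h
      simp only [g] at h'
      set L := hK.choose with hLdef
      set L' := hK'.choose with hL'def
      have e1 : X.S.wpL (X.flatW L) = K := hK.choose_spec
      have e2 : X.S.wpL (X.flatW L') = K' := hK'.choose_spec
      exact e1.symm.trans ((X.wpL_eq_of_target hM h').trans e2)
    · rintro ⟨v, hv⟩
      obtain ⟨L, -, rfl⟩ := X.S'.exists_word_WJ hv
      let K : List (Fin W.nO) := L.map (Fin.cast X.rank_target.symm)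
      have hKL : K.map X.toT = L := by
        simp [K, toT, List.map_map, Function.comp_def]
      refine ⟨⟨X.S.wpL (X.flatW K), K, rfl⟩, Subtype.ext (Equiv.ext fun s => Fin.ext ?_)⟩
      obtain ⟨r, hr, e⟩ := X.proj_spec.2.2 s s.isLt
      have h1 := hg ⟨X.S.wpL (X.flatW K), K, rfl⟩ ⟨r, hr⟩
      have h2 := X.wpL_proj K ⟨r, hr⟩
      simp only [e, hKL] at h1 h2
      rw [← h1, h2]
  rw [Struct.PsumW, ← (Equiv.ofBijective g hbij).sum_comp]
  refine Finset.sum_congr rfl fun w _ => ?_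
  show _ = q ^ NwW D' (W.wt D.nroots) (g w : Equiv.Perm _)
  congr 1
  have hs : ∀ r : Fin D.nroots, (D.nroots / 2 ≤ r.val ↔ D'.nroots / 2 ≤ W.prAt r.val) := fun r => by
    have h := kall_krange hsgn r.val r.isLt
    rw [beq_iff_eq] at h
    constructor
    · intro hh; exact Nat.le_of_ble_eq_true (h ▸ Nat.ble_eq_true_of_le hh : Nat.ble (D'.nroots / 2) _ = true)
    · intro hh; exact Nat.le_of_ble_eq_true (h.symm ▸ Nat.ble_eq_true_of_le hh : Nat.ble (D.nroots / 2) _ = true)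
  let pr : Fin D.nroots → Fin D'.nroots := fun r => ⟨W.prAt r.val, (X.proj_spec.2.1 r r.isLt).1⟩
  rw [Struct.Nw, NwW, Finset.card_eq_sum_card_fiberwise (f := pr)
    (t := Finset.univ.filter fun s : Fin D'.nroots =>
      D'.nroots / 2 ≤ s.val ∧ ((g w : Equiv.Perm _) s).val < D'.nroots / 2)]
  · refine Finset.sum_congr rfl fun s hs' => ?_
    simp only [Finset.mem_filter, Finset.mem_univ, true_and] at hs'
    simp only [TwDat.wt, kcount_eq, krange_eq, ← List.range_eq_range']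
    rw [← List.toFinset_card_of_nodup (List.Nodup.filter _ List.nodup_range)]
    refine Finset.card_bij (fun r _ => r.val) ?_ (fun r _ t _ h => Fin.ext h) ?_
    · intro r hr
      simp only [Finset.mem_filter, Finset.mem_univ, true_and, pr, Fin.ext_iff] at hr
      simp [hr.2]
    · intro b hb
      simp only [List.mem_toFinset, List.mem_filter, List.mem_range] at hb
      have e := Nat.eq_of_beq_eq_true hb.2
      refine ⟨⟨b, hb.1⟩, ?_, rfl⟩
      simp only [Finset.mem_filter, Finset.mem_univ, true_and, pr, Fin.ext_iff]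
      refine ⟨⟨(hs ⟨b, hb.1⟩).2 (e.symm ▸ hs'.1), ?_⟩, e⟩
      have h1 := hg w ⟨b, hb.1⟩
      have h2 : D'.nroots / 2 ≤ W.prAt ((w : Equiv.Perm (Fin D.nroots)) ⟨b, hb.1⟩).val ↔ _ :=
        (hs _).symm
      simp only [e] at h1
      rw [h1] at h2
      exact Nat.lt_of_not_le fun hh => Nat.not_le.2 hs'.2 (h2.2 hh)
  · intro r hr
    simp only [Finset.coe_filter, Finset.mem_univ, true_and, Set.mem_setOf_eq] at hr ⊢
    refine ⟨(hs r).1 hr.1, ?_⟩
    rw [← hg w r]
    exact Nat.lt_of_not_le fun hh => Nat.not_le.2 hr.2 ((hs _).2 hh)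

theorem card_B1 {M : CoxeterMatrix (Fin W.nO)} (_hM : X.RelOK M) :
    Nat.card ↥X.B1 = X.q ^ (W.lv.map fun L => (L.map List.length).sum).sum * Nat.card ↥X.T1 := by
  rw [← X.card_U_fix, ← X.U_inf_G1]
  let f : ↥(D.posUnipotent F ⊓ X.G1) × ↥X.T1 → ↥X.B1 :=
    fun p => ⟨p.1.1 * p.2.1, mul_mem (Subgroup.mem_sup_left p.1.2) (Subgroup.mem_sup_right p.2.2)⟩
  have hf : Function.Bijective f := by
    constructor
    · rintro ⟨⟨a, ha⟩, b, hb⟩ ⟨⟨a', ha'⟩, b', hb'⟩ e
      have e' : a * b = a' * b' := congrArg Subtype.val e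
      have he : a'⁻¹ * a = b' * b⁻¹ := by
        rw [eq_mul_inv_iff_mul_eq, mul_assoc, e', inv_mul_cancel_left]
      have h1 : a'⁻¹ * a ∈ D.posUnipotent F ⊓ D.diagonalSubgroup F :=
        Subgroup.mem_inf.2 ⟨mul_mem (inv_mem ha'.1) ha.1,
          he ▸ mul_mem (X.T1_le_diag hb') (inv_mem (X.T1_le_diag hb))⟩
      rw [X.S.U_inf_H, Subgroup.mem_bot] at h1
      have ea : a = a' := (inv_mul_eq_one.1 h1).symm
      subst ea
      have eb := mul_left_cancel e'
      subst eb
      rfl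
    · rintro ⟨g, hg⟩
      obtain ⟨u, hu, t, ht, rfl⟩ := X.B1_decomp hg
      exact ⟨⟨⟨u, hu⟩, t, ht⟩, rfl⟩
  rw [← Nat.card_eq_of_bijective f hf, Nat.card_prod]

theorem card_CT : Nat.card ↥X.CT = ∏ a : Fin W.nO, (X.q ^ (W.orbAt a).length - 1) := by
  classical
  haveI := X.finite
  have hA : ∀ a : Fin W.nO, Nat.card {t : F // t ≠ 0 ∧ t ∈ X.Allowed (X.orP a)} =
      X.q ^ (W.orbAt a).length - 1 := by
    intro a
    have h := X.card_allowed (X.orP_mem_lev a.isLt)
    rw [show (X.orP a).length = (W.orbAt a).length by rw [orP, kmap_eq, List.length_map]] at h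
    rw [← h]
    have h0 : (0 : F) ∈ X.Allowed (X.orP a) := by
      show X.nxt _ 0 = 0
      simpa using X.nxt_add (X.orP a) 0 0
    calc Nat.card {t : F // t ≠ 0 ∧ t ∈ X.Allowed (X.orP a)}
        = Nat.card ↥(X.Allowed (X.orP a) \ {0}) :=
          Nat.card_congr (Equiv.subtypeEquivRight fun t => by simp [and_comm])
      _ = Nat.card (X.Allowed (X.orP a)) - 1 := by
          simp only [Nat.card_coe_set_eq]
          exact Set.ncard_sdiff_singleton_of_mem h0
  rw [← Finset.prod_congr rfl fun a _ => hA a, ← Nat.card_pi]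
  let f : ↥X.CT → (∀ a : Fin W.nO, {t : F // t ≠ 0 ∧ t ∈ X.Allowed (X.orP a)}) := fun c a =>
    ⟨(c.1 (X.hd a.isLt) : F), Units.ne_zero _, (X.orb_y_eq a.isLt (v := fun i => (c.1 i : F)) c.2).1.2⟩
  refine Nat.card_eq_of_bijective f ⟨?_, ?_⟩
  · intro c c' h
    refine Subtype.ext (funext fun i => ?_)
    obtain ⟨a, ha, hia⟩ := X.orb_flat.2 i i.isLt
    let u : ℕ → Fˣ := fun n => if h : n < D.rank then c.1 ⟨n, h⟩ else 1
    let u' : ℕ → Fˣ := fun n => if h : n < D.rank then c'.1 ⟨n, h⟩ else 1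
    have key := kcyc_iff_head (Q := fun n => u n = u' n) _ _ (X.orb_spec ha).2.2.1 fun n hn => by
      have hl := (X.orb_spec ha).1 n hn
      simp only [u, u', dif_pos hl, dif_pos (X.pi_spec hl).1]
      have e1 := c.2 ⟨n, hl⟩
      have e2 := c'.2 ⟨n, hl⟩
      constructor
      · intro h
        exact Units.ext (X.f.injective (e1.trans ((congrArg Units.val h).trans e2.symm)))
      · intro h
        exact Units.ext (e1.symm.trans ((congrArg (fun z : Fˣ => X.f (z : F)) h).trans e2))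
    have hh : u ((W.orbAt a).headD 0) = u' ((W.orbAt a).headD 0) := by
      have := congrArg Subtype.val (congrFun h ⟨a, ha⟩)
      have hl : (W.orbAt a).headD 0 < D.rank := (X.hd ha).isLt
      simp only [u, u', dif_pos hl]
      exact Units.ext this
    have := (key i.val hia).2 hh
    simpa [u, u'] using this
  · intro t
    have hex : ∀ i : Fin D.rank, ∃ a : Fin W.nO, i.val ∈ W.orbAt a := fun i => by
      obtain ⟨a, ha, h⟩ := X.orb_flat.2 i i.isLt
      exact ⟨⟨a, ha⟩, h⟩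
    choose A hA' using hex
    have huniq : ∀ (i : Fin D.rank) (a : Fin W.nO), i.val ∈ W.orbAt a → A i = a := fun i a h => by
      by_contra hne
      have hp := (List.nodup_flatMap.1 X.orb_flat.1).2
      have h' := hA' i
      simp only [TwDat.orbAt, List.getD_eq_getElem _ _ a.isLt, List.getD_eq_getElem _ _ (A i).isLt] at h h'
      rcases Nat.lt_or_gt_of_ne (fun e => hne (Fin.ext e)) with hl | hl
      · exact List.pairwise_iff_getElem.1 hp _ _ (A i).isLt a.isLt hl h' h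
      · exact List.pairwise_iff_getElem.1 hp _ _ a.isLt (A i).isLt hl h h'
    have hw : ∀ i : Fin D.rank, ∃ z : F, (C.sr i.val, z) ∈ X.orbW (X.orP (A i)) (t (A i)).1 := fun i => by
      have hm : C.sr i.val ∈ (X.orbW (X.orP (A i)) (t (A i)).1).map Prod.fst := by
        rw [X.orbW_fst, orP, kmap_eq]; exact List.mem_map.2 ⟨i.val, hA' i, rfl⟩
      obtain ⟨p, hp, e⟩ := List.mem_map.1 hm
      exact ⟨p.2, by rw [← e]; exact hp⟩
    choose z hz using hw
    have hm1 : (1 : ℤ) ≤ ((0 : ℕ) : ℤ) + 1 := by norm_num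
    have hval : ∀ i : Fin D.rank, ∀ p ∈ X.orbW (X.orP (A i)) (t (A i)).1, p.1 = C.sr i.val →
        X.cf (X.y (X.orP (A i)) (t (A i)).1) (C.sr i.val) = p.2 := fun i p hp e => by
      have hlev := X.orP_mem_lev (A i).isLt
      obtain ⟨hl, hh⟩ := (X.lev_spec hlev).1 p.1 (X.mem_orbW hp)
      rw [← e, X.cf_of_lt _ hl]
      have hnd : ((X.orbW (X.orP (A i)) (t (A i)).1).map Prod.fst).Nodup := by
        rw [X.orbW_fst]; exact (X.lev_spec hlev).2.1
      exact X.coef_wG_mem hm1 hnd (fun q hq => ⟨((X.lev_spec hlev).1 _ (X.mem_orbW hq)).1,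
        ((X.lev_spec hlev).1 _ (X.mem_orbW hq)).2.ge⟩) ⟨p.1, hl⟩ hh.le hp rfl
    let v : Fin D.rank → F := fun i => X.cf (X.y (X.orP (A i)) (t (A i)).1) (C.sr i.val)
    have hpiA : ∀ i, A (X.piF i) = A i := fun i =>
      huniq _ _ ((X.mem_orbF (A i).isLt).1 ((X.pi_mem_iff (A i).isLt i).2 ((X.mem_orbF (A i).isLt).2 (hA' i))))
    have hv : X.Compat v := fun i => by
      have hlev := X.orP_mem_lev (A i).isLt
      have hy := X.y_mem_lev hlev (t (A i)).2.2
      obtain ⟨hl, hh⟩ := (X.lev_spec hlev).1 (C.sr i.val) (by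
        rw [orP, kmap_eq]; exact List.mem_map.2 ⟨i.val, hA' i, rfl⟩)
      have h := (X.coef_sig hm1 hy.1).2 ⟨C.sr i.val, hl⟩ ⟨C.sr (X.piF i).val, X.S.ok.sr_lt (X.piF i).isLt⟩
        (X.pi_spec i.isLt).2.1.symm hh.le
      rw [show X.sig (X.y (X.orP (A i)) (t (A i)).1) = X.y (X.orP (A i)) (t (A i)).1 from hy.2,
        (X.pi_spec i.isLt).2.2.1, one_mul, ← X.cf_val, ← X.cf_val] at h
      show X.f (X.cf _ (C.sr i.val)) = X.cf (X.y (X.orP (A (X.piF i))) (t (A (X.piF i))).1) _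
      rw [hpiA]
      exact h.symm
    have hhead : ∀ a : Fin W.nO, v (X.hd a.isLt) = (t a).1 := fun a => by
      have e := huniq (X.hd a.isLt) a ((X.mem_orbF a.isLt).1 (X.hd_mem a.isLt))
      show X.cf _ _ = _
      rw [e]
      have hne := X.orbAt_ne_nil a.isLt
      obtain ⟨x, L, ex⟩ := List.exists_cons_of_ne_nil hne
      have : (C.sr (X.hd a.isLt).val, (t a).1) ∈ X.orbW (X.orP a) (t a).1 := by
        show (C.sr ((W.orbAt a).headD 0), _) ∈ _
        show _ ∈ X.orbW (kmap C.sr (W.orbAt a.val)) _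
        rw [ex, kmap_eq, List.map_cons, orbW]
        exact List.mem_cons_self
      have h2 := hval (X.hd a.isLt) (C.sr (X.hd a.isLt).val, (t a).1) (by rw [e]; exact this) rfl
      rw [e] at h2
      exact h2
    have hne : ∀ i : Fin D.rank, v i ≠ 0 := fun i => by
      let u : ℕ → F := fun n => if h : n < D.rank then v ⟨n, h⟩ else 1
      have key := kcyc_iff_head (Q := fun n => u n = 0) _ _ (X.orb_spec (A i).isLt).2.2.1 fun n hn => by
        have hl := (X.orb_spec (A i).isLt).1 n hn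
        simp only [u, dif_pos hl, dif_pos (X.pi_spec hl).1]
        rw [show v ⟨W.piAt n, (X.pi_spec hl).1⟩ = X.f (v ⟨n, hl⟩) from (hv ⟨n, hl⟩).symm, map_eq_zero]
      intro h0
      have := (key i.val (hA' i)).1 (by simpa [u] using h0)
      have hl : (W.orbAt (A i)).headD 0 < D.rank := (X.hd (A i).isLt).isLt
      simp only [u, dif_pos hl] at this
      exact (t (A i)).2.1 ((hhead (A i)).symm.trans this)
    refine ⟨⟨fun i => Units.mk0 (v i) (hne i), fun i => ?_⟩, funext fun a => Subtype.ext (hhead a)⟩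
    simpa using hv i

theorem card_T1 {κ : ℕ} (hκ : Nat.card {c : Fin D.rank → Fˣ // c ∈ X.CT ∧ Ok.tG D F c = 1} = κ) :
    κ * Nat.card ↥X.T1 = ∏ a : Fin W.nO, (X.q ^ (W.orbAt a).length - 1) := by
  let ψ : ↥X.CT →* GL D.Idx F := (Ok.tG D F).comp X.CT.subtype
  have hr : ψ.range = X.T1 := by
    rw [MonoidHom.range_comp, Subgroup.range_subtype]; rfl
  have hk : Nat.card ψ.ker = κ := by
    rw [← hκ]
    exact Nat.card_congr ⟨fun c => ⟨c.1.1, c.1.2, c.2⟩, fun c => ⟨⟨c.1, c.2.1⟩, c.2.2⟩,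
      fun _ => rfl, fun _ => rfl⟩
  rw [← X.card_CT, ← hr, ← hk, ← Subgroup.index_ker, Subgroup.card_mul_index]

end Tw

end Cfsg.Lib.Chev
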