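import Cfsg.Agent.Chev.Tw.D4InvRed
import Mathlib.LinearAlgebra.Matrix.Rank
import Mathlib.LinearAlgebra.Matrix.Block

/-! The two representatives of the involutions of a triality group differ in rank. -/

set_option autoImplicit false
set_option linter.unusedSectionVars false
set_option maxRecDepth 20000

open Cfsg.Lie

namespace Cfsg.Lib.Chev.D4

private theorem fact_two : Fact (Nat.Prime 2) := ⟨Nat.prime_two⟩

attribute [local instance] fact_two

/-- The coordinate with the given number. -/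
def ix (n : ℕ) : chevD4.Idx :=
  if h : n < chevD4.rank then Sum.inl ⟨n, h⟩
  else if h' : n - chevD4.rank < chevD4.nroots then Sum.inr ⟨n - chevD4.rank, h'⟩ else Sum.inl ⟨0, by decide +kernel⟩

/-- The ten coordinates hit by the long root element minus one. -/
def rowsB : Finset chevD4.Idx := ([1, 5, 9, 14, 15, 18, 19, 20, 23, 27].map ix).toFinset

theorem rowsB_card : rowsB.card ≤ 10 := by decide +kernel

/-- Outside those rows the long root element agrees with the identity. -/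
def okRows : Bool :=
  (List.range 28).all fun i => ([1, 5, 9, 14, 15, 18, 19, 20, 23, 27].contains i) || (List.range 28).all fun j =>
    decide (chevD4.x (ZMod 2) 14 1 (ix i) (ix j) = if i = j then 1 else 0)

theorem okRows_true : okRows = true := by decide +kernel

theorem ix_enc (a : chevD4.Idx) : ∃ n < 28, ix n = a ∧ ∀ m < 28, ix m = a → m = n := by
  revert a; decide +kernel

theorem rowsB_spec : ∀ i, i ∉ rowsB → ∀ j,
    chevD4.x (ZMod 2) 14 1 i j = (1 : Matrix chevD4.Idx chevD4.Idx (ZMod 2)) i j := by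
  intro i hi j
  obtain ⟨a, ha, rfl, hia⟩ := ix_enc i
  obtain ⟨b, hb, rfl, hjb⟩ := ix_enc j
  have h := okRows_true
  simp only [okRows, List.all_eq_true, Bool.or_eq_true, decide_eq_true_eq, List.contains_eq_mem, List.mem_range] at h
  rcases h a ha with hm | hm
  · exact absurd (List.mem_toFinset.2 (List.mem_map.2 ⟨a, hm, rfl⟩)) hi
  · rw [hm b hb, Matrix.one_apply]
    by_cases hab : a = b
    · rw [if_pos hab, hab, if_pos rfl]
    · rw [if_neg hab, if_neg fun e => hab ((hia b hb e.symm).symm)]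

/-- Rows of a triangular minor. -/
def rowA (i : Fin 11) : chevD4.Idx := ix ([26, 13, 17, 21, 12, 11, 25, 10, 19, 3, 2].getD i.val 0)
/-- Columns of a triangular minor. -/
def colA (i : Fin 11) : chevD4.Idx := ix ([21, 12, 1, 19, 7, 10, 20, 5, 18, 15, 14].getD i.val 0)

theorem minor_spec : ∀ i j : Fin 11, j ≤ i →
    (chevD4.x (ZMod 2) 18 1 * chevD4.x (ZMod 2) 13 1 * chevD4.x (ZMod 2) 12 1 - 1) (rowA i) (colA j) =
      if i = j then 1 else 0 := by decide +kernel

variable {K : Type*} [Field K] [Fintype K] [CharP K 2] {X : Tw chevD4 chevG2 D4.cert G2.cert D4.tw D4.htTab K}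

theorem x_cast (r : ℕ) : chevD4.x K r 1 = (chevD4.x (ZMod 2) r 1).map (ZMod.castHom (dvd_refl 2) K) := by
  rw [Ok.map_x, map_one]

theorem rank_long : Matrix.rank ((rB (1 : K) : GL chevD4.Idx K).1 - 1) ≤ 10 := by
  classical
  have h1 := rowsB_card
  have h2 := rowsB_spec
  set M := (rB (1 : K) : GL chevD4.Idx K).1 - 1 with hM
  let d : chevD4.Idx → K := fun i => if i ∈ rowsB then 1 else 0
  have e : M = Matrix.diagonal d * M := by
    ext i j
    rw [Matrix.diagonal_mul]
    by_cases hi : i ∈ rowsB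
    · simp [d, hi]
    · have : M i j = 0 := by
        rw [hM, rB, D4.struct.ok.val_xG, x_cast, Matrix.sub_apply, Matrix.map_apply, h2 i hi j]
        by_cases hij : i = j <;> simp [Matrix.one_apply, hij]
      simp [d, hi, this]
  rw [e]
  refine (Matrix.rank_mul_le_left _ _).trans ?_
  rw [Matrix.rank_diagonal]
  refine le_trans (le_of_eq ?_) h1
  exact Fintype.card_of_subtype rowsB fun i => by by_cases hi : i ∈ rowsB <;> simp [d, hi]

theorem rank_short : 11 ≤ Matrix.rank ((rA X 1).1 - 1) := by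
  classical
  let P : Matrix chevD4.Idx chevD4.Idx (ZMod 2) :=
    chevD4.x (ZMod 2) 18 1 * chevD4.x (ZMod 2) 13 1 * chevD4.x (ZMod 2) 12 1 - 1
  let S : Matrix (Fin 11) (Fin 11) K := ((rA X 1).1 - 1).submatrix rowA colA
  have hS : ∀ i j, j ≤ i → S i j = if i = j then 1 else 0 := by
    intro i j h
    have e : (rA X 1).1 - 1 = P.map (ZMod.castHom (dvd_refl 2) K) := by
      simp only [rA, P, map_one, Units.val_mul, D4.struct.ok.val_xG]
      rw [x_cast 18, x_cast 13, x_cast 12]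
      rw [Matrix.map_sub _ (map_sub _), Matrix.map_mul, Matrix.map_mul,
        Matrix.map_one _ (map_zero _) (map_one _)]
    show ((rA X 1).1 - 1) (rowA i) (colA j) = _
    rw [e, Matrix.map_apply]
    show ZMod.castHom (dvd_refl 2) K (P (rowA i) (colA j)) = _
    rw [show P (rowA i) (colA j) = _ from minor_spec i j h]
    split_ifs <;> simp
  have hdet : S.det = 1 := by
    rw [Matrix.det_of_upperTriangular (fun i j (h : j < i) => by rw [hS i j h.le, if_neg (ne_of_gt h)])]
    exact Finset.prod_eq_one fun i _ => by rw [hS i i le_rfl, if_pos rfl]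
  have hr : S.rank = 11 := by
    rw [Matrix.rank_of_isUnit S ((Matrix.isUnit_iff_isUnit_det S).2 (by rw [hdet]; exact isUnit_one)), Fintype.card_fin]
  rw [← hr]
  exact Matrix.rank_submatrix_le _ _ _

theorem not_cj : ¬ Cj X (rA X 1) (rB 1) := by
  rintro ⟨h, -, e⟩
  have e1 : (rB (1 : K) : GL chevD4.Idx K).1 - 1 = h.1 * ((rA X 1).1 - 1) * (h⁻¹).1 := by
    rw [← e, Units.val_mul, Units.val_mul, mul_sub, sub_mul, mul_one, Units.mul_inv]
  have e2 : Matrix.rank ((rB (1 : K) : GL chevD4.Idx K).1 - 1) = Matrix.rank ((rA X 1).1 - 1) := by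
    rw [e1, Matrix.rank_mul_eq_left_of_isUnit_det _ _ ((Matrix.isUnit_iff_isUnit_det _).1 (h⁻¹).isUnit),
      Matrix.rank_mul_eq_right_of_isUnit_det _ _ ((Matrix.isUnit_iff_isUnit_det _).1 h.isUnit)]
  have := rank_long (K := K)
  have := rank_short (X := X)
  omega

theorem rA_one_ne : rA X (1 : K) ≠ 1 := fun h => by
  have := rank_short (X := X)
  rw [h, Units.val_one, sub_self, Matrix.rank_zero] at this
  omega

theorem rB_one_ne (X : Tw chevD4 chevG2 D4.cert G2.cert D4.tw D4.htTab K) : rB (1 : K) ≠ 1 := fun h => one_ne_zero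
  (N6_inj (X := X) (a := 0) (b := (1 : K)) (c := 0) (d := 0) (e := 0) (g := 0)
    ⟨map_one _, map_zero _, map_zero _⟩ ⟨map_zero _, map_zero _, map_zero _⟩
    (show _ = N6 X 0 0 0 0 0 0 by simp [N6, rA_zero, rC_zero, rD_zero, rE_zero, rF_zero, rB_zero, h])).2.1

theorem not_dvd_ord {q : ℕ} (hq : 2 ∣ q) (h1 : 1 ≤ q) : ¬ 2 ∣ (q ^ 2 - 1) * (q ^ 6 - 1) * (q ^ 8 + q ^ 4 + 1) := by
  have hp : ∀ n, 0 < n → 2 ∣ q ^ n := fun n hn => hq.trans (dvd_pow_self _ hn.ne')
  have := hp 2 (by norm_num); have := hp 6 (by norm_num); have := hp 8 (by norm_num); have := hp 4 (by norm_num)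
  have : 1 ≤ q ^ 2 := Nat.one_le_pow _ _ h1
  have : 1 ≤ q ^ 6 := Nat.one_le_pow _ _ h1
  rw [Nat.prime_two.dvd_mul, Nat.prime_two.dvd_mul]
  omega

theorem class_count {k : ℕ} (hq : X.q = 2 ^ k) :
    (ConjClasses.mk '' {g : ↥X.G1 | orderOf g = 2}).ncard = 2 := by
  classical
  have hk : 1 ≤ k := Nat.one_le_iff_ne_zero.2 fun h => by have := X.hq; rw [hq, h] at this; simp at this
  have h2q : 2 ∣ X.q := hq ▸ dvd_pow_self 2 (by omega)
  have hcard : Nat.card ↥X.G1 = X.q ^ 12 * ((X.q ^ 2 - 1) * (X.q ^ 6 - 1) * (X.q ^ 8 + X.q ^ 4 + 1)) := by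
    rw [G1_eq X, twOrder (q := X.q) ⟨2, k, Nat.prime_two.prime, hk, hq.symm⟩
      (by rw [← Nat.card_eq_fintype_card, X.hcard]; rfl)]
    ring
  have hU : Nat.card ↥((chevD4.posUnipotent K ⊓ X.G1).subgroupOf X.G1) =
      2 ^ (Nat.card ↥X.G1).factorization 2 := by
    have h12 : X.q ^ 12 = 2 ^ (k * 12) := by rw [hq, ← pow_mul]
    have hodd := not_dvd_ord h2q (by have := X.hq; omega)
    rw [Nat.card_congr (Subgroup.subgroupOfEquivOfLe inf_le_right).toEquiv, X.U_inf_G1, X.card_U_fix, hcard,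
      Nat.factorization_mul (a := X.q ^ 12) (by rw [h12]; positivity) (fun h => hodd (by rw [h]; exact dvd_zero 2)), Finsupp.add_apply,
      Nat.factorization_eq_zero_of_not_dvd hodd, add_zero, h12, Nat.prime_two.factorization_pow,
      Finsupp.single_eq_same, ← h12]
    rfl
  let PU : Sylow 2 ↥X.G1 := Sylow.ofCard _ hU
  have h1A : rA X 1 ∈ X.G1 := rA_mem 1
  have h1B : (rB 1 : GL chevD4.Idx K) ∈ X.G1 := rB_mem (map_one X.f)
  let tA : ↥X.G1 := ⟨_, h1A⟩
  let tB : ↥X.G1 := ⟨_, h1B⟩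
  have ord2 : ∀ (w : GL chevD4.Idx K) (hw : w ∈ X.G1), w ≠ 1 → w * w = 1 → orderOf (⟨w, hw⟩ : ↥X.G1) = 2 :=
    fun w hw hne hsq => orderOf_eq_prime (Subtype.ext (by simpa [sq] using hsq))
      (fun h => hne (congrArg Subtype.val h))
  have hoA : orderOf tA = 2 := ord2 _ h1A rA_one_ne (rA_inv X 1)
  have hoB : orderOf tB = 2 := ord2 _ h1B (rB_one_ne X) (rB_inv 1)
  have key : ∀ g t : ↥X.G1, Cj X g.1 t.1 → ConjClasses.mk g = ConjClasses.mk t := by
    rintro g t ⟨h, hh, e⟩
    exact ConjClasses.mk_eq_mk_iff_isConj.2 (isConj_iff.2 ⟨⟨h, hh⟩, Subtype.ext (by simpa using e)⟩)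
  have hset : ConjClasses.mk '' {g : ↥X.G1 | orderOf g = 2} = {ConjClasses.mk tA, ConjClasses.mk tB} := by
    refine Set.Subset.antisymm ?_ ?_
    · rintro _ ⟨g, hg, rfl⟩
      obtain ⟨Q, hQ⟩ := (show IsPGroup 2 (Subgroup.zpowers g) from
        IsPGroup.of_card (n := 1) (by rw [Nat.card_zpowers, hg, pow_one])).exists_le_sylow
      obtain ⟨c, rfl⟩ := MulAction.exists_smul_eq ↥X.G1 PU Q
      obtain ⟨u, huP, hue⟩ := hQ (Subgroup.mem_zpowers g)
      have huU : (u : GL chevD4.Idx K) ∈ chevD4.posUnipotent K ⊓ X.G1 := Subgroup.mem_subgroupOf.1 huP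
      rw [X.U_inf_G1] at huU
      have e : (c : GL chevD4.Idx K) * u * (c : GL chevD4.Idx K)⁻¹ = g := congrArg Subtype.val hue
      have hc : Cj X (g : GL chevD4.Idx K) u := Cj.symm ⟨c, c.2, e⟩
      have hg2 : (g : GL chevD4.Idx K) * g = 1 := by
        have := congrArg Subtype.val (pow_orderOf_eq_one g)
        rwa [hg, sq] at this
      have hu1 : (u : GL chevD4.Idx K) ≠ 1 := fun h => by
        rw [h, mul_one, mul_inv_cancel] at e
        have : g = 1 := Subtype.ext e.symm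
        rw [this, Set.mem_setOf_eq, orderOf_one] at hg
        omega
      rcases red_invol huU (hc.sq hg2) hu1 with h | h
      exacts [Or.inl (key g tA (hc.trans h)), Or.inr (key g tB (hc.trans h))]
    · rintro _ (rfl | rfl)
      exacts [⟨tA, hoA, rfl⟩, ⟨tB, hoB, rfl⟩]
  rw [hset, Set.ncard_pair]
  intro e
  obtain ⟨c, hc⟩ := isConj_iff.1 (ConjClasses.mk_eq_mk_iff_isConj.1 e)
  exact not_cj (X := X) ⟨c.1, c.2, by simpa using congrArg Subtype.val hc⟩

end Cfsg.Lib.Chev.D4
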