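import Cfsg.Agent.Chev.Tw.AutE6
import Cfsg.Agent.Chev.Tw.ConjIn

/-! Two generators for the groups ²E₆(q). -/

set_option autoImplicit false
set_option linter.unusedSectionVars false

open Cfsg.Lie

namespace Cfsg.Lib.Chev.E6

/-- The word of the second generator. -/
def gw : List (Fin E6.tw.nO) := [o0, o1, o2, o3, o1, o2, o0, o1, o2, o3, o2, o1, o2, o1]

/-- A long reflection. -/
def r44 : List (Fin E6.tw.nO) := [o1, o2, o1]

/-- The exponents of a conjugate of the torus generator. -/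
noncomputable def kExp (L : List ℕ) (a : ℕ) : ℤ × ℤ :=
  let r := E6.cert.wL (E6.tw.flat L.reverse) (E6.cert.sr ((E6.tw.orbAt a).headD 0))
  (chevE6.cartan 2 r, chevE6.cartan 4 r)

/-- The exponents of the torus element of a pair of nodes. -/
noncomputable def pExp (i j : ℕ) (a : ℕ) : ℤ × ℤ :=
  let h := E6.cert.sr ((E6.tw.orbAt a).headD 0)
  (chevE6.cartan i h, chevE6.cartan j h)

theorem kExp_tab : ∀ L ∈ [[], [0], [1], gw.map Fin.val, r44.map Fin.val,
      [0] ++ r44.map Fin.val ++ gw.map Fin.val, gw.map Fin.val ++ [0] ++ gw.map Fin.val],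
    ∀ a < 4, E6.cert.wL (E6.tw.flat L) (E6.cert.wL (E6.tw.flat L.reverse) (E6.cert.sr ((E6.tw.orbAt a).headD 0))) =
        E6.cert.sr ((E6.tw.orbAt a).headD 0) ∧
      E6.cert.wL (E6.tw.flat L.reverse) (E6.cert.sr ((E6.tw.orbAt a).headD 0)) < chevE6.nroots := by
  decide +kernel

theorem exp_inv : ∀ a < 4, kExp (gw.map Fin.val) a = (-(kExp [] a).1, -(kExp [] a).2) := by decide +kernel

theorem exp_e0 : ∀ a < 4, pExp 0 5 a =
    (-(kExp [] a).1 + (kExp [0] a).1, -(kExp [] a).2 + (kExp [0] a).2) := by decide +kernel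

theorem exp_e3 : ∀ a < 4, pExp 3 3 a =
    (-(kExp [] a).2 + -(kExp (r44.map Fin.val) a).1, -(kExp [] a).1 + -(kExp (r44.map Fin.val) a).2) := by
  decide +kernel

theorem exp_e1 : ∀ a < 4, pExp 1 1 a =
    (-(kExp ([0] ++ r44.map Fin.val ++ gw.map Fin.val) a).2 + (kExp (r44.map Fin.val) a).1 +
        -(kExp (gw.map Fin.val ++ [0] ++ gw.map Fin.val) a).1,
      -(kExp ([0] ++ r44.map Fin.val ++ gw.map Fin.val) a).1 + (kExp (r44.map Fin.val) a).2 +
        -(kExp (gw.map Fin.val ++ [0] ++ gw.map Fin.val) a).2) := by decide +kernel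

theorem exp_vals : kExp [] 0 = (-1, 0) ∧ kExp [] 3 = (0, 0) ∧ kExp [1] 2 = (1, 1) := by decide +kernel

theorem comm_roots : chevE6.commTerms 67 10 = [(44, 1, 1, 1)] ∧ chevE6.commTerms 55 22 = [(44, 1, 1, 1)] ∧
    (∀ p ∈ [(55, 10), (67, 22), (44, 67), (44, 55), (44, 22), (44, 10)], TwDat.commOK chevE6 p.1 p.2 = true) ∧
    (67 < chevE6.nroots ∧ 55 < chevE6.nroots ∧ 22 < chevE6.nroots ∧ 10 < chevE6.nroots ∧ 44 < chevE6.nroots ∧
      (10 : ℕ) ≠ 67 ∧ (10 : ℕ) ≠ chevE6.neg 67 ∧ (22 : ℕ) ≠ 55 ∧ (22 : ℕ) ≠ chevE6.neg 55) := by decide +kernel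

theorem act_roots :
    (E6.cert.wL (E6.tw.flat (gw.map Fin.val)) 56 = 67 ∧ E6.cert.sgnL (E6.tw.flat (gw.map Fin.val)) 56 = -1) ∧
    (E6.cert.wL (E6.tw.flat (gw.map Fin.val)) 36 = 55 ∧ E6.cert.sgnL (E6.tw.flat (gw.map Fin.val)) 36 = 1) ∧
    (E6.cert.wL (E6.tw.flat ((gw ++ gw ++ gw).map Fin.val)) 56 = 22 ∧
      E6.cert.sgnL (E6.tw.flat ((gw ++ gw ++ gw).map Fin.val)) 56 = 1) ∧
    (E6.cert.wL (E6.tw.flat ((gw ++ gw ++ gw).map Fin.val)) 36 = 10 ∧
      E6.cert.sgnL (E6.tw.flat ((gw ++ gw ++ gw).map Fin.val)) 36 = -1) ∧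
    (E6.cert.wL (E6.tw.flat [1]) 39 = 44 ∧ E6.cert.sgnL (E6.tw.flat [1]) 39 = -1) ∧
    E6.tw.G.eps chevE6.rank 56 = 1 ∧ 56 < chevE6.nroots ∧ 36 < chevE6.nroots ∧ 39 < chevE6.nroots := by
  decide +kernel

theorem words :
    (∀ r < chevE6.nroots, E6.cert.wL (E6.tw.flat (([o0] ++ gw ++ ([o0] ++ gw) ++ ([o0] ++ gw)).map Fin.val)) r =
      E6.cert.wL (E6.tw.flat ([o2].map Fin.val)) r) ∧
    (∀ r < chevE6.nroots, E6.cert.wL (E6.tw.flat (([o3] ++ gw ++ ([o3] ++ gw) ++ ([o3] ++ gw)).map Fin.val)) r =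
      E6.cert.wL (E6.tw.flat ([o1].map Fin.val)) r) := by decide +kernel

variable {K : Type*} [Field K] [Fintype K] (X : Tw chevE6 chevF4 E6.cert F4.cert E6.tw E6.htTab K)

theorem exists_gen_pow {g : Kˣ} (hg : ∀ x : Kˣ, x ∈ Subgroup.zpowers g) {z : Kˣ} (hz : (z : K) ^ X.q = z) :
    ∃ i : ℤ, z = g ^ (((X.q : ℤ) + 1) * i) := by
  obtain ⟨i, rfl⟩ := Subgroup.mem_zpowers_iff.1 (hg z)
  have hq := X.hq
  obtain ⟨k, hk⟩ : ∃ k, X.q = k + 1 := ⟨X.q - 1, by omega⟩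
  have h1 : (g ^ i) ^ k = 1 := by
    have h2 : (g ^ i) ^ (k + 1) = g ^ i := Units.ext (by rw [Units.val_pow_eq_pow_val, ← hk]; exact hz)
    rwa [pow_succ, mul_eq_right] at h2
  rw [← zpow_natCast, ← zpow_mul] at h1
  have h3 := orderOf_dvd_iff_zpow_eq_one.2 h1
  have hN : orderOf g = k * (X.q + 1) := by
    rw [orderOf_eq_card_of_forall_mem_zpowers hg, Nat.card_units, X.hcard]
    show X.q ^ 2 - 1 = _
    have : X.q ^ 2 = k * (X.q + 1) + 1 := by rw [hk]; ring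
    omega
  rw [hN, Nat.cast_mul, mul_comm i, mul_dvd_mul_iff_left (by omega)] at h3
  obtain ⟨j, rfl⟩ := h3
  exact ⟨j, by push_cast; rfl⟩

/-- The characters of a torus element are the given powers of `g`. -/
def HasExp (g : Kˣ) (t : ↥X.G1) (E : ℕ → ℤ × ℤ) : Prop :=
  t ∈ X.Ts ∧ ∀ a : Fin E6.tw.nO, X.chi a t = ((g ^ ((E a.val).1 + (X.q : ℤ) * (E a.val).2) : Kˣ) : K)

variable {X}

theorem HasExp.mul {g : Kˣ} {t t' : ↥X.G1} {E E' : ℕ → ℤ × ℤ} (h : HasExp X g t E) (h' : HasExp X g t' E') :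
    HasExp X g (t * t') (fun a => ((E a).1 + (E' a).1, (E a).2 + (E' a).2)) := by
  refine ⟨mul_mem h.1 h'.1, fun a => ?_⟩
  rw [X.chi_mul h.1 h'.1, h.2, h'.2, ← Units.val_mul, ← zpow_add]
  congr 2
  ring

theorem HasExp.inv {g : Kˣ} {t : ↥X.G1} {E : ℕ → ℤ × ℤ} (h : HasExp X g t E) :
    HasExp X g t⁻¹ (fun a => (-(E a).1, -(E a).2)) := by
  refine ⟨inv_mem h.1, fun a => ?_⟩
  refine mul_left_cancel₀ (X.chi_ne_zero (a := a) h.1) ?_
  rw [← X.chi_mul h.1 (inv_mem h.1), mul_inv_cancel, X.chi_one, h.2, ← Units.val_mul, ← zpow_add]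
  simp only
  rw [show (E a.val).1 + (X.q : ℤ) * (E a.val).2 + (-(E a.val).1 + (X.q : ℤ) * -(E a.val).2) = 0 by ring]
  simp

theorem chi_pow {t : ↥X.G1} (ht : t ∈ X.Ts) (a : Fin E6.tw.nO) : ∀ n : ℕ, X.chi a (t ^ n) = X.chi a t ^ n
  | 0 => by rw [pow_zero, pow_zero, X.chi_one]
  | n + 1 => by rw [pow_succ, pow_succ, X.chi_mul (pow_mem ht n) ht, chi_pow ht a n]

theorem HasExp.frob {g : Kˣ} {t : ↥X.G1} {E : ℕ → ℤ × ℤ} (h : HasExp X g t E) :
    HasExp X g (t ^ X.q) (fun a => ((E a).2, (E a).1)) := by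
  refine ⟨pow_mem h.1 _, fun a => ?_⟩
  rw [chi_pow h.1, h.2, ← Units.val_pow_eq_pow_val]
  congr 1
  have hq2 : g ^ ((X.q : ℤ) * X.q) = g := by
    refine Units.ext ?_
    rw [← Nat.cast_mul, zpow_natCast, Units.val_pow_eq_pow_val, pow_mul, ← X.hfq, ← X.hfq, ff X]
  rw [← zpow_natCast, ← zpow_mul, show ((E a.val).1 + (X.q : ℤ) * (E a.val).2) * (X.q : ℤ) =
    (X.q : ℤ) * (E a.val).1 + ((X.q : ℤ) * X.q) * (E a.val).2 by ring, zpow_add, zpow_mul g (_ * _), hq2, ← zpow_add]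
  congr 1
  simp only
  ring

theorem HasExp.ext {g : Kˣ} {t t' : ↥X.G1} {E E' : ℕ → ℤ × ℤ} (h : HasExp X g t E) (h' : HasExp X g t' E')
    (he : ∀ a < 4, E a = E' a) : t = t' :=
  X.chi_inj h.1 h'.1 fun a => by
    rw [h.2, h'.2, he a.val (lt_of_lt_of_eq a.isLt (by decide +kernel))]

theorem chr_unit (g : Kˣ) : Units.map (X.f : K →* K) g = g ^ (X.q : ℤ) := by
  refine Units.ext ?_
  rw [zpow_natCast, Units.val_pow_eq_pow_val]
  exact X.hfq _

variable (X)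

set_option maxHeartbeats 2000000 in
theorem two_gen {p n : ℕ} [Fact p.Prime] (hn : 1 ≤ n) (hq : X.q = p ^ n) :
    ∃ a b : ↥X.G1, Subgroup.closure ({a, b} : Set ↥X.G1) = ⊤ := by
  classical
  haveI := X.finite
  have hq1 := X.hq
  have hM := relOK X
  obtain ⟨g, hg⟩ := IsCyclic.exists_generator (α := Kˣ)
  set A := ctx X
  have all0 := fun t => allowed_long X (a := o0) (Or.inl rfl) t
  have a1 := X.allowed_one o3
  -- the torus elements of the pairs of nodes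
  obtain ⟨ck, hck, vk⟩ := exists_CT X 1 g 1 1 (by simp) (by simp)
  have hfix : ∀ x : Kˣ, (x : K) ^ X.q = x → Units.map (X.f : K →* K) x = x := fun x hx =>
    Units.ext ((X.hfq _).trans hx)
  have hgq : ((g ^ ((X.q : ℤ) + 1) : Kˣ) : K) ^ X.q = ((g ^ ((X.q : ℤ) + 1) : Kˣ) : K) := by
    rw [← X.hfq, zpow_add_one, zpow_natCast, Units.val_mul, Units.val_pow_eq_pow_val, map_mul, map_pow, X.hfq,
      ← pow_mul, pow_mul, ← X.hfq, ← X.hfq, ff X, X.hfq, mul_comm]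
  obtain ⟨c0, hc0, v0⟩ := exists_CT X g 1 1 1 (by simp) (by simp)
  obtain ⟨c3, hc3, v3⟩ := exists_CT X 1 1 (g ^ ((X.q : ℤ) + 1)) 1 hgq (by simp)
  obtain ⟨c1, hc1, v1⟩ := exists_CT X 1 1 1 (g ^ ((X.q : ℤ) + 1)) (by simp) hgq
  let el : ∀ c ∈ X.CT, ↥X.G1 := fun c hc => ⟨Ok.tG chevE6 K c, X.T1_le_G1 ⟨c, hc, rfl⟩⟩
  have helT : ∀ c (hc : c ∈ X.CT), el c hc ∈ X.Ts := fun c hc => ⟨c, hc, rfl⟩
  set k := el ck hck with hk_def
  have hkT : k ∈ X.Ts := helT ck hck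
  have prodk : ∀ r, ∏ i, ck i ^ chevE6.cartan i r =
      g ^ (chevE6.cartan 2 r + (X.q : ℤ) * chevE6.cartan 4 r) := fun r => by
    show ∏ i : Fin 6, ck i ^ chevE6.cartan i.val r = _
    rw [Fin.prod_univ_six, vk, vk, vk, vk, vk, vk]
    simp [chr_unit, zpow_add, zpow_mul]
  have hconjk : ∀ L : List (Fin E6.tw.nO), L.map Fin.val ∈ [[], [0], [1], gw.map Fin.val, r44.map Fin.val,
      [0] ++ r44.map Fin.val ++ gw.map Fin.val, gw.map Fin.val ++ [0] ++ gw.map Fin.val] →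
      HasExp X g (X.ns L * k * (X.ns L)⁻¹) (kExp (L.map Fin.val)) := by
    intro L hL
    refine ⟨(X.ns_conj_Ts L hkT).1, fun a => ?_⟩
    obtain ⟨hw, hr⟩ := kExp_tab _ hL a.val (lt_of_lt_of_eq a.isLt (by decide +kernel))
    obtain ⟨c', hc', e'⟩ := X.exists_tG (X.ns_conj_Ts L hkT).1
    have h := X.chi_conj L hr (c := ck) rfl e'
    rw [hw, prodk] at h
    rw [X.chi_eq hc' e']
    exact congrArg Units.val h
  have hexp : ∀ (i j : ℕ) (c : Fin chevE6.rank → Kˣ) (hc : c ∈ X.CT),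
      (∀ r, ∏ l, c l ^ chevE6.cartan l r = g ^ (chevE6.cartan i r + (X.q : ℤ) * chevE6.cartan j r)) →
      HasExp X g (el c hc) (pExp i j) := fun i j c hc h =>
    ⟨helT c hc, fun a => (X.chi_eq hc rfl).trans (congrArg Units.val (h _))⟩
  have hk0 : HasExp X g k (kExp []) := by
    have := hconjk [] (by simp)
    rwa [show X.ns [] = 1 from Subtype.ext (by show X.nW [] = 1; simp [Tw.nW_eq_prod]), one_mul, inv_one,
      mul_one] at this
  have hchi0 : X.chi o0 k = ((g⁻¹ : Kˣ) : K) := by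
    rw [hk0.2, show kExp [] o0.val = (-1, 0) from exp_vals.1]
    simp
  have hchi3 : X.chi o3 k = 1 := by
    rw [hk0.2, show kExp [] o3.val = (0, 0) from exp_vals.2.1]
    simp
  set a := X.ya o3 1 * k with ha_def
  set b := X.ya o0 1 * X.ns gw with hb_def
  set M := Subgroup.closure ({a, b} : Set ↥X.G1) with hMdef
  refine ⟨a, b, ?_⟩
  rw [← hMdef]
  have ha : a ∈ M := Subgroup.subset_closure (Or.inl rfl)
  have hb : b ∈ M := Subgroup.subset_closure (Or.inr rfl)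
  -- the first generator
  have hcomm : Commute (X.ya o3 1) k := by
    have h := (X.conj_ya hkT a1).2
    rw [hchi3, one_mul, mul_inv_eq_iff_eq_mul] at h
    exact h.symm
  have hnat : ∀ m : ℕ, (m : K) ∈ X.Allowed (X.orP o3) ∧ X.ya o3 1 ^ m = X.ya o3 (m : K) := by
    intro m
    induction m with
    | zero => exact ⟨by rw [Nat.cast_zero]; exact X.allowed_zero _, by rw [pow_zero, Nat.cast_zero, X.ya_zero]⟩
    | succ m ih => exact ⟨by rw [Nat.cast_succ]; exact X.allowed_add ih.1 a1,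
        by rw [pow_succ, ih.2, X.ya_add ih.1 a1, Nat.cast_succ]⟩
  have hkN : k ^ Nat.card Kˣ = 1 := by
    refine X.chi_inj (pow_mem hkT _) (one_mem _) fun a => ?_
    rw [chi_pow hkT, X.chi_one, hk0.2, ← Units.val_pow_eq_pow_val, pow_card_eq_one', Units.val_one]
  have hu : X.ya o3 1 ∈ M := by
    have h := pow_mem ha (Nat.card Kˣ)
    rw [ha_def, hcomm.mul_pow, hkN, mul_one, (hnat _).2] at h
    have hc : (Nat.card Kˣ : K) = -1 := by
      rw [Nat.card_units, Nat.card_eq_fintype_card, Nat.cast_sub Fintype.card_pos, FiniteField.cast_card_eq_zero,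
        Nat.cast_one, zero_sub]
    rw [hc] at h
    have hneg : (-1 : K) ∈ X.Allowed (X.orP o3) := hc ▸ (hnat _).1
    have : X.ya o3 1 = (X.ya o3 (-1))⁻¹ :=
      eq_inv_of_mul_eq_one_left (by rw [X.ya_add a1 hneg, add_neg_cancel, X.ya_zero])
    rw [this]
    exact inv_mem h
  have hkM : k ∈ M := by
    have := mul_mem (inv_mem hu) ha
    rwa [ha_def, inv_mul_cancel_left] at this
  -- the second generator
  have hninv : X.ns gw * k * (X.ns gw)⁻¹ = k⁻¹ :=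
    (hconjk gw (by simp)).ext hk0.inv exp_inv
  have hd : X.ya o0 ((g : K) - 1) ∈ M := by
    have h := mul_mem (mul_mem hb hkM) (inv_mem hb)
    rw [hb_def, show X.ya o0 1 * X.ns gw * k * (X.ya o0 1 * X.ns gw)⁻¹ =
      X.ya o0 1 * (X.ns gw * k * (X.ns gw)⁻¹) * (X.ya o0 1)⁻¹ by group, hninv] at h
    have h2 := mul_mem (inv_mem hkM) (inv_mem h)
    have hv : X.chi o0 k⁻¹ = (g : K) := by
      refine mul_left_cancel₀ (X.chi_ne_zero (a := o0) hkT) ?_
      rw [← X.chi_mul hkT (inv_mem hkT), mul_inv_cancel, X.chi_one, hchi0, ← Units.val_mul, inv_mul_cancel,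
        Units.val_one]
    have h3 := (X.conj_ya (inv_mem hkT) (all0 1)).2
    rw [hv, mul_one] at h3
    rw [show k⁻¹ * (X.ya o0 1 * k⁻¹ * (X.ya o0 1)⁻¹)⁻¹ = k⁻¹ * X.ya o0 1 * k⁻¹⁻¹ * (X.ya o0 1)⁻¹ by group, h3]
      at h2
    rwa [eq_mul_inv_iff_mul_eq.2 (show X.ya o0 ((g : K) - 1) * X.ya o0 1 = X.ya o0 (g : K) by
      rw [X.ya_add (all0 _) (all0 _), sub_add_cancel])]
  have hne : (g : K) - 1 ≠ 0 := by
    intro h
    have hg1 : g = 1 := Units.ext (sub_eq_zero.1 h)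
    have hN := orderOf_eq_card_of_forall_mem_zpowers hg
    rw [hg1, orderOf_one, Nat.card_units, X.hcard] at hN
    have : 2 ^ 2 ≤ X.q ^ E6.tw.m := by
      rw [show E6.tw.m = 2 from rfl]; exact Nat.pow_le_pow_left hq1 2
    omega
  have hU0 : ∀ t, X.ya o0 t ∈ M := by
    intro t
    rcases eq_or_ne t 0 with rfl | ht
    · rw [X.ya_zero]; exact one_mem M
    · obtain ⟨i, hi⟩ := Submonoid.mem_powers_iff _ _ |>.1
        (mem_powers_iff_mem_zpowers.2 (hg (Units.mk0 _ ht / Units.mk0 _ hne)⁻¹))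
      have h := mul_mem (mul_mem (pow_mem hkM i) hd) (inv_mem (pow_mem hkM i))
      rw [(X.conj_ya (pow_mem hkT i) (all0 _)).2, chi_pow hkT, hchi0, ← Units.val_pow_eq_pow_val, inv_pow, hi,
        inv_inv, Units.val_div_eq_div_val, Units.val_mk0, Units.val_mk0, div_mul_cancel₀ _ hne] at h
      exact h
  have hP0 : X.ConjIn M [] o0 := by
    intro u hu
    obtain ⟨t, -, rfl⟩ := X.ya_cases hu
    rw [show X.ns [] = 1 from Subtype.ext (by show X.nW [] = 1; simp [Tw.nW_eq_prod]), one_mul, inv_one, mul_one]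
    exact hU0 t
  have hRw : X.RepIn M gw := ⟨1, one_mem _, by
    rw [one_mul]
    have := mul_mem (inv_mem (hU0 1)) hb
    rwa [hb_def, inv_mul_cancel_left] at this⟩
  -- a long root subgroup from the short ones
  have hX1 : ∀ s, X.ns gw * X.ya o0 s * (X.ns gw)⁻¹ ∈ M := fun s =>
    by simpa using Tw.ConjIn.mul X hM hRw hP0 _ (X.ya_mem o0 s)
  have hX3 : ∀ s, X.ns (gw ++ gw ++ gw) * X.ya o0 s * (X.ns (gw ++ gw ++ gw))⁻¹ ∈ M := fun s => by
    have := Tw.ConjIn.mul X hM (Tw.RepIn.append X hM (Tw.RepIn.append X hM hRw hRw) hRw) hP0 _ (X.ya_mem o0 s)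
    simpa using this
  obtain ⟨⟨w67, s67⟩, ⟨w55, s55⟩, ⟨w22, s22⟩, ⟨w10, s10⟩, ⟨w44, s44⟩, he56, l56, l36, l39⟩ := act_roots
  obtain ⟨t67, t55, hok, l67, l55, l22, l10, l44, n1, n2, n3, n4⟩ := comm_roots
  have yval : ∀ s, (X.ya o0 s).1 = X.S.ok.wG [(56, s), (36, X.f s)] := fun s => by
    have hp : X.orP o0 = [56, 36] := by
      show kmap E6.cert.sr (E6.tw.orbAt 0) = _
      decide +kernel
    rw [X.ya_val (all0 s), hp]
    simp [Tw.y, Tw.orbW, Tw.eps, he56]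
  have hlt2 : ∀ s : K, ∀ p ∈ [(56, s), (36, X.f s)], p.1 < chevE6.nroots := fun s p hp => by
    simp only [List.mem_cons, List.not_mem_nil, or_false] at hp
    rcases hp with rfl | rfl
    exacts [l56, l36]
  have e1 : (X.ns gw * X.ya o0 1 * (X.ns gw)⁻¹).1 = X.S.ok.xG 67 (-1) * X.S.ok.xG 55 1 := by
    show X.S.nL K (X.flatW gw) * (X.ya o0 1).1 * (X.S.nL K (X.flatW gw))⁻¹ = _
    rw [yval, X.S.nL_conj_wG _ _ (hlt2 1), X.flatW_val]
    simp [Ok.wG, w67, s67, w55, s55]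
  have e3 : ∀ t, (X.ns (gw ++ gw ++ gw) * X.ya o0 t * (X.ns (gw ++ gw ++ gw))⁻¹).1 =
      X.S.ok.xG 22 t * X.S.ok.xG 10 (-X.f t) := fun t => by
    show X.S.nL K (X.flatW _) * (X.ya o0 t).1 * (X.S.nL K (X.flatW _))⁻¹ = _
    rw [yval, X.S.nL_conj_wG _ _ (hlt2 t), X.flatW_val]
    simp only [Ok.wG, List.map_cons, List.map_nil, w22, s22, w10, s10]
    simp
  obtain ⟨t0, ht0⟩ : ∃ t : K, X.f t + t ≠ 0 := by
    by_contra hc
    simp only [not_exists, not_not] at hc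
    have h := card_pow_add_le (F := K) hq1 1
    have e : Nat.card {t : K // t ^ X.q + 1 * t = 0} = Nat.card K :=
      Nat.card_congr (Equiv.subtypeUnivEquiv fun t => by rw [one_mul, ← X.hfq]; exact hc t)
    rw [e, X.hcard] at h
    have : X.q < X.q ^ E6.tw.m := by
      rw [show E6.tw.m = 2 from rfl, pow_two]
      nlinarith
    omega
  set z0 := X.f t0 + t0 with hz0
  have hz0q : z0 ∈ X.Allowed (X.orP o2) := (allowed_short X (Or.inl rfl)).2 (by
    rw [← X.hfq, hz0, map_add, ff X, add_comm])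
  have hlong : X.ns [o1] * X.ya o2 z0 * (X.ns [o1])⁻¹ ∈ M := by
    set x := X.ns gw * X.ya o0 1 * (X.ns gw)⁻¹
    set z := X.ns (gw ++ gw ++ gw) * X.ya o0 t0 * (X.ns (gw ++ gw ++ gw))⁻¹
    have h := mul_mem (inv_mem (mul_mem (hX1 1) (hX3 t0))) (mul_mem (hX3 t0) (hX1 1))
    convert h using 1
    refine Subtype.ext ?_
    rw [Subgroup.coe_mul (x := (x * z)⁻¹), Subgroup.coe_inv, Subgroup.coe_mul (x := x), Subgroup.coe_mul (x := z),
      e1, e3]
    have hp2 : X.orP o2 = [39] := by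
      show kmap E6.cert.sr (E6.tw.orbAt 2) = _
      decide +kernel
    have hy2 : (X.ya o2 z0).1 = X.S.ok.xG 39 z0 := by
      rw [X.ya_val hz0q, hp2]; simp [Tw.y, Tw.orbW, Ok.wG]
    have eL : (X.ns [o1] * X.ya o2 z0 * (X.ns [o1])⁻¹).1 = X.S.ok.xG 44 (-z0) := by
      show X.S.nL K (X.flatW [o1]) * (X.ya o2 z0).1 * (X.S.nL K (X.flatW [o1]))⁻¹ = _
      rw [hy2, X.S.nL_conj _ l39, X.flatW_val, show ([o1] : List (Fin E6.tw.nO)).map Fin.val = [1] from rfl,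
        w44, s44]
      simp
    rw [eL]
    set A1 := X.S.ok.xG 67 (-1 : K)
    set B1 := X.S.ok.xG 55 (1 : K)
    set C1 := X.S.ok.xG 22 t0
    set E1 := X.S.ok.xG 10 (-X.f t0)
    set P := X.S.ok.xG 44 (-((-1 : K) * (-X.f t0)))
    set Q := X.S.ok.xG 44 (-((1 : K) * t0))
    have r1 : E1 * A1 = A1 * E1 * P := by
      show X.S.ok.xG 10 (-X.f t0) * X.S.ok.xG 67 (-1 : K) = _
      rw [X.S.ok.commRel X.S.chain X.S.base l67 l10 n1 n2 (-1 : K) (-X.f t0)]
      simp [ChevalleyDatum.commWord, t67, Ok.wG, P, A1, E1]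
    have r2 : C1 * B1 = B1 * C1 * Q := by
      show X.S.ok.xG 22 t0 * X.S.ok.xG 55 (1 : K) = _
      rw [X.S.ok.commRel X.S.chain X.S.base l55 l22 n3 n4 (1 : K) t0]
      simp [ChevalleyDatum.commWord, t55, Ok.wG, Q, B1, C1]
    have cEB : E1 * B1 = B1 * E1 := (X.S.commute_of_commOK l55 l10 (hok (55, 10) (by simp)) _ _).symm
    have cCA : C1 * A1 = A1 * C1 := (X.S.commute_of_commOK l67 l22 (hok (67, 22) (by simp)) _ _).symm
    have cPB : P * B1 = B1 * P := X.S.commute_of_commOK l44 l55 (hok (44, 55) (by simp)) _ _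
    have cQE : Q * E1 = E1 * Q := X.S.commute_of_commOK l44 l10 (hok (44, 10) (by simp)) _ _
    have hmove : C1 * E1 * (A1 * B1) = A1 * B1 * (C1 * E1) * (Q * P) := by
      calc C1 * E1 * (A1 * B1) = C1 * (E1 * A1) * B1 := by group
        _ = C1 * A1 * E1 * (P * B1) := by rw [r1]; group
        _ = A1 * C1 * (E1 * B1) * P := by rw [cCA, cPB]; group
        _ = A1 * (C1 * B1) * E1 * P := by rw [cEB]; group
        _ = A1 * B1 * C1 * (Q * E1) * P := by rw [r2]; group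
        _ = _ := by rw [cQE]; group
    rw [hmove, inv_mul_cancel_left, X.S.ok.xG_mul]
    refine congrArg (X.S.ok.xG 44) ?_
    rw [hz0]
    ring
  have hP12 : X.ConjIn M [o1] o2 := by
    intro u hu'
    obtain ⟨z, hz, rfl⟩ := X.ya_cases hu'
    rcases eq_or_ne z 0 with rfl | hzne
    · rw [X.ya_zero, mul_one, mul_inv_cancel]; exact one_mem M
    obtain ⟨i, hi⟩ := exists_gen_pow X hg (z := Units.mk0 z hzne / Units.mk0 z0 ht0) (by
      rw [Units.val_div_eq_div_val, Units.val_mk0, Units.val_mk0, div_pow, (allowed_short X (Or.inl rfl)).1 hz,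
        (allowed_short X (Or.inl rfl)).1 hz0q])
    obtain ⟨s, hs, es⟩ := X.ns_reverse' hM [o1]
    rw [List.reverse_singleton] at es
    set k' := X.ns [o1] * k * (X.ns [o1])⁻¹ with hk'
    have hk'T : k' ∈ X.Ts := (X.ns_conj_Ts [o1] hkT).1
    have hv : X.chi o2 k' = ((g ^ ((X.q : ℤ) + 1) : Kˣ) : K) := by
      rw [(hconjk [o1] (by simp [o1])).2, show kExp ([o1].map Fin.val) o2.val = (1, 1) from exp_vals.2.2]
      refine congrArg (fun e : ℤ => ((g ^ e : Kˣ) : K)) ?_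
      simp only
      ring
    have hback : (X.ns [o1])⁻¹ * k * X.ns [o1] = k' := by
      rw [hk', show X.ns [o1] * k * (X.ns [o1])⁻¹ = s * ((X.ns [o1])⁻¹ * k * X.ns [o1]) * s⁻¹ by
        conv_lhs => rw [es]
        group,
        X.Ts_comm hs (X.ns_conj_Ts [o1] hkT).2, mul_inv_cancel_right]
    have hz' : ∀ m : ℤ, (X.ns [o1]) * (k' ^ m * X.ya o2 z0 * (k' ^ m)⁻¹) * (X.ns [o1])⁻¹ ∈ M := fun m => by
      have e : X.ns [o1] * k' ^ m * (X.ns [o1])⁻¹ = k ^ m := by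
        rw [← hback, ← conj_zpow, show X.ns [o1] * ((X.ns [o1])⁻¹ * k * X.ns [o1]) * (X.ns [o1])⁻¹ = k by group]
      have := mul_mem (mul_mem (zpow_mem hkM m) hlong) (inv_mem (zpow_mem hkM m))
      rw [← e] at this
      convert this using 1
      group
    have hchiz : X.chi o2 (k' ^ i) = z / z0 := by
      have hpow : ∀ m : ℤ, X.chi o2 (k' ^ m) = (((g ^ ((X.q : ℤ) + 1)) ^ m : Kˣ) : K) := fun m => by
        obtain ⟨j, rfl | rfl⟩ := m.eq_nat_or_neg
        · rw [zpow_natCast, zpow_natCast, chi_pow hk'T, hv, Units.val_pow_eq_pow_val]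
        · refine mul_left_cancel₀ (X.chi_ne_zero (a := o2) (pow_mem hk'T j)) ?_
          rw [zpow_neg, zpow_natCast, ← X.chi_mul (pow_mem hk'T j) (inv_mem (pow_mem hk'T j)), mul_inv_cancel,
            X.chi_one, chi_pow hk'T, hv, zpow_neg, zpow_natCast, ← Units.val_pow_eq_pow_val, ← Units.val_mul,
            mul_inv_cancel, Units.val_one]
      rw [hpow, ← zpow_mul, ← hi, Units.val_div_eq_div_val, Units.val_mk0, Units.val_mk0]
    have h := hz' i
    rwa [(X.conj_ya (zpow_mem hk'T i) hz0q).2, hchiz, div_mul_cancel₀ _ ht0] at h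
  -- reflections
  have hP12' : X.ConjIn M [o1, o2] o2 :=
    Tw.ConjIn.congr X hM (Tw.ConjIn.mul X hM hRw hP12) (by unfold Tw.Maps; decide +kernel)
  have hR44 : X.RepIn M r44 := Tw.RepIn.refl X hM hP12 hP12'
  have hP00 : X.ConjIn M [o0] o0 :=
    Tw.ConjIn.congr X hM (Tw.ConjIn.mul X hM (Tw.RepIn.append X hM (Tw.RepIn.append X hM hR44 hRw) hRw) hP0)
      (by unfold Tw.Maps; decide +kernel)
  have hR0 : X.RepIn M [o0] := Tw.RepIn.refl X hM (K := []) hP0 hP00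
  -- the torus
  have hmem : ∀ L : List (Fin E6.tw.nO), X.RepIn M L → X.ns L * k * (X.ns L)⁻¹ ∈ M := fun L hL =>
    Tw.RepIn.conj_torus X hM hL hkT hkM
  have he0 : el c0 hc0 ∈ M := by
    have h := (hexp 0 5 c0 hc0 (fun r => by
      show ∏ i : Fin 6, c0 i ^ chevE6.cartan i.val r = _
      rw [Fin.prod_univ_six, v0, v0, v0, v0, v0, v0]
      simp [chr_unit, zpow_add, zpow_mul])).ext (hk0.inv.mul (hconjk [o0] (by simp [o0]))) exp_e0
    rw [h]
    exact mul_mem (inv_mem hkM) (hmem _ hR0)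
  have he3 : el c3 hc3 ∈ M := by
    have h := (hexp 3 3 c3 hc3 (fun r => by
      show ∏ i : Fin 6, c3 i ^ chevE6.cartan i.val r = _
      rw [Fin.prod_univ_six, v3, v3, v3, v3, v3, v3]
      simp only [Matrix.cons_val, map_one, one_zpow, mul_one, one_mul]
      rw [← zpow_mul]
      refine congrArg (fun e : ℤ => g ^ e) ?_
      show _ = chevE6.cartan 3 r + (X.q : ℤ) * chevE6.cartan 3 r
      simp
      ring)).ext (hk0.frob.inv.mul (hconjk r44 (by simp)).inv) exp_e3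
    rw [h]
    exact mul_mem (inv_mem (pow_mem hkM _)) (inv_mem (hmem _ hR44))
  have he1 : el c1 hc1 ∈ M := by
    have h := (hexp 1 1 c1 hc1 (fun r => by
      show ∏ i : Fin 6, c1 i ^ chevE6.cartan i.val r = _
      rw [Fin.prod_univ_six, v1, v1, v1, v1, v1, v1]
      simp only [Matrix.cons_val, map_one, one_zpow, mul_one, one_mul]
      rw [← zpow_mul]
      refine congrArg (fun e : ℤ => g ^ e) ?_
      show _ = chevE6.cartan 1 r + (X.q : ℤ) * chevE6.cartan 1 r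
      simp
      ring)).ext ((((hconjk ([o0] ++ r44 ++ gw) (by simp [o0])).frob.inv).mul (hconjk r44 (by simp))).mul
        (hconjk (gw ++ [o0] ++ gw) (by simp [o0])).inv) exp_e1
    rw [h]
    exact mul_mem (mul_mem (inv_mem (pow_mem (hmem _ (Tw.RepIn.append X hM (Tw.RepIn.append X hM hR0 hR44) hRw)) _))
      (hmem _ hR44)) (inv_mem (hmem _ (Tw.RepIn.append X hM (Tw.RepIn.append X hM hRw hR0) hRw)))
  have hT : ∀ t ∈ X.Ts, t ∈ M := by
    intro t ht
    obtain ⟨c, hc, e⟩ := X.exists_tG ht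
    let u : Fin 6 → Kˣ := c
    have hp := fun i => X.mem_CT.1 hc i
    have hpiv : ∀ i j : Fin 6, j.val = E6.tw.piAt i.val → X.f (u i : K) = (u j : K) := by
      intro i j hj
      have : X.piF i = (j : Fin chevE6.rank) := Fin.ext hj.symm
      exact (hp i).trans (by rw [this])
    have hpi : E6.tw.piAt 0 = 5 ∧ E6.tw.piAt 2 = 4 ∧ E6.tw.piAt 3 = 3 ∧ E6.tw.piAt 1 = 1 := by decide +kernel
    obtain ⟨i, hi⟩ := Subgroup.mem_zpowers_iff.1 (hg (u 0))
    obtain ⟨j, hj⟩ := Subgroup.mem_zpowers_iff.1 (hg (u 2))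
    obtain ⟨l, hl⟩ := exists_gen_pow X hg (z := u 3) (by rw [← X.hfq]; exact hpiv 3 3 hpi.2.2.1.symm)
    obtain ⟨m, hm⟩ := exists_gen_pow X hg (z := u 1) (by rw [← X.hfq]; exact hpiv 1 1 hpi.2.2.2.symm)
    have h5 : u 5 = Units.map (X.f : K →* K) (u 0) := Units.ext (hpiv 0 5 hpi.1.symm).symm
    have h4 : u 4 = Units.map (X.f : K →* K) (u 2) := Units.ext (hpiv 2 4 hpi.2.1.symm).symm
    have hdec : c = c0 ^ i * ck ^ j * c3 ^ l * c1 ^ m := by
      have key : ∀ r : Fin 6, u r = (c0 r) ^ i * (ck r) ^ j * (c3 r) ^ l * (c1 r) ^ m := by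
        intro r
        rw [v0, vk, v3, v1]
        fin_cases r
        · simp [hi]
        · simpa [← zpow_mul] using hm
        · simp [hj]
        · simpa [← zpow_mul] using hl
        · simp [h4, ← hj, map_zpow]
        · simp [h5, ← hi, map_zpow]
      exact funext key
    have : t = el c0 hc0 ^ i * k ^ j * el c3 hc3 ^ l * el c1 hc1 ^ m := by
      refine Subtype.ext ?_
      rw [e, hdec, map_mul, map_mul, map_mul, map_zpow, map_zpow, map_zpow, map_zpow]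
      simp [el, hk_def]
    rw [this]
    exact mul_mem (mul_mem (mul_mem (zpow_mem he0 i) (zpow_mem hkM j)) (zpow_mem he3 l)) (zpow_mem he1 m)
  -- the remaining orbits
  have hP3 : X.ConjIn M [] o3 := by
    intro u hu'
    rw [show X.ns [] = 1 from Subtype.ext (by show X.nW [] = 1; simp [Tw.nW_eq_prod]), one_mul, inv_one, mul_one]
    obtain ⟨z, hz, rfl⟩ := X.ya_cases hu'
    rcases eq_or_ne z 0 with rfl | hzne
    · rw [X.ya_zero]; exact one_mem M
    obtain ⟨t, ht, hts⟩ := chi_surj X o3 hz hzne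
    have e := (X.conj_ya ht a1).2
    rw [hts, mul_one] at e
    rw [← e]
    exact mul_mem (mul_mem (hT t ht) hu) (inv_mem (hT t ht))
  have hP33 : X.ConjIn M [o3] o3 :=
    Tw.ConjIn.congr X hM (Tw.ConjIn.mul X hM (Tw.RepIn.append X hM (Tw.RepIn.append X hM hR44 hR0) hRw) hP3)
      (by unfold Tw.Maps; decide +kernel)
  have hR3 : X.RepIn M [o3] := Tw.RepIn.refl X hM (K := []) hP3 hP33
  have hA := Tw.RepIn.append X hM hR0 hRw
  have hB := Tw.RepIn.append X hM hR3 hRw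
  have hR2 : X.RepIn M [o2] :=
    Tw.RepIn.of_perm X hM (Tw.RepIn.append X hM (Tw.RepIn.append X hM hA hA) hA) words.1
  have hR1 : X.RepIn M [o1] :=
    Tw.RepIn.of_perm X hM (Tw.RepIn.append X hM (Tw.RepIn.append X hM hB hB) hB) words.2
  have hP1 : X.ConjIn M [] o1 := Tw.ConjIn.congr X hM
    (Tw.ConjIn.mul X hM (Tw.RepIn.append X hM (Tw.RepIn.append X hM (Tw.RepIn.append X hM
      (Tw.RepIn.append X hM hRw hR0) hRw) hR3) hR44) hP0)
    (by unfold Tw.Maps; decide +kernel)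
  have hP2 : X.ConjIn M [] o2 := Tw.ConjIn.congr X hM
    (Tw.ConjIn.mul X hM (Tw.RepIn.append X hM (Tw.RepIn.append X hM (Tw.RepIn.append X hM
      (Tw.RepIn.append X hM hRw hR3) hR44) hRw) hRw) hP3)
    (by unfold Tw.Maps; decide +kernel)
  have hPall : ∀ c : Fin E6.tw.nO, X.ConjIn M [] c ∧ X.RepIn M [c] := fun c => by
    rcases orb_cases c with rfl | rfl | rfl | rfl
    exacts [⟨hP0, hR0⟩, ⟨hP1, hR1⟩, ⟨hP2, hR2⟩, ⟨hP3, hR3⟩]
  refine X.eq_top_of_roots (fun c u hu' => ?_) fun c u hu' => ?_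
  · have := (hPall c).1 u hu'
    rwa [show X.ns [] = 1 from Subtype.ext (by show X.nW [] = 1; simp [Tw.nW_eq_prod]), one_mul, inv_one,
      mul_one] at this
  · simpa using Tw.ConjIn.mul X hM (hPall c).2 (hPall c).1 u hu'

end Cfsg.Lib.Chev.E6
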