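import Cfsg.Agent.Chev.Tw.Setup

/-! The group of a twisted type and the fixed points of the positive unipotent subgroup. -/

set_option autoImplicit false

open Cfsg.Lie

namespace Cfsg.Lib.Chev

theorem kcyc_map {f g p : ℕ → ℕ} : ∀ (L : List ℕ) (h : ℕ), (∀ i ∈ L, f (g i) = g (p i)) →
    kcyc p h L = true → kcyc f (g h) (kmap g L) = true
  | [], _, _, _ => rfl
  | a :: M, h, he, hc => by
    simp only [kcyc, Bool.and_eq_true] at hc
    have ih := kcyc_map M h (fun i hi => he i (List.mem_cons_of_mem _ hi)) hc.2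
    simp only [kmap, kcyc, Bool.and_eq_true] at ih ⊢
    refine ⟨?_, ih⟩
    rw [he a List.mem_cons_self, Nat.eq_of_beq_eq_true hc.1]
    cases M <;> exact Nat.beq_refl _

section PowFix

variable {F : Type*} [Field F] [Finite F]

open Polynomial in
theorem card_roots_le {p : F[X]} (hp : p ≠ 0) {N : ℕ} (hd : p.natDegree ≤ N) :
    Nat.card {t : F // p.IsRoot t} ≤ N := by
  classical
  have hs : {t : F | p.IsRoot t} ⊆ ↑p.roots.toFinset := fun t ht => by simpa [hp] using ht
  calc Nat.card {t : F // p.IsRoot t} = Set.ncard {t : F | p.IsRoot t} := Nat.card_coe_set_eq _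
    _ ≤ p.roots.toFinset.card := by simpa using Set.ncard_le_ncard hs
    _ ≤ N := (Multiset.toFinset_card_le _).trans ((p.card_roots').trans hd)

open Polynomial in
theorem card_pow_add_le {q : ℕ} (hq : 1 < q) (a : F) : Nat.card {t : F // t ^ q + a * t = 0} ≤ q := by
  have hd : (X ^ q + C a * X : F[X]).natDegree = q := by
    refine (natDegree_add_eq_left_of_natDegree_lt ?_).trans (natDegree_X_pow q)
    rw [natDegree_X_pow]
    exact (natDegree_C_mul_le a X).trans_lt (natDegree_X_le.trans_lt hq)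
  have hp : (X ^ q + C a * X : F[X]) ≠ 0 := fun h => by rw [h, natDegree_zero] at hd; omega
  refine le_trans (le_of_eq ?_) (card_roots_le hp hd.le)
  exact Nat.card_congr (Equiv.subtypeEquivRight fun t => by simp [IsRoot.def])

open Polynomial in
theorem card_trace_le {q : ℕ} (hq : 1 < q) (n : ℕ) :
    Nat.card {t : F // ∑ i ∈ Finset.range (n + 1), t ^ q ^ i = 0} ≤ q ^ n := by
  have hd : (∑ i ∈ Finset.range (n + 1), (X : F[X]) ^ q ^ i).natDegree ≤ q ^ n :=
    natDegree_sum_le_of_forall_le _ _ fun i hi => (natDegree_X_pow (R := F) _).le.trans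
      (Nat.pow_le_pow_right (by omega) (by simp at hi; omega))
  have hp : (∑ i ∈ Finset.range (n + 1), (X : F[X]) ^ q ^ i) ≠ 0 := fun h => by
    have h1 := congrArg (fun p : F[X] => p.coeff 1) h
    rw [finsetSum_coeff, Finset.sum_eq_single 0] at h1
    · simp at h1
    · intro i _ hi
      rw [coeff_X_pow, if_neg]
      exact (Nat.one_lt_pow hi hq).ne
    · simp
  refine le_trans (le_of_eq ?_) (card_roots_le hp hd)
  exact Nat.card_congr (Equiv.subtypeEquivRight fun t => by simp [IsRoot.def, eval_finsetSum])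

/-- The fixed field of `t ↦ t^q` inside the field with `q^m` elements. -/
theorem card_pow_eq_self {f : F →+* F} {q m : ℕ} (hq : 1 < q) (hm : 1 ≤ m) (hf : ∀ t, f t = t ^ q)
    (hF : Nat.card F = q ^ m) : Nat.card {t : F // f t = t} = q := by
  obtain ⟨n, rfl⟩ : ∃ n, m = n + 1 := ⟨m - 1, by omega⟩
  let φ : F →+ F := f.toAddMonoidHom - AddMonoidHom.id F
  have hk : Nat.card φ.ker = Nat.card {t : F // f t = t} :=
    Nat.card_congr (Equiv.subtypeEquivRight fun t => by simp [φ, AddMonoidHom.mem_ker, sub_eq_zero])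
  rw [← hk]
  refine le_antisymm ?_ ?_
  · refine le_trans (le_of_eq ?_) (card_pow_add_le (F := F) hq (-1))
    exact Nat.card_congr (Equiv.subtypeEquivRight fun t => by
      simp [φ, AddMonoidHom.mem_ker, hf, ← sub_eq_add_neg])
  · have hfi : ∀ (i : ℕ) (t : F), f (t ^ q ^ i) = t ^ q ^ (i + 1) := fun i t => by
      rw [hf, ← pow_mul, ← pow_succ]
    have hr : Nat.card φ.range ≤ q ^ n := by
      refine le_trans (Nat.card_le_card_of_injective
        (fun x => (⟨x.1, ?_⟩ : {t : F // ∑ i ∈ Finset.range (n + 1), t ^ q ^ i = 0})) ?_) (card_trace_le hq n)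
      · obtain ⟨t, ht⟩ := x.2
        have e : ∀ i, (x.1 : F) ^ q ^ i = t ^ q ^ (i + 1) - t ^ q ^ i := by
          intro i
          induction i with
          | zero => simp [← ht, φ, hf]
          | succ i ih => rw [← hfi, ih, map_sub, hfi, hfi]
        simp only [e, Finset.sum_range_sub (fun i => t ^ q ^ i)]
        haveI := Fintype.ofFinite F
        rw [← hF, Nat.card_eq_fintype_card, FiniteField.pow_card, pow_zero, pow_one, sub_self]
      · intro x y h; exact Subtype.ext (by simpa using h)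
    have h1 := AddSubgroup.card_eq_card_quotient_mul_card_addSubgroup φ.ker
    rw [Nat.card_congr (QuotientAddGroup.quotientKerEquivRange φ).toEquiv, hF, pow_succ] at h1
    by_contra hlt
    have : Nat.card φ.range * Nat.card φ.ker < q ^ n * q :=
      Nat.mul_lt_mul_of_le_of_lt hr (by omega) (by positivity)
    omega

theorem card_pow_eq_neg {f : F →+* F} {q : ℕ} (hq : 1 < q) (hf : ∀ t, f t = t ^ q) (hF : Nat.card F = q ^ 2) :
    Nat.card {t : F // f t = -t} = q := by
  let φ : F →+ F := f.toAddMonoidHom + AddMonoidHom.id F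
  have hk : Nat.card φ.ker = Nat.card {t : F // f t = -t} :=
    Nat.card_congr (Equiv.subtypeEquivRight fun t => by simp [φ, AddMonoidHom.mem_ker, add_eq_zero_iff_eq_neg])
  rw [← hk]
  refine le_antisymm ?_ ?_
  · refine le_trans (le_of_eq ?_) (card_pow_add_le (F := F) hq 1)
    exact Nat.card_congr (Equiv.subtypeEquivRight fun t => by simp [φ, AddMonoidHom.mem_ker, hf])
  · have hff : ∀ t, f (f t) = t := fun t => by
      haveI := Fintype.ofFinite F
      rw [hf, hf, ← pow_mul, ← sq, ← hF, Nat.card_eq_fintype_card, FiniteField.pow_card]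
    have hr : Nat.card φ.range ≤ q := by
      refine le_trans (Nat.card_le_card_of_injective (fun x => (⟨x.1, ?_⟩ : {t : F // f t = t})) ?_)
        (le_of_eq (card_pow_eq_self hq (by norm_num : 1 ≤ 2) hf hF))
      · obtain ⟨t, ht⟩ := x.2
        rw [← ht]
        simp [φ, hff, add_comm]
      · intro x y h; exact Subtype.ext (by simpa using h)
    have h1 := AddSubgroup.card_eq_card_quotient_mul_card_addSubgroup φ.ker
    rw [Nat.card_congr (QuotientAddGroup.quotientKerEquivRange φ).toEquiv, hF, sq] at h1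
    by_contra hlt
    have : Nat.card φ.range * Nat.card φ.ker < q * q :=
      Nat.mul_lt_mul_of_le_of_lt hr (by omega) (by omega)
    omega

end PowFix

variable {D D' : ChevalleyDatum} {C C' : Cert} {W : TwDat} {T : List (List ℤ)} {F : Type*} [Field F]

namespace Tw

variable (X : Tw D D' C C' W T F)
include X

theorem finite : Finite F :=
  Nat.finite_of_card_ne_zero (by rw [X.hcard]; exact pow_ne_zero _ (by have := X.hq; omega))

theorem orb_spec {a : ℕ} (ha : a < W.nO) :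
    (∀ i ∈ W.orbAt a, i < D.rank) ∧ ((W.orbAt a).length = 1 ∨ (W.orbAt a).length = W.m) ∧
    kcyc W.piAt ((W.orbAt a).headD 0) (W.orbAt a) = true ∧
    (∀ i ∈ W.orbAt a, ∀ j ∈ W.orbAt a, i ≠ j → C.cart i (C.sr j) = 0 ∧
      TwDat.commOK D (C.sr i) (C.sr j) = true ∧ TwDat.commOK D (C.sr i) (C.neg (C.sr j)) = true ∧
      TwDat.commOK D (C.neg (C.sr i)) (C.sr j) = true ∧
      TwDat.commOK D (C.neg (C.sr i)) (C.neg (C.sr j)) = true) ∧
    (∀ i ∈ W.orbAt a, C.wL (W.orbAt a) (C.sr i) = C.neg (C.sr i) ∧ C.sgnL (W.orbAt a) (C.sr i) = -1 ∧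
      C.wL (W.orbAt a) (C.neg (C.sr i)) = C.sr i ∧ C.sgnL (W.orbAt a) (C.neg (C.sr i)) = -1) ∧
    ∀ r < D.nroots, C.wL (W.orbAt a) (X.rho r) = X.rho (C.wL (W.orbAt a) r) ∧
      (r < D.nroots / 2 ∨ (∃ i ∈ W.orbAt a, C.sr i = r) ∨ D.nroots / 2 ≤ C.wL (W.orbAt a) r) := by
  have h := X.parts.2.2.1
  simp only [TwDat.okOrb, Bool.and_eq_true] at h
  have hm : W.orbAt a ∈ W.orb := by
    rw [TwDat.orbAt, List.getD_eq_getElem _ _ ha]; exact List.getElem_mem ha
  have h' := (kall_iff _ _).1 h.2 _ hm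
  simp only [Bool.and_eq_true] at h'
  obtain ⟨⟨⟨⟨⟨a1, a2⟩, a3⟩, a4⟩, a5⟩, a6⟩ := h'
  refine ⟨fun i hi => ?_, ?_, a3, fun i hi j hj hne => ?_, fun i hi => ?_, fun r hr => ?_⟩
  · exact Nat.le_of_ble_eq_true ((kall_iff _ _).1 a1 i hi)
  · simp only [Bool.or_eq_true] at a2
    exact a2.imp Nat.eq_of_beq_eq_true Nat.eq_of_beq_eq_true
  · have := (kall_iff _ _).1 ((kall_iff _ _).1 a4 i hi) j hj
    simp only [Bool.or_eq_true, Bool.and_eq_true, decide_eq_true_iff] at this
    rcases this with e | ⟨⟨⟨⟨b1, b2⟩, b3⟩, b4⟩, b5⟩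
    · exact absurd (Nat.eq_of_beq_eq_true e) hne
    · exact ⟨b1, b2, b3, b4, b5⟩
  · have := (kall_iff _ _).1 a5 i hi
    simp only [Bool.and_eq_true, decide_eq_true_iff] at this
    exact ⟨Nat.eq_of_beq_eq_true this.1.1.1, this.1.1.2, Nat.eq_of_beq_eq_true this.1.2, this.2⟩
  · have := kall_krange a6 r hr
    simp only [Bool.and_eq_true, Bool.or_eq_true, Nat.blt, Nat.ble_eq, kmem_iff, kmap_eq, List.mem_map] at this
    refine ⟨Nat.eq_of_beq_eq_true this.1, ?_⟩
    rcases this.2 with (e | e) | e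
    · exact Or.inl e
    · exact Or.inr (Or.inl e)
    · exact Or.inr (Or.inr e)

theorem pi_spec {i : ℕ} (hi : i < D.rank) :
    W.piAt i < D.rank ∧ X.rho (C.sr i) = C.sr (W.piAt i) ∧ X.eps (C.sr i) = 1 ∧
      X.eps (C.neg (C.sr i)) = 1 ∧ X.rho (C.neg (C.sr i)) = C.neg (C.sr (W.piAt i)) ∧
      ∀ s < D.nroots, C.cart (W.piAt i) (X.rho s) = C.cart i s := by
  have := kall_krange X.parts.2.1 i hi
  simp only [Bool.and_eq_true, decide_eq_true_iff] at this
  obtain ⟨⟨⟨⟨⟨h1, h2⟩, h3⟩, h4⟩, h5⟩, h6⟩ := this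
  exact ⟨Nat.le_of_ble_eq_true h1, Nat.eq_of_beq_eq_true h2, by simp [eps, h3], by simp [eps, h4],
    Nat.eq_of_beq_eq_true h5, fun s hs => of_decide_eq_true (kall_krange h6 s hs)⟩

/-- The class of the fundamental roots of an orbit. -/
noncomputable def orP (_X : Tw D D' C C' W T F) (a : ℕ) : List ℕ := kmap C.sr (W.orbAt a)

/-- The class of the negatives of the fundamental roots of an orbit. -/
noncomputable def orN (_X : Tw D D' C C' W T F) (a : ℕ) : List ℕ :=
  kmap (fun i => C.neg (C.sr i)) (W.orbAt a)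

theorem orb_cls {a : ℕ} (ha : a < W.nO) {c : List ℕ} (hc : c = X.orP a ∨ c = X.orN a) :
    (∀ r ∈ c, r < D.nroots) ∧ kcyc X.rho (c.headD 0) c = true ∧
      ∀ r ∈ c, ∀ s ∈ c, TwDat.commOK D r s = true := by
  obtain ⟨h1, -, h3, h4, -, -⟩ := X.orb_spec ha
  have self : ∀ r, TwDat.commOK D r r = true := fun r => by simp [TwDat.commOK, Nat.beq_refl]
  have hd : ∀ (g : ℕ → ℕ) (L : List ℕ), L ≠ [] → (kmap g L).headD 0 = g (L.headD 0) := fun g L hL => by
    cases L with
    | nil => exact absurd rfl hL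
    | cons x L => rfl
  by_cases hnil : W.orbAt a = []
  · rcases hc with rfl | rfl <;> simp [orP, orN, hnil, kmap, kcyc]
  rcases hc with rfl | rfl
  · refine ⟨fun r hr => ?_, ?_, fun r hr s hs => ?_⟩
    · rw [orP, kmap_eq] at hr
      obtain ⟨i, hi, rfl⟩ := List.mem_map.1 hr
      exact X.S.ok.sr_lt (h1 i hi)
    · rw [orP, hd _ _ hnil]
      exact kcyc_map _ _ (fun i hi => (X.pi_spec (h1 i hi)).2.1) h3
    · rw [orP, kmap_eq] at hr hs
      obtain ⟨i, hi, rfl⟩ := List.mem_map.1 hr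
      obtain ⟨j, hj, rfl⟩ := List.mem_map.1 hs
      rcases eq_or_ne i j with rfl | hne
      · exact self _
      · exact (h4 i hi j hj hne).2.1
  · refine ⟨fun r hr => ?_, ?_, fun r hr s hs => ?_⟩
    · rw [orN, kmap_eq] at hr
      obtain ⟨i, hi, rfl⟩ := List.mem_map.1 hr
      exact X.S.ok.neg_lt (X.S.ok.sr_lt (h1 i hi))
    · rw [orN, hd _ _ hnil]
      exact kcyc_map _ _ (fun i hi => (X.pi_spec (h1 i hi)).2.2.2.2.1) h3
    · rw [orN, kmap_eq] at hr hs
      obtain ⟨i, hi, rfl⟩ := List.mem_map.1 hr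
      obtain ⟨j, hj, rfl⟩ := List.mem_map.1 hs
      rcases eq_or_ne i j with rfl | hne
      · exact self _
      · exact (h4 i hi j hj hne).2.2.2.2

/-- The twisted group. -/
noncomputable def G1 : Subgroup (GL D.Idx F) :=
  Subgroup.closure {g | ∃ a < W.nO, ∃ c, (c = X.orP a ∨ c = X.orN a) ∧ ∃ t ∈ X.Allowed c, g = X.y c t}

/-- The elements fixed by `σ`. -/
noncomputable def Fx : Subgroup (GL D.Idx F) := X.sig.eqLocus (MonoidHom.id _)

theorem mem_Fx {g : GL D.Idx F} : g ∈ X.Fx ↔ X.sig g = g := Iff.rfl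

theorem G1_le_Fx : X.G1 ≤ X.Fx := by
  refine (Subgroup.closure_le _).2 ?_
  rintro g ⟨a, ha, c, hc, t, ht, rfl⟩
  obtain ⟨h1, h2, h3⟩ := X.orb_cls ha hc
  exact X.sig_y h1 h2 h3 ht

theorem y_mem_G1 {a : ℕ} (ha : a < W.nO) {c : List ℕ} (hc : c = X.orP a ∨ c = X.orN a) {t : F}
    (ht : t ∈ X.Allowed c) : X.y c t ∈ X.G1 :=
  Subgroup.subset_closure ⟨a, ha, c, hc, t, ht, rfl⟩

/-- The classes at height `k + 1`. -/
noncomputable def lev (_X : Tw D D' C C' W T F) (k : ℕ) : List (List ℕ) := W.lv.getD k []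

theorem lev_spec {k : ℕ} {c : List ℕ} (hc : c ∈ X.lev k) :
    (∀ r ∈ c, r < D.nroots ∧ hgt D T r = (k : ℤ) + 1) ∧ c.Nodup ∧ kcyc X.rho (c.headD 0) c = true ∧
      ((c.length = 1 ∧ (W.m = 2 ∨ X.eps (c.headD 0) = 1)) ∨
        (c.length = W.m ∧ (c.map X.eps).prod = 1)) ∧
      ∀ r ∈ c, ∀ s ∈ c, TwDat.commOK D r s = true := by
  have hk : k < W.lv.length := by
    by_contra hk
    rw [lev, List.getD_eq_default _ _ (not_lt.1 hk)] at hc
    exact List.not_mem_nil hc
  have h := X.parts.2.2.2.2.1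
  simp only [TwDat.okLv, Bool.and_eq_true] at h
  have h' := kall_krange h.1.2 k hk
  simp only [Bool.and_eq_true] at h'
  have h'' := (kall_iff _ _).1 h'.2 c hc
  simp only [TwDat.okCls, Bool.and_eq_true] at h''
  obtain ⟨⟨⟨⟨a1, a2⟩, a3⟩, a4⟩, a5⟩ := h''
  refine ⟨fun r hr => ?_, kdist_nodup c a2, a3, ?_, fun r hr s hs => (kall_iff _ _).1 ((kall_iff _ _).1 a5 r hr) s hs⟩
  · have := (kall_iff _ _).1 a1 r hr
    simp only [Bool.and_eq_true, decide_eq_true_iff] at this
    refine ⟨Nat.le_of_ble_eq_true this.1.1, ?_⟩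
    rw [hgt_eq_hsum, this.2]
    rfl
  · simp only [Bool.or_eq_true, Bool.and_eq_true, decide_eq_true_iff] at a4
    rcases a4 with ⟨e, e2⟩ | ⟨e, e2⟩
    · exact Or.inl ⟨Nat.eq_of_beq_eq_true e, e2.imp Nat.eq_of_beq_eq_true fun h => by
        show ((W.G.eps D.rank (c.headD 0) : ℤ) : F) = 1
        rw [h, Int.cast_one]⟩
    · refine Or.inr ⟨Nat.eq_of_beq_eq_true e, ?_⟩
      rw [kprodI_eq, kmap_eq] at e2
      have := congrArg (fun z : ℤ => (z : F)) e2
      rw [Int.cast_list_prod, List.map_map, Int.cast_one] at this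
      exact this

theorem lev_nodup (k : ℕ) : ((X.lev k).flatMap fun c => c).Nodup := by
  by_cases hk : k < W.lv.length
  · have h := X.parts.2.2.2.2.1
    simp only [TwDat.okLv, Bool.and_eq_true] at h
    have h' := kall_krange h.1.2 k hk
    simp only [Bool.and_eq_true] at h'
    have := kdist_nodup _ h'.1
    rwa [kflat_eq] at this
  · rw [lev, List.getD_eq_default _ _ (not_lt.1 hk)]
    simp

theorem lev_cover {k : ℕ} {r : ℕ} (hr : r < D.nroots) (hh : hgt D T r = (k : ℤ) + 1) :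
    ∃ c ∈ X.lev k, r ∈ c := by
  have h := X.parts.2.2.2.2.1
  simp only [TwDat.okLv, Bool.and_eq_true] at h
  have h' := kall_krange h.2 r hr
  simp only [Bool.or_eq_true, kex_iff, Bool.and_eq_true, decide_eq_true_iff, Nat.blt, Nat.ble_eq, kmem_iff,
    kflat_eq, List.mem_flatMap] at h'
  rcases h' with e | ⟨j, -, e1, c, hc, hrc⟩
  · have := (X.S.hgt_pos_iff X.hT hr).1 (by omega)
    change r + 1 ≤ D.nroots / 2 at e
    omega
  · rw [← hgt_eq_hsum] at e1
    have : j = k := by simp at e1; omega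
    exact ⟨c, this ▸ hc, hrc⟩

theorem hgt_le {r : ℕ} (hr : r < D.nroots) : hgt D T r < (W.lv.length : ℤ) + 1 := by
  by_cases hp : 1 ≤ hgt D T r
  · obtain ⟨k, hk⟩ : ∃ k : ℕ, hgt D T r = (k : ℤ) + 1 := ⟨(hgt D T r - 1).toNat, by omega⟩
    obtain ⟨c, hc, -⟩ := X.lev_cover hr hk
    have : k < W.lv.length := by
      by_contra hk'
      rw [lev, List.getD_eq_default _ _ (not_lt.1 hk')] at hc
      exact List.not_mem_nil hc
    omega
  · omega

theorem nxt_eq : ∀ (c : List ℕ) (t : F), X.nxt c t = (c.map X.eps).prod * X.f^[c.length] t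
  | [], t => by simp [nxt]
  | r :: c, t => by
    have hc : ∀ n (z : F), X.f^[n] (X.eps r * z) = X.eps r * X.f^[n] z := by
      intro n
      induction n with
      | zero => simp
      | succ n ih => intro z; rw [Function.iterate_succ_apply, map_mul, eps, map_intCast, ← eps, ih,
          ← Function.iterate_succ_apply]
    rw [nxt, nxt_eq c, hc, List.map_cons, List.prod_cons, List.length_cons, Function.iterate_succ_apply]
    ring

theorem f_iter (t : F) : X.f^[W.m] t = t := by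
  haveI := X.finite
  haveI := Fintype.ofFinite F
  have : ∀ n, X.f^[n] t = t ^ X.q ^ n := by
    intro n
    induction n with
    | zero => simp
    | succ n ih => rw [Function.iterate_succ_apply', ih, X.hfq, ← pow_mul, ← pow_succ]
  rw [this, ← X.hcard, Nat.card_eq_fintype_card, FiniteField.pow_card]

theorem nxt_add : ∀ (c : List ℕ) (s t : F), X.nxt c (s + t) = X.nxt c s + X.nxt c t := by
  intro c s t
  rw [X.nxt_eq, X.nxt_eq, X.nxt_eq, iterate_map_add, mul_add]

theorem card_allowed {k : ℕ} {c : List ℕ} (hc : c ∈ X.lev k) :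
    Nat.card (X.Allowed c) = X.q ^ c.length := by
  haveI := X.finite
  obtain ⟨-, -, -, h4, -⟩ := X.lev_spec hc
  rcases h4 with ⟨h1, h2⟩ | ⟨h1, h2⟩
  · obtain ⟨r, rfl⟩ := List.length_eq_one_iff.1 h1
    rw [h1, pow_one]
    have heps : X.eps r = 1 ∨ X.eps r = -1 := by
      have hr := ((X.lev_spec hc).1 r List.mem_cons_self).1
      obtain ⟨-, -, -, -, -, b6⟩ := GTab.spec X.S.ok X.parts.1 (show D.rank + r < D.rank + D.nroots by omega)
      rcases b6 with e | e
      · left; show ((W.G.sg (Nat.add D.rank r) : ℤ) : F) = 1; rw [show W.G.sg (Nat.add D.rank r) = 1 from e]; simp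
      · right; show ((W.G.sg (Nat.add D.rank r) : ℤ) : F) = -1; rw [show W.G.sg (Nat.add D.rank r) = -1 from e]; simp
    by_cases he : X.eps r = 1
    · refine (Nat.card_congr (Equiv.subtypeEquivRight fun t => ?_)).trans
        (card_pow_eq_self X.hq (show 1 ≤ W.m by have := X.hm; omega) X.hfq X.hcard)
      simp [Allowed, nxt, he]
    · have hm2 : W.m = 2 := h2.resolve_right he
      refine (Nat.card_congr (Equiv.subtypeEquivRight fun t => ?_)).trans
        (card_pow_eq_neg X.hq X.hfq (hm2 ▸ X.hcard))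
      show X.nxt [r] t = t ↔ _
      rw [nxt, nxt, heps.resolve_left he, neg_one_mul, neg_eq_iff_eq_neg]
  · have : X.Allowed c = Set.univ := Set.eq_univ_of_forall fun t => by
      show X.nxt c t = t
      rw [X.nxt_eq, h2, one_mul, h1, X.f_iter]
    rw [this, Nat.card_congr (Equiv.Set.univ F), X.hcard, h1]

theorem y_zero {c : List ℕ} : X.y c 0 = 1 := by
  induction c with
  | nil => simp [y, orbW, Ok.wG]
  | cons r c ih =>
    rw [y] at ih ⊢
    simp only [orbW, map_zero, mul_zero, Ok.wG, List.map_cons, List.prod_cons] at ih ⊢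
    rw [ih, X.S.xG_zero, one_mul]

theorem y_mem_lev {k : ℕ} {c : List ℕ} (hc : c ∈ X.lev k) {t : F} (ht : t ∈ X.Allowed c) :
    X.y c t ∈ X.S.Uh T F ((k : ℤ) + 1) ⊓ X.Fx := by
  obtain ⟨h1, -, h3, -, h5⟩ := X.lev_spec hc
  refine ⟨X.wG_mem_Uh _ fun p hp => ⟨(h1 _ (X.mem_orbW hp)).1, (h1 _ (X.mem_orbW hp)).2.ge⟩, ?_⟩
  exact X.sig_y (fun r hr => (h1 r hr).1) h3 h5 ht

theorem headD_mem {c : List ℕ} (h : c ≠ []) : c.headD 0 ∈ c := by
  cases c with
  | nil => exact absurd rfl h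
  | cons a c => exact List.mem_cons_self

theorem lev_ne_nil {k : ℕ} {c : List ℕ} (hc : c ∈ X.lev k) : c ≠ [] := by
  rintro rfl
  have := (X.lev_spec hc).2.2.2.1
  have := X.hm
  simp at *
  omega

theorem cf_of_lt (g : GL D.Idx F) {r : ℕ} (h : r < D.nroots) : X.cf g r = X.S.coef ⟨r, h⟩ g := dif_pos h

theorem cf_y {k : ℕ} {c c' : List ℕ} (hc : c ∈ X.lev k) (hc' : c' ∈ X.lev k) (t : F) :
    (c = c' → X.cf (X.y c' t) (c.headD 0) = t) ∧ (c.headD 0 ∉ c' → X.cf (X.y c' t) (c.headD 0) = 0) := by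
  have hk : (1 : ℤ) ≤ (k : ℤ) + 1 := by omega
  have hw : ∀ p ∈ X.orbW c' t, p.1 < D.nroots ∧ (k : ℤ) + 1 ≤ hgt D T p.1 :=
    fun p hp => ⟨((X.lev_spec hc').1 _ (X.mem_orbW hp)).1, ((X.lev_spec hc').1 _ (X.mem_orbW hp)).2.ge⟩
  have hs := (X.lev_spec hc).1 _ (X.headD_mem (X.lev_ne_nil hc))
  rw [X.cf_of_lt _ hs.1, y]
  refine ⟨fun e => ?_, fun hn => X.coef_wG_not_mem hk hw ⟨c.headD 0, hs.1⟩ hs.2.le (by rwa [X.orbW_fst])⟩
  subst e
  have hnd : ((X.orbW c t).map Prod.fst).Nodup := by rw [X.orbW_fst]; exact (X.lev_spec hc).2.1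
  have hmem : (c.headD 0, t) ∈ X.orbW c t := by
    obtain ⟨a, c'', rfl⟩ := List.exists_cons_of_ne_nil (X.lev_ne_nil hc)
    rw [orbW, List.headD_cons]
    exact List.mem_cons_self
  exact X.coef_wG_mem hk hnd hw ⟨c.headD 0, hs.1⟩ hs.2.le hmem rfl

theorem cf_one_lev {k : ℕ} {c : List ℕ} (hc : c ∈ X.lev k) : X.cf 1 (c.headD 0) = 0 := by
  rw [X.cf_of_lt _ ((X.lev_spec hc).1 _ (X.headD_mem (X.lev_ne_nil hc))).1, X.S.coef_one]

theorem cf_mul_lev {k : ℕ} {c : List ℕ} (hc : c ∈ X.lev k) {a b : GL D.Idx F}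
    (ha : a ∈ X.S.Uh T F ((k : ℤ) + 1)) (hb : b ∈ X.S.Uh T F ((k : ℤ) + 1)) :
    X.cf (a * b) (c.headD 0) = X.cf a (c.headD 0) + X.cf b (c.headD 0) := by
  have hs := (X.lev_spec hc).1 _ (X.headD_mem (X.lev_ne_nil hc))
  have hk : (1 : ℤ) ≤ (k : ℤ) + 1 := by omega
  rw [X.cf_of_lt _ hs.1, X.cf_of_lt _ hs.1, X.cf_of_lt _ hs.1, X.S.coef_mul X.hT hk ⟨c.headD 0, hs.1⟩ hs.2.le ha hb]

/-- The coordinates of the fixed elements of height `k + 1`. -/
noncomputable def piK (k : ℕ) :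
    ↥(X.S.Uh T F ((k : ℤ) + 1) ⊓ X.Fx) →* Multiplicative (Fin (X.lev k).length → F) where
  toFun g := Multiplicative.ofAdd fun i => X.cf g.1 (((X.lev k).get i).headD 0)
  map_one' := by
    rw [← ofAdd_zero]
    refine congrArg Multiplicative.ofAdd (funext fun i => ?_)
    exact X.cf_one_lev (List.get_mem (X.lev k) i)
  map_mul' g h := by
    rw [← ofAdd_add]
    refine congrArg Multiplicative.ofAdd (funext fun i => ?_)
    exact X.cf_mul_lev (List.get_mem (X.lev k) i) g.2.1 h.2.1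

theorem piK_ker {k : ℕ} (g : ↥(X.S.Uh T F ((k : ℤ) + 1) ⊓ X.Fx)) :
    X.piK k g = 1 ↔ g.1 ∈ X.S.Uh T F ((k : ℤ) + 2) := by
  have hk : (1 : ℤ) ≤ (k : ℤ) + 1 := by omega
  constructor
  · intro h
    have h' : ∀ i, X.cf g.1 (((X.lev k).get i).headD 0) = 0 := fun i =>
      congrFun (congrArg Multiplicative.toAdd h) i
    rw [show (k : ℤ) + 2 = ((k : ℤ) + 1) + 1 by ring]
    refine X.S.Uh_succ_of_coef X.hT hk g.2.1 fun r hr => ?_
    obtain ⟨c, hc, hrc⟩ := X.lev_cover r.isLt hr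
    obtain ⟨i, hi⟩ := List.get_of_mem hc
    have h0 := h' i
    rw [hi] at h0
    have e := (X.orbW_eq_cf hk g.2.1 g.2.2 c _ (X.lev_spec hc).2.2.1 fun r hr =>
      ⟨((X.lev_spec hc).1 r hr).1, ((X.lev_spec hc).1 r hr).2.le⟩).1
    rw [h0] at e
    have hz : ∀ (c : List ℕ) (p : ℕ × F), p ∈ X.orbW c 0 → p.2 = 0 := by
      intro c
      induction c with
      | nil => intro p hp; simp [orbW] at hp
      | cons a c ih =>
        intro p hp
        rw [orbW, map_zero, mul_zero] at hp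
        rcases List.mem_cons.1 hp with rfl | hp
        · rfl
        · exact ih p hp
    have := hz c (r.val, X.cf g.1 r.val) (by rw [e]; exact List.mem_map.2 ⟨r.val, hrc, rfl⟩)
    rwa [X.cf_val] at this
  · intro h
    refine congrArg Multiplicative.ofAdd (funext fun i => ?_)
    have hm := List.get_mem (X.lev k) i
    have hs := (X.lev_spec hm).1 _ (X.headD_mem (X.lev_ne_nil hm))
    rw [X.cf_of_lt _ hs.1, X.S.coef_eq_zero X.hT (by omega) ⟨((X.lev k).get i).headD 0, hs.1⟩ (by simp only; omega) h]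
    rfl

theorem cls_ne {k : ℕ} {i j : Fin (X.lev k).length} (h : i ≠ j) {r : ℕ} (hi : r ∈ (X.lev k).get i) :
    r ∉ (X.lev k).get j := by
  intro hj
  have hp := (List.nodup_flatMap.1 (X.lev_nodup k)).2
  rcases lt_or_gt_of_ne h with hlt | hlt
  · exact List.pairwise_iff_get.1 hp i j hlt hi hj
  · exact List.pairwise_iff_get.1 hp j i hlt hj hi

theorem piK_range (k : ℕ) (t : Fin (X.lev k).length → F) :
    Multiplicative.ofAdd t ∈ (X.piK k).range ↔ ∀ i, t i ∈ X.Allowed ((X.lev k).get i) := by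
  have hk : (1 : ℤ) ≤ (k : ℤ) + 1 := by omega
  constructor
  · rintro ⟨g, hg⟩ i
    have := congrFun (congrArg Multiplicative.toAdd hg) i
    change X.cf g.1 _ = t i at this
    rw [← this]
    have hm := List.get_mem (X.lev k) i
    exact (X.orbW_eq_cf hk g.2.1 g.2.2 _ _ (X.lev_spec hm).2.2.1 fun r hr =>
      ⟨((X.lev_spec hm).1 r hr).1, ((X.lev_spec hm).1 r hr).2.le⟩).2 (X.lev_ne_nil hm)
  · intro ht
    let gg : Fin (X.lev k).length → ↥(X.S.Uh T F ((k : ℤ) + 1) ⊓ X.Fx) := fun i =>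
      ⟨X.y ((X.lev k).get i) (t i), X.y_mem_lev (List.get_mem _ i) (ht i)⟩
    have hg : ∀ i j, (X.piK k (gg j)).toAdd i = if j = i then t i else 0 := by
      intro i j
      show X.cf (X.y _ _) _ = _
      have hmi := List.get_mem (X.lev k) i
      by_cases e : j = i
      · subst e
        rw [if_pos rfl]
        exact (X.cf_y hmi hmi _).1 rfl
      · rw [if_neg e]
        exact (X.cf_y hmi (List.get_mem _ j) _).2 (X.cls_ne (Ne.symm e) (X.headD_mem (X.lev_ne_nil hmi)))
    refine ⟨(List.ofFn gg).prod, ?_⟩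
    refine Multiplicative.toAdd.injective (funext fun i => ?_)
    rw [map_list_prod, toAdd_list_sum, List.map_map, List.map_ofFn, List.sum_ofFn,
      Finset.sum_apply, toAdd_ofAdd]
    simp only [Function.comp_apply, hg]
    rw [Finset.sum_ite_eq' Finset.univ i, if_pos (Finset.mem_univ i)]

theorem Ufix_top {k : ℕ} (hk : W.lv.length ≤ k) : X.S.Uh T F ((k : ℤ) + 1) = ⊥ :=
  X.S.Uh_bot X.hT fun r hr => by have := X.hgt_le hr; omega

theorem Ufix_le {H : Subgroup (GL D.Idx F)}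
    (hH : ∀ k, ∀ c ∈ X.lev k, ∀ t ∈ X.Allowed c, X.y c t ∈ H) :
    ∀ n k, W.lv.length ≤ n + k → X.S.Uh T F ((k : ℤ) + 1) ⊓ X.Fx ≤ H := by
  intro n
  induction n with
  | zero => intro k hk; rw [X.Ufix_top (by omega), bot_inf_eq]; exact bot_le
  | succ n ih =>
    intro k hk g hg
    let t : Fin (X.lev k).length → F := fun i => X.cf g (((X.lev k).get i).headD 0)
    have ht : ∀ i, t i ∈ X.Allowed ((X.lev k).get i) := (X.piK_range k t).1 ⟨⟨g, hg⟩, rfl⟩
    have hP : ∀ (L : List (Fin (X.lev k).length)),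
        (L.map fun i => X.y ((X.lev k).get i) (t i)).prod ∈ H := fun L =>
      list_prod_mem fun x hx => by
        obtain ⟨i, -, rfl⟩ := List.mem_map.1 hx
        exact hH k _ (List.get_mem _ i) _ (ht i)
    obtain ⟨p, hp, hpv⟩ : ∃ p : ↥(X.S.Uh T F ((k : ℤ) + 1) ⊓ X.Fx), (p.1 ∈ H) ∧
        X.piK k p = X.piK k ⟨g, hg⟩ := by
      have hmem : Multiplicative.ofAdd t ∈ (Subgroup.map (X.piK k)
          (H.comap (Subgroup.subtype _))) := by
        have : ∀ i, Multiplicative.ofAdd (Pi.single i (t i)) ∈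
            (Subgroup.map (X.piK k) (H.comap (Subgroup.subtype _))) := by
          intro i
          refine ⟨⟨X.y _ (t i), X.y_mem_lev (List.get_mem _ i) (ht i)⟩, hH k _ (List.get_mem _ i) _ (ht i),
            Multiplicative.toAdd.injective (funext fun j => ?_)⟩
          show X.cf (X.y _ _) _ = _
          have hmj := List.get_mem (X.lev k) j
          rw [toAdd_ofAdd]
          by_cases e : i = j
          · subst e
            rw [Pi.single_eq_same]
            exact (X.cf_y hmj hmj _).1 rfl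
          · rw [Pi.single_eq_of_ne (Ne.symm e)]
            exact (X.cf_y hmj (List.get_mem _ i) _).2 (X.cls_ne (Ne.symm e) (X.headD_mem (X.lev_ne_nil hmj)))
        rw [← Finset.univ_sum_single t, ofAdd_sum]
        exact Subgroup.prod_mem _ fun i _ => this i
      obtain ⟨p, hp, hpv⟩ := hmem
      exact ⟨p, hp, hpv⟩
    have hq : X.piK k (⟨g, hg⟩ * p⁻¹) = 1 := by rw [map_mul, map_inv, hpv, mul_inv_cancel]
    have h2 := (X.piK_ker _).1 hq
    have h3 := ih (k + 1) (by omega) ⟨by rw [show ((k + 1 : ℕ) : ℤ) + 1 = (k : ℤ) + 2 by push_cast; ring]; exact h2,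
      (⟨g, hg⟩ * p⁻¹).2.2⟩
    simpa using mul_mem h3 hp

theorem card_Ufix : ∀ n k, W.lv.length ≤ n + k →
    Nat.card ↥(X.S.Uh T F ((k : ℤ) + 1) ⊓ X.Fx) =
      X.q ^ ((List.range' k n).map fun j => ((X.lev j).map List.length).sum).sum := by
  intro n
  induction n with
  | zero =>
    intro k hk
    rw [X.Ufix_top (by omega), bot_inf_eq]
    simp
  | succ n ih =>
    intro k hk
    have hker : Nat.card (X.piK k).ker = Nat.card ↥(X.S.Uh T F (((k + 1 : ℕ) : ℤ) + 1) ⊓ X.Fx) := by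
      rw [show ((k + 1 : ℕ) : ℤ) + 1 = (k : ℤ) + 2 by push_cast; ring]
      refine Nat.card_congr ⟨fun g => ⟨g.1.1, (X.piK_ker g.1).1 g.2, g.1.2.2⟩,
        fun g => ⟨⟨g.1, X.S.Uh_mono (by omega) g.2.1, g.2.2⟩, (X.piK_ker _).2 g.2.1⟩,
        fun _ => rfl, fun _ => rfl⟩
    have hran : Nat.card (X.piK k).range = X.q ^ ((X.lev k).map List.length).sum := by
      rw [Nat.card_congr (⟨fun x i => ⟨x.1.toAdd i, (X.piK_range k x.1.toAdd).1 x.2 i⟩,
        fun t => ⟨Multiplicative.ofAdd fun i => (t i).1, (X.piK_range k _).2 fun i => (t i).2⟩,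
        fun _ => rfl, fun _ => rfl⟩ : (X.piK k).range ≃ ∀ i, X.Allowed ((X.lev k).get i)), Nat.card_pi,
        Finset.prod_congr rfl fun i _ => X.card_allowed (List.get_mem (X.lev k) i),
        Finset.prod_pow_eq_pow_sum, ← List.sum_ofFn]
      congr 2
      conv_rhs => rw [← List.ofFn_get (X.lev k), List.map_ofFn]
      rfl
    rw [← Subgroup.index_mul_card (X.piK k).ker, Subgroup.index_ker, hker, ih (k + 1) (by omega), hran,
      ← pow_add]
    simp [List.range'_succ]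

theorem U_eq : D.posUnipotent F = X.S.Uh T F ((0 : ℕ) + 1) := by
  rw [← X.S.Uh_one X.hT]; norm_num

theorem card_U_fix : Nat.card ↥(D.posUnipotent F ⊓ X.Fx) = X.q ^ (W.lv.map fun L => (L.map List.length).sum).sum := by
  rw [X.U_eq, X.card_Ufix W.lv.length 0 le_rfl]
  congr 2
  refine List.ext_getElem (by simp) fun i h1 h2 => ?_
  have : i < W.lv.length := by simpa using h2
  simp only [List.getElem_map, List.getElem_range', lev, zero_add, one_mul, List.getD_eq_getElem _ _ this]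

theorem U_fix_le {H : Subgroup (GL D.Idx F)}
    (hH : ∀ k, ∀ c ∈ X.lev k, ∀ t ∈ X.Allowed c, X.y c t ∈ H) : D.posUnipotent F ⊓ X.Fx ≤ H := by
  rw [X.U_eq]
  exact X.Ufix_le hH W.lv.length 0 le_rfl

end Tw

end Cfsg.Lib.Chev
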